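import Mathlib
import Cfsg.Agent.Lib.A7S.HD
import Cfsg.Agent.Lib.A7S.HE
import Cfsg.Agent.Lib.A7S.HG
import Cfsg.Agent.Lib.A7S.HH
import Cfsg.Agent.Lib.A7S.HT
import Cfsg.Agent.Lib.A7S.HQ
import Cfsg.Agent.Lib.A7S.HU
import Cfsg.Agent.Lib.A7S.NH

/-! The end `UT₅(2)`. -/

set_option autoImplicit false

namespace H25.A7

open Subgroup H69 H36.SW

variable {G : Type*} [Group G] [Finite G]

namespace Fr

theorem HB.lh {F : Fr G} {g d v η h : G} (b : F.HB g d v η h) (cE : ∀ x ∈ 𝐂(F.E), x = 1) : F.t ∉ F.E ∧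
    ((∃ (K : Type) (_ : Field K) (_ : Fintype K), Fintype.card K = 2 ∧
      Nonempty (F.E ≃* Matrix.ProjectiveSpecialLinearGroup (Fin 5) K)) ∨ Cfsg.Spor.IsoHe F.E) := by
  obtain ⟨P, θ, e1, b⟩ := b.hp b.sylY
  obtain ⟨h1, h2, h4⟩ := b.transfer (isSylowIn_of_normalizer le_top
    (b.sylN.mono (le_inf le_top le_normalizer) (inf_le_right.trans b.char)))
  obtain ⟨x, u⟩ := b.u5
  refine ⟨h1, ?_⟩
  rcases u.tricho F.Es h2 h4 with ⟨⟨e⟩⟩ | ⟨⟨e⟩⟩ | e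
  · exact Or.inl ⟨ZMod 2, inferInstance, inferInstance, ZMod.card 2, ⟨e.trans H49.He.slPsl⟩⟩
  · have := F.En
    have h3 : (Cfsg.Inn Cfsg.M24).index = 1 := Cfsg.Agent.S2064.result
    refine absurd (NH.mem_of_inn e cE ?_) h1
    rw [index_eq_one.1 h3]
    exact mem_top _
  · exact Or.inr e

end Fr

end H25.A7
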