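import Mathlib
import Cfsg.Agent.Lib.A6S.Dbl
import Cfsg.Agent.Lib.A6S.TrB
import Cfsg.Agent.Lib.A6S.GI

/-! Case `All`: the three types. -/

set_option autoImplicit false
set_option linter.unusedSectionVars false

namespace H25.A6

open Subgroup H69 H36.SW TrB GI

variable {G : Type*} [Group G] [Finite G]

namespace GA

variable {F : Fr G} {ub za zc g d v η ub' za' zc' g' d' v' η' : G}

theorem nz (hu : F.u1 ≠ 1) {x : G} (hx : x = 1 ∨ x = F.z) : F.u2 ≠ x := fun e => by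
  rw [F.u2_eq hu] at e
  rcases hx with rfl | rfl
  · simpa using (F.ind (a := 0) (b := 0) (c := 0) (d := 1) (e := 1) (by simpa using e)).2.2.2.1
  · exact hu (by simpa using e)

theorem zz {x y : G} (hx : x = 1 ∨ x = F.z) (hy : y = 1 ∨ y = F.z) : x * y = 1 ∨ x * y = F.z := by
  rcases hx with rfl | rfl <;> rcases hy with rfl | rfl <;> simp [F.zz]

theorem ex_eq (hu : F.u1 ≠ 1) {i j p q : Fin 2}
    (e : F.z ^ (p : ℕ) * F.u1 ^ (q : ℕ) = F.z ^ (i : ℕ) * F.u1 ^ (j : ℕ)) : i = p ∧ j = q := by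
  have c : Commute F.z F.u1 := F.zu1
  have := F.ind (a := 0) (b := 0) (c := 0) (d := i + p) (e := j + q) (by
    rw [pw F.zz, pw F.u11, Fin.val_zero, pow_zero, pow_zero, pow_zero, one_mul, one_mul, one_mul,
      ((c.pow_pow p j).mul_mul_mul_comm _ _), ← e]
    exact f2 (mul_mem (pow_mem (mF F).1 _) (pow_mem (mF F).2 _)))
  have k : ∀ a b : Fin 2, a + b = 0 → a = b := by decide
  exact ⟨k _ _ this.2.2.2.1, k _ _ (this.2.2.2.2.resolve_right hu)⟩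

theorem zt (hu : F.u1 ≠ 1) {τ y x ε : G} (hτ : τ ∈ F.T) (e : x = τ * y) (y1 : y ∈ 𝐂(F.X1))
    (y2 : F.v2 * y = y * F.v2) (x2 : F.v2 * x = x * F.v2) (x1 : F.v1 * x * F.v1 = x * ε)
    (hε : ε = 1 ∨ ε = F.u2) : ε = 1 ∧ ∃ f ∈ F.F0, τ = f ∨ τ = F.t * f := by
  have c2 : F.v2 * τ = τ * F.v2 := by
    rw [eq_mul_inv_of_mul_eq e.symm]; exact (Commute.mul_right x2 (Commute.inv_right y2)).eq
  have mε : ε ∈ F.X1 := by rcases hε with rfl | rfl; exacts [one_mem _, F.u2X1]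
  have c1 : F.v1 * τ * F.v1 = τ * ε := by
    rw [e, mul_assoc, mul_assoc, ← y1 _ (mX F).2.1, mul_assoc, ← y1 _ mε] at x1
    simpa only [← mul_assoc, mul_left_inj] using x1
  have τ2 : τ * τ = 1 := F.sw.sqW1 ((F.sw.cenv1 (F.sw_T ▸ hτ)).1 c2.symm)
  have e1 : ε = 1 := hε.elim id fun k => by
    have := F.sqT (mul_mem (mT F).2.1 hτ)
    rw [← mul_assoc, c1, k, F0c F (show F.u2 ∈ F.F0 from subset_closure (by simp)) _ hτ, mul_assoc,
      τ2, mul_one] at this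
    exact (nz hu this rfl).elim
  exact ⟨e1, inZT hτ (of_v F.v11 (by rw [c1, e1, mul_one])) c2⟩

theorem gvt (hu : F.u1 ≠ 1) (h : F.Tr F.u1 ub za zc g d v η) :
    g * v * F.t * (g * v)⁻¹ = F.t * F.u2 := by
  have := ct h (one_mem _) 1 1
  simpa [F.u2_eq hu] using this

theorem v2v (c : F.CA) (h : F.Tr F.u1 ub za zc g d v η) : F.v2 * v * F.v2 = v * ub := by
  have n : g * v ∈ F.NN := h.normN (mul_mem (subset_closure (by simp)) (subset_closure (by simp)))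
  have m2 : F.v2 ∈ F.V2 := subset_closure (by simp)
  have k : g * v * F.v2 * (g * v)⁻¹ ∈ F.V2 :=
    conj_mem_of_mem_normalizer (F.sw.PT n.2.2 (gvt c.u1 h) (c.fx2 _ n)) m2
  obtain ⟨ε, hε, e⟩ : ∃ ε, (ε = 1 ∨ ε = F.u1) ∧ F.v2 * v * F.v2 = v * ε :=
    h.v2v.elim (fun e => ⟨1, .inl rfl, by rw [e, mul_one]⟩) fun e => ⟨_, .inr rfl, e⟩
  have mε : ε ∈ F.X1 := by rcases hε with rfl | rfl; exacts [one_mem _, (mX F).2.2]
  have e1 : v * F.v2 * v⁻¹ = F.v2 * ε := by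
    rw [mul_inv_eq_iff_eq_mul, mul_assoc, h.vX _ mε, ← e, ← mul_assoc, ← mul_assoc, F.v22, one_mul]
  rw [show g * v * F.v2 * (g * v)⁻¹ = g * (v * F.v2 * v⁻¹) * g⁻¹ by group, e1, ← conj_mul, gv2 h,
    conj_eq_of_mem_centralizer h.gX mε, mul_assoc, F.V2.mul_mem_cancel_left m2] at k
  rw [e]
  rcases hε with rfl | rfl <;> rcases h.hb with e' | e' <;> rw [e'] at k ⊢
  · exact (c.u1 (uV2 (by simpa using k))).elim
  · exact (c.u1 (uV2 (by simpa using k))).elim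

theorem rd (h : F.Tr F.u1 ub za F.z g d v η) : F.t * v * d = d * (F.t * v) := by
  have e : v * d * v = d * F.v1 := by
    rcases h.vd with e | e
    exacts [(F.z1 e.1).elim, e.2]
  rw [← mul_assoc, mul_inv_eq_iff_eq_mul.1 h.dt, mul_assoc F.t F.v1, h.dX _ (mX F).2.1, ← e,
    mul_assoc, mul_assoc, mul_assoc, h.vv, mul_one]

end GA

open GA

namespace Fr

theorem CA.split {F : Fr G} (c : F.CA) (xt : F.XT) :
    (∃ g v d1 d2, F.EE F.u1 g v d1 d2) ∨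
    (∃ g g' r r' d1 d2 η1 η2, F.ZZ F.u1 g g' r r' d1 d2 η1 η2) ∨
    ∃ za zc g d v η, F.Tr F.u1 F.u1 za zc g d v η ∧ F.v2 * v * F.v2 = v * F.u1 := by
  obtain ⟨σ, hσ, e⟩ := c.sz
  obtain ⟨σ', hσ', e'⟩ := c.s1
  obtain ⟨ub, za, zc, g, d, v, η, h⟩ := F.dbl
    (pure' hσ.1 (c.fx1 σ hσ) (xt σ hσ.2.1 e (F.Nz hσ.1) (c.fx1 σ hσ)) e)
    (.inr ⟨rfl, c.u1, pure' hσ'.1 (c.fx1 σ' hσ') (F.PT hσ'.2.1 e' (c.fx1 σ' hσ')) e'⟩)
  have hv := v2v c h
  rcases h.hb with rfl | rfl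
  swap
  · exact .inr (.inr ⟨_, _, _, _, _, _, h, hv⟩)
  have c2g : F.v2 * g = g * F.v2 := of_v F.v22 (by rw [h.v2g, mul_one])
  have c2v : F.v2 * v = v * F.v2 := of_v F.v22 (by rw [hv, mul_one])
  have c2 : F.v2 * (g * v) = g * v * F.v2 := (Commute.mul_right c2g c2v).eq
  have gvX := mul_mem h.gX h.vX
  obtain ⟨ub', za', zc', g0, d0, v0, η0, h0⟩ := F.sw.dbl (u0 := F.u2)
    ⟨g, cen3 (h.gX _ (mX F).1) c2g (h.gX _ F.u2X1), h.gt⟩
    (.inr ⟨rfl, c.u2, g * v, cen3 (gvX _ (mX F).1) c2 (gvX _ F.u2X1), gvt c.u1 h⟩)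
  obtain ⟨g', d', v', η', h', mg, mv⟩ := al h (.inr ⟨rfl, c⟩) h0
  obtain ⟨τ, hτ, i, j, e1, k1⟩ := expo h mg
  obtain ⟨τ', hτ', i', j', e2, k2⟩ := expo h mv
  have gt : g' * F.t * g'⁻¹ = F.t * F.z := h'.gt
  have vt : v' * F.t * v'⁻¹ = F.t * F.u2 := h'.vt
  obtain ⟨rfl, rfl⟩ := ex_eq c.u1 (i := i) (j := j) (p := 1) (q := 0) (by simpa [gt] using k1)
  obtain ⟨rfl, rfl⟩ := ex_eq c.u1 (i := i') (j := j') (p := 1) (q := 1)
    (by simpa [vt, F.u2_eq c.u1] using k2)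
  simp only [Fin.val_one, Fin.val_zero, pow_one, pow_zero, mul_one, mul_assoc τ'] at e1 e2
  obtain ⟨rfl, f, hf, k⟩ := GA.zt c.u1 hτ e1 h.gX c2g (h'.gX _ (mX F.sw).2.1) h'.v2g h'.hb
  obtain ⟨ε, hε, e3⟩ : ∃ ε, (ε = 1 ∨ ε = F.u2) ∧ F.v1 * v' * F.v1 = v' * ε :=
    h'.v2v.elim (fun e => ⟨1, .inl rfl, e.trans (mul_one _).symm⟩) fun e => ⟨_, .inr rfl, e⟩
  obtain ⟨-, f', hf', k'⟩ := GA.zt c.u1 hτ' e2 gvX c2 (h'.vX _ (mX F.sw).2.1) e3 hε
  have gg : g * g = za := by rw [h.gg, mul_one]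
  have s2 : g * v * (g * v) = za * zc := by
    rw [mul_assoc, ← mul_assoc v, h.vg, ← mul_assoc, gg]
  have mza := (mem4 h).2.2.1
  rcases k' with k' | k'
  swap
  · have := h'.vv
    rw [e2, k', sqt hf' gvX (gvt c.u1 h), s2] at this
    refine (GA.nz c.u1 (GA.zz h.ha h.hc) ((eq_inv_of_mul_eq_one_left this).trans ?_)).elim
    exact inv_eq_of_mul_eq_one_right (f2 (mul_mem mza (mem4 h).2.2.2))
  rw [k'] at e2
  obtain rfl : zc = za := by
    have := h'.vv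
    rw [e2, sqf hf' gvX, s2] at this
    exact (eq_inv_of_mul_eq_one_right this).trans (inv_eq_of_mul_eq_one_right (f2 mza))
  have cf := fun {x} (hx : x ∈ F.F0) => h'.vX x (F0X2 hx)
  have vgv : v' * g * v' = g * zc := by
    have a1 := h.gX _ (F.F0X1 hf')
    have a2 := h.vX _ (F.F0X1 hf')
    have a3 := h.vX _ (F.F0X1 mza)
    calc _ = f' * g * v * (g * f') * g * v := by rw [e2]; group
      _ = f' * g * (v * f') * (g * g * v) := by rw [← a1]; group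
      _ = f' * (g * f') * v * (zc * v) := by rw [← a2, gg]; group
      _ = f' * f' * g * (v * v) * zc := by rw [← a1, a3]; group
      _ = _ := by rw [f2 hf', h.vv, one_mul, mul_one]
  rcases k with k | k
  swap
  · have := h'.vg
    rw [e1, k, show v' * (F.t * f * g) * v' = v' * F.t * v'⁻¹ * (v' * f) * g * v' by group, vt,
      ← cf hf, show F.t * F.u2 * (f * v') * g * v' = F.t * (F.u2 * f) * (v' * g * v') by group, vgv,
      F0c F hf _ (F.W1T (F.X1W1 F.u2X1)), ← mul_assoc, ← mul_assoc, mul_assoc _ F.u2,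
      h.gX _ F.u2X1, ← mul_assoc, mul_assoc _ F.u2, mul_right_inj] at this
    refine (GA.nz c.u1 (GA.zz h'.hc h.ha) ?_).elim
    rw [← this, mul_assoc, f2 mza, mul_one]
  rw [k] at e1
  obtain rfl : za' = zc := by
    have := h'.gg
    rwa [e1, sqf hf h.gX, gg, mul_one, eq_comm] at this
  obtain rfl : zc' = za' := by
    have := h'.vg
    rwa [e1, ← mul_assoc, ← cf hf, mul_assoc f, mul_assoc f, vgv, ← mul_assoc, mul_right_inj,
      eq_comm] at this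
  have dg := dg' h h' hf e1
  have df := fun {x} (hx : x ∈ F.F0) => h'.dX x (F0X2 hx)
  have ev : v = g⁻¹ * f'⁻¹ * v' := by rw [e2]; group
  rcases h.ha with rfl | rfl
  · refine .inl ⟨_, _, _, _, mkEE h h' (.inr ⟨rfl, c⟩) hf e1 c2v ?_⟩
    have : v' * d' * v' = d' := by
      rcases h'.vd with e | e
      exacts [e.2, (F.z1 e.1.symm).elim]
    rw [ev]
    exact (((Commute.inv_left dg).mul_left (df (inv_mem hf'))).mul_left (of_v h'.vv this)).eq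
  · have rr : ∀ {x s : G}, x * x = 1 → x * F.t * x⁻¹ = F.t * s → F.t * x * (F.t * x) = s :=
      fun {x s} x2 e => by
        rw [mul_assoc, ← mul_assoc x, mul_inv_eq_iff_eq_mul.1 e, mul_assoc, x2, mul_one, ← mul_assoc,
          F.tt, one_mul]
    have e4 : g * (F.t * v) = F.t * F.z * (g * v) := by
      rw [← mul_assoc, mul_inv_eq_iff_eq_mul.1 h.gt, mul_assoc]
    have e5 : g * (F.t * v) * (F.z * f') = F.t * v' := by
      rw [e4, e2, mul_assoc, ← gvX _ (F.F0X1 (mul_mem (mF F).1 hf')), mul_assoc, mul_assoc F.z f',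
        ← mul_assoc F.z, F.zz, one_mul]
    refine .inr (.inl ⟨_, _, F.t * v, F.t * v', _, _, _, _, mkZZ h h'
      (.inr ⟨rfl, rr h'.vv vt, by rw [← e5, inv_mul_cancel_left]; exact mul_mem (mF F).1 hf', c⟩)
      hf e1 (rr h.vv h.vt) ?_ (mul_mem (cen3 F.tv1.symm F.tv2.symm F.tu1.symm)
        (cen3 (h.vX _ (mX F).2.1) c2v (h.vX _ (mX F).2.2))) ?_ (rd h) ?_ ?_ ?_⟩)
    · rw [e4, mul_assoc, mul_assoc, ← mul_assoc F.z, h.gX _ (mX F).1, ← h.vg, mul_assoc, h.vv, mul_one]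
    · rw [← mul_assoc, F.tt, one_mul, mul_inv_rev, inv_eq_of_mul_eq_one_right h.vv,
        inv_eq_of_mul_eq_one_right F.tt]
    · rw [show F.t * v = g⁻¹ * (F.t * v') * (F.z * f')⁻¹ by rw [← e5]; group]
      exact (((Commute.inv_left dg).mul_left (rd (F := F.sw) h')).mul_left
        (df (inv_mem (mul_mem (mF F).1 hf')))).eq
    · exact (Commute.mul_right (ηt h) h.ηv).eq
    · exact (Commute.mul_right (ηt (F := F.sw) h') h'.ηv).eq

/-- translations on both sides -/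
theorem CA.split2 {F : Fr G} (c : F.CA) (xt : F.XT) (xt2 : F.sw.XT) :
    (∃ g v d1 d2, F.EE F.u1 g v d1 d2) ∨ ∃ g g' r r' d1 d2 η1 η2, F.ZZ F.u1 g g' r r' d1 d2 η1 η2 := by
  rcases c.split xt with e | e | ⟨za, zc, g, d, v, η, h, -⟩
  exacts [.inl e, .inr e, by
    have m2 : F.v2 ∈ F.V2 := subset_closure (by simp)
    have k : g * F.v2 * g⁻¹ ∈ F.V2 := conj_mem_of_mem_normalizer (xt2 g (h.normN (subset_closure (by simp))).2.2 h.gt
      (h.gX _ (mX F).1).symm (h.gX _ F.u2X1).symm) m2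
    rw [gv2 h, F.V2.mul_mem_cancel_left m2] at k
    exact (c.u1 (uV2 k)).elim]

theorem xt_dl (F : Fr G) (d : F.dl ≠ 1) (xt : F.XT) : F.sw.XT := fun σ hσ e hz hu => by
  obtain ⟨a, b, -, c, -⟩ := F.hdl.resolve_left d
  have eV : F.V2 ^ᶜ F.dl = F.V1 := by
    rw [V2, MonoidHom.map_closure, Set.image_pair]
    change closure {F.dl * F.z * F.dl⁻¹, F.dl * F.v2 * F.dl⁻¹} = _
    rw [F.dlz, b]; rfl
  have k := xt (F.dl * σ * F.dl⁻¹) (B2.norm_cj (F.sw.dlW d) hσ) (by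
    have := congrArg (fun x => F.dl * x * F.dl⁻¹) e
    change F.dl * (σ * F.t * σ⁻¹) * F.dl⁻¹ = F.dl * (F.t * F.z) * F.dl⁻¹ at this
    rw [B2.cj_mul F.dl F.t, F.dlz, B2.cj_of_comm F.dlt] at this
    rw [← this]
    conv_lhs => rw [← B2.cj_of_comm F.dlt]
    group) (F.dlz ▸ B2.comm_cj F.dl hz) (c ▸ B2.comm_cj F.dl hu)
  rw [← eV, ← cj_normalizer] at k
  change σ ∈ 𝐍(F.V2)
  simpa [mul_assoc] using mem_cj.1 k

end Fr

end H25.A6
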