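import Cfsg.Agent.Lib.A6S.HE

/-! The statements of this package are proved in `Lib/A6S/HE.lean`. -/
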