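import Mathlib
import Cfsg.Agent.Lib.A6S.HE

/-! Parts of package HV. -/

set_option autoImplicit false

namespace H25.A6

open Subgroup H69 H36.SW H25.A7

variable {G : Type*} [Group G] [Finite G]

namespace Fr
variable {F : Fr G} {u0 g g' v d1 d2 η η1 η2 κ k a b γ : G}

omit [Finite G] in
theorem EN.HVxs (h : F.EN u0 g v d1 d2 η κ) (d : F.dl ≠ 1) : F.t * κ * (F.t * κ) = 1 := by
  have a := (h.kd.resolve_right fun e => d e.1).2.1
  have b := (h.sq.resolve_right fun e => d e.1).2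
  rw [mul_assoc, ← mul_assoc κ, a, mul_assoc, b, mul_one, F.tt]

theorem EN.HVxκ (h : F.EN u0 g v d1 d2 η κ) : κ ∉ F.U g v d1 d2 := fun e =>
  F.u12ne (by rw [← h.κu1, ← mem_centralizer_iff_commute.1 (h.ek.toEE.b_UC e) _ (EA_u g v), mul_inv_cancel_right])

theorem EN.HVxu (h : F.EN u0 g v d1 d2 η κ) : F.u1 ∉ F.Ud g := fun e =>
  absurd (h.indZ (i := 1) (j := 0) (by simpa using h.UdU0 e)).1 (by decide)

theorem EN.ku' (h : F.EN u0 g v d1 d2 η κ) (q : F.KK g v d1 d2 κ k) :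
    ∃ c ∈ F.Ud g, c ≠ 1 ∧ c ≠ F.z ∧ k * F.u1 * k⁻¹ = F.u1 * c := by
  have ss := h.HVxs q.d
  have e0 := h.ek.toEE
  have cm : ∀ {x y}, x ∈ F.Z0 g v → y ∈ F.Z0 g v → x * y = y * x := fun hx hy =>
    mem_centralizer_iff_commute.1 (e0.b_Zab hy) _ hx
  have wZ := conj_mem_of_mem_normalizer q.kZ (EA_u g v)
  have fx : F.t * κ * (k * F.u1 * k⁻¹) * (F.t * κ)⁻¹ = k * F.u1 * k⁻¹ := by
    have a := mem_centralizer_iff_commute.1 (e0.b_UC q.kt) _ wZ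
    have b := B2.comm_cj k F.tu1
    rw [mul_inv_eq_iff_eq_mul, ← mul_left_inj ((F.t * κ)⁻¹ * (k * F.t * k⁻¹)), mul_assoc, a, mul_assoc _ (F.t * κ),
      mul_inv_cancel_left, ← b, ← mul_assoc, mul_inv_cancel_left]
  have wU : k * F.u1 * k⁻¹ ∉ F.Ud g := fun e => h.HVxu ((mem_normalizer_iff.1 (h.NUd q.kU) _).2 e)
  have sN : F.t * κ ∈ 𝐍(F.Ud g) := h.NUd (mul_mem h.ek.tN h.κU)
  have su : F.t * κ * F.u1 * (F.t * κ)⁻¹ = F.z * F.u1 := by
    calc _ = F.t * (κ * F.u1 * κ⁻¹) * F.t⁻¹ := by group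
      _ = _ := by rw [h.κu1, F.tu2, mul_inv_cancel_right, F.u2_eq F.hu1]
  have z0 : F.z ∈ F.Ud g := subset_closure (by simp)
  have g0 : g ∈ F.Ud g := subset_closure (by simp)
  obtain ⟨c, hc, i, j, e⟩ := h.memZ.1 wZ
  have hj : v ^ (j : ℕ) = 1 := by
    by_contra n
    obtain rfl : j = 1 := by
      revert n; fin_cases j <;> simp
    obtain ⟨h0, ca⟩ := e0.cs.resolve_left fun e => n (by simp [e.2.1])
    let K := EB.tk (F.t * κ) (F.Z0 g v) (F.Ud g) (e0.b_ZU.trans (le_normalizer.trans h.NUd)) ss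
    have mK : ∀ {y}, y ∈ F.Z0 g v → (y ∈ K ↔ F.t * κ * y * (F.t * κ)⁻¹ * y⁻¹ ∈ F.Ud g) := fun hy => by
      rw [EB.mem_tk, inv_eq_of_mul_eq_one_right ss]; exact and_iff_right hy
    have k1 : c ∈ K := (mK (h.UdZ hc)).2 (mul_mem (conj_mem_of_mem_normalizer sN hc) (inv_mem hc))
    have k2 : F.u1 ∈ K := (mK (EA_u g v)).2 (by rwa [su, mul_inv_cancel_right])
    have k3 : k * F.u1 * k⁻¹ ∈ K := (mK wZ).2 (by rw [fx, mul_inv_cancel]; exact one_mem _)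
    rw [e, mul_mem_cancel_left (mul_mem k1 (pow_mem k2 _)), Fin.val_one, pow_one, mK (EA_v g v)] at k3
    obtain ⟨r, hr, er⟩ : ∃ r ∈ F.Ud g, κ * v * κ⁻¹ = v * r := (h.κv ca h0).elim (fun e => ⟨g, g0, e⟩)
      fun e => ⟨g * F.z, mul_mem g0 z0, by rw [e, mul_assoc]⟩
    have tv : F.t * v * F.t⁻¹ = F.u1 * v := by
      rw [inv_eq_of_mul_eq_one_right F.tt, ← h0, ← F.b2_tt u0, ← e0.vt, mul_assoc, mul_assoc, mul_assoc, mul_assoc,
        e0.vv, mul_one]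
    have hr' := conj_mem_of_mem_normalizer (h.NUd h.ek.tN) hr
    rw [show F.t * κ * v * (F.t * κ)⁻¹ = F.t * (κ * v * κ⁻¹) * F.t⁻¹ by group, er, B2.cj_mul, tv, mul_assoc F.u1,
      cm (EA_v g v) (h.UdZ hr'), ← mul_assoc, mul_inv_cancel_right] at k3
    exact h.HVxu ((mul_mem_cancel_right hr').1 k3)
  rw [hj, mul_one] at e
  obtain rfl : i = 1 := by
    revert e; fin_cases i
    · intro e; exact absurd (by simpa [e] using hc) wU
    · simp
  rw [Fin.val_one, pow_one] at e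
  rw [e, B2.cj_mul, su, ← mul_assoc, mul_left_inj] at fx
  refine ⟨c, hc, ?_, ?_, e.trans (cm (h.UdZ hc) (EA_u g v))⟩
  · rintro rfl; exact F.z1 (by simpa using fx)
  · rintro rfl
    have : F.t * κ * F.z * (F.t * κ)⁻¹ = F.z := by
      have a : κ * F.z * κ⁻¹ = F.z := by
        rw [← F.hz', B2.cj_mul, B2.cj_mul, B2.cj_mul, h.κv1, h.κv2, F.hz, F.hz']
      calc _ = F.t * (κ * F.z * κ⁻¹) * F.t⁻¹ := by group
        _ = _ := by rw [a, ← F.zt, mul_inv_cancel_right]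
    rw [this, F.zz] at fx
    exact F.z1 fx.symm

theorem EN.noinv' (h : F.EN u0 g v d1 d2 η κ) (q : F.KK g v d1 d2 κ k) {y : G} (hy : y ∈ F.U g v d1 d2) :
    F.t * k * y * (F.t * k * y) ∉ F.U g v d1 d2 ∧ F.t * κ * k * y * (F.t * κ * k * y) ∉ F.U g v d1 d2 := by
  have ky := conj_mem_of_mem_normalizer q.kU hy
  refine ⟨fun e => h.HVxκ ?_, fun e => h.HVxκ ?_⟩
  · rwa [show F.t * k * y * (F.t * k * y) = F.t * (k * y * k⁻¹) * F.t⁻¹ * κ *
        ((F.t * κ)⁻¹ * (k * F.t * k⁻¹) * (k * k) * y) by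
      calc _ = F.t * k * y * k⁻¹ * (F.t * F.t)⁻¹ * k * F.t * k * y := by rw [F.tt]; group
        _ = _ := by group, mul_mem_cancel_right (mul_mem (mul_mem q.kt q.kk) hy),
      mul_mem_cancel_left (conj_mem_of_mem_normalizer h.ek.tN ky)] at e
  · rwa [show F.t * κ * k * y * (F.t * κ * k * y) = F.t * κ * (k * y * k⁻¹) * (F.t * κ)⁻¹ *
        ((F.t * κ)⁻¹ * (k * F.t * k⁻¹)) * κ * (κ⁻¹ * (k * κ * k⁻¹) * (k * k) * y) by
      calc _ = F.t * κ * k * y * k⁻¹ * (F.t * κ * (F.t * κ))⁻¹ * k * F.t * κ * k * y := by rw [h.HVxs q.d]; group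
        _ = _ := by group, mul_mem_cancel_right (mul_mem (mul_mem q.kκ q.kk) hy),
      mul_mem_cancel_left (mul_mem (conj_mem_of_mem_normalizer (mul_mem h.ek.tN h.κU) ky) q.kt)] at e

end Fr

end H25.A6
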