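import Mathlib
import Cfsg.Agent.Lib.A6T.QB
import Cfsg.Agent.Lib.A6T.N1b
import Cfsg.Agent.Lib.A6T.SA2
import Cfsg.Agent.Lib.A6T.SE
import Cfsg.Agent.Lib.A6T.SF
import Cfsg.Agent.Lib.A6T.HS

/-! Standard subgroups of type `A₆`: the twisted case. -/

set_option autoImplicit false

namespace H25.A6

open Subgroup H69 H36.SW

variable {G : Type*} [Group G] [Finite G]

namespace Fr

theorem CA.tw {F : Fr G} (c : F.CA) (h1 : ¬ F.XT) (h2 : ¬ F.sw.XT) :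
    Cfsg.SectionalPRankLE 2 4 F.E ∨ Cfsg.Spor.IsoHS F.E := by
  obtain ⟨a, b, h, k⟩ := c.exTA h1 h2
  by_cases d : F.dl = 1
  · obtain ⟨a, b, p, q, um, um', η, η', h⟩ := h.exB
    exact .inl (h.tw.n1 d)
  · obtain ⟨a, b, p, um, η, h, db⟩ := h.exD (k d)
    obtain ⟨π, s⟩ := h.exS d db
    rcases s.hc with ⟨e, m, -⟩ | ⟨e, m, -⟩ | ⟨e, -⟩ | ⟨e, -⟩
    exacts [.inr (s.hs e m), (s.sf e m).elim, (s.se e).elim, (s.se e).elim]

end Fr

end H25.A6
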