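import Mathlib
import Cfsg.Agent.Lib.A6S.UDefs
import Cfsg.Agent.Lib.A7S.HT
import Cfsg.Agent.Lib.A6S.UF


/-! The Held case: transfer. -/

set_option autoImplicit false

namespace H25.A7

open Subgroup H69 H36.SW

variable {G : Type*} [Group G] [Finite G]

namespace Fr
variable {F : Fr G} {g d v η h θ e : G} {P : Subgroup G}

theorem UP.ht_v2P (b : F.UP g d v η h P θ e) : F.v2 ∉ P := fun m => by
  have := b.indS (a := 0) (c := 1) (k := 0) (by simpa using b.cen m)
  exact absurd this.2.1 (by decide)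

theorem UP.ht_u2P (b : F.UP g d v η h P θ e) : F.u2 ∈ P :=
  b.YP (b.toUB.memY.2 (Or.inl F.u2X1))

theorem UP.ht_mem1 (b : F.UP g d v η h P θ e) {y : G} :
    y ∈ P ⊔ zpowers F.v2 ↔ y ∈ P ∨ y * F.v2 ∈ P := by
  have i : F.v2⁻¹ = F.v2 := inv_eq_of_mul_eq_one_right F.v22
  rw [mem_adj b.v2N (by rw [F.v22]; exact P.one_mem), i]

theorem UP.ht_PE (b : F.UP g d v η h P θ e) : P ≤ F.E := by
  have hu : F.u1 ∈ F.E := b.hz ▸ F.En.conj_mem _ F.zE h
  have hv : v ∈ F.E := (mul_mem_cancel_right F.zE).1 (b.hv ▸ F.En.conj_mem _ F.v1E h)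
  rw [b.gen, closure_le]
  intro x hx
  simp only [Set.mem_insert_iff, Set.mem_singleton_iff] at hx
  rcases hx with rfl | rfl | rfl | rfl | rfl | rfl | rfl | rfl
  · exact F.zE
  · exact F.v1E
  · exact hu
  · exact hv
  · exact b.tr.gE
  · exact b.tr.dE
  · exact F.En.conj_mem _ b.tr.dE h
  · exact b.eE

theorem UP.ht_tE (b : F.UP g d v η h P θ e)
    (hS : IsSylowIn 2 (P ⊔ closure {F.t, F.v2, h} : Subgroup G) ⊤) : F.t ∉ F.E := by
  have ht : h * F.t = F.t * F.v2 * h := by rw [← b.ht]; group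
  have hsq : F.t * h * (F.t * h) = F.v2 * F.u2 := by
    calc F.t * h * (F.t * h) = F.t * (h * F.t) * h := by group
      _ = F.t * F.t * F.v2 * (h * h) := by rw [ht]; group
      _ = _ := by rw [F.tt, b.hh, one_mul]
  have cth : F.t * h * F.v2 = F.v2 * (F.t * h) := by
    rw [mul_assoc, b.hv2, ← mul_assoc, F.tv2, mul_assoc]
  have nP : F.t * h ∈ 𝐍(P) := Subgroup.mul_mem _ b.tN b.hN
  have n1 : F.t * h ∈ 𝐍((P ⊔ zpowers F.v2 : Subgroup G)) := ht_norm_adj nP cth
  have v1 : F.v2 ∈ P ⊔ zpowers F.v2 := mem_sup_right (mem_zpowers _)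
  have s1 : F.t * h * (F.t * h) ∈ P ⊔ zpowers F.v2 := by
    rw [hsq]; exact Subgroup.mul_mem _ v1 (mem_sup_left b.ht_u2P)
  have tS : F.t ∈ (P ⊔ closure {F.t, F.v2, h} : Subgroup G) :=
    mem_sup_right (subset_closure (by simp))
  have vS : F.v2 ∈ (P ⊔ closure {F.t, F.v2, h} : Subgroup G) :=
    mem_sup_right (subset_closure (by simp))
  have hS' : h ∈ (P ⊔ closure {F.t, F.v2, h} : Subgroup G) :=
    mem_sup_right (subset_closure (by simp))
  have pM : ∀ p ∈ P, p ∈ (P ⊔ zpowers F.v2) ⊔ zpowers (F.t * h) := fun p hp =>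
    mem_sup_left (mem_sup_left hp)
  have vM : F.v2 ∈ (P ⊔ zpowers F.v2) ⊔ zpowers (F.t * h) := mem_sup_left v1
  have kM : F.t * h ∈ (P ⊔ zpowers F.v2) ⊔ zpowers (F.t * h) := mem_sup_right (mem_zpowers _)
  refine thompson (S := P ⊔ closure {F.t, F.v2, h}) (M := (P ⊔ zpowers F.v2) ⊔ zpowers (F.t * h))
    F.En F.Es F.ncE F.tt hS ?_ tS ?_ ?_
  · refine sup_le (sup_le le_sup_left ?_) ?_
    · rwa [zpowers_le]
    · rw [zpowers_le]; exact Subgroup.mul_mem _ tS hS'
  · intro s hs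
    obtain ⟨p, hp, a, c, k, rfl⟩ := b.memS.1 hs
    have vc := Subgroup.pow_mem _ vM (c : ℕ)
    have ctv : F.t * F.v2 ^ (c : ℕ) = F.v2 ^ (c : ℕ) * F.t :=
      ((Commute.pow_right (show Commute F.t F.v2 from F.tv2) _)).eq
    fin_cases a <;> fin_cases k
    · left
      simpa using Subgroup.mul_mem _ (pM p hp) vc
    · right
      have : p * F.v2 ^ (c : ℕ) * h * F.t = p * F.v2 ^ (c : ℕ) * F.v2 * (F.t * h) := by
        rw [mul_assoc _ h, ht, F.tv2]; group
      simpa [this] using Subgroup.mul_mem _ (Subgroup.mul_mem _ (Subgroup.mul_mem _ (pM p hp) vc) vM) kM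
    · right
      have : p * F.t * F.v2 ^ (c : ℕ) * F.t = p * F.v2 ^ (c : ℕ) := by
        rw [mul_assoc p, ctv, mul_assoc, mul_assoc, F.tt, mul_one]
      simpa [this] using Subgroup.mul_mem _ (pM p hp) vc
    · left
      have : p * F.t * F.v2 ^ (c : ℕ) * h = p * F.v2 ^ (c : ℕ) * (F.t * h) := by
        rw [mul_assoc p, ctv]; group
      simpa [this] using Subgroup.mul_mem _ (Subgroup.mul_mem _ (pM p hp) vc) kM
  · intro k hk
    have o : F.Om (k * F.t * k⁻¹) := ⟨k, rfl⟩
    generalize k * F.t * k⁻¹ = x at hk o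
    have xx := o.sq.1
    rcases (mem_adj n1 s1).1 hk with m | m
    · rcases b.ht_mem1.1 m with m | m
      · exact b.toUB.nOm (b.cen m) o
      · have m' := conj_mem_of_mem_normalizer b.v2N m
        refine b.invv m' ?_
        have : F.v2 * (F.v2 * (x * F.v2) * F.v2⁻¹) = x := by
          rw [← mul_assoc, ← mul_assoc, F.v22]; group
        rwa [this]
    · apply b.ht_v2P
      obtain ⟨y, rfl⟩ : ∃ y, x = y * (F.t * h) := ⟨x * (F.t * h)⁻¹, by group⟩
      rw [mul_inv_cancel_right] at m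
      have key : y * (F.t * h * y * (F.t * h)⁻¹) ∈ P := by
        rcases b.ht_mem1.1 m with m | m
        · exact P.mul_mem m (conj_mem_of_mem_normalizer nP m)
        · have m2 := conj_mem_of_mem_normalizer b.v2N (conj_mem_of_mem_normalizer nP m)
          have := P.mul_mem m m2
          have e1 : y * F.v2 * (F.v2 * (F.t * h * (y * F.v2) * (F.t * h)⁻¹) * F.v2⁻¹) =
              y * (F.v2 * F.v2) * (F.t * h * y * (F.t * h)⁻¹) *
                (F.t * h * F.v2 * (F.t * h)⁻¹ * F.v2⁻¹) := by group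
          rw [e1, F.v22, cth] at this
          simpa [mul_assoc] using this
      have e2 : F.v2 = (y * (F.t * h * y * (F.t * h)⁻¹))⁻¹ * F.u2⁻¹ := by
        have : y * (F.t * h * y * (F.t * h)⁻¹) * (F.t * h * (F.t * h)) = 1 := by
          rw [← xx]; group
        rw [hsq] at this
        rw [← mul_eq_one_iff_eq_inv'.1 this]; group
      rw [e2]
      exact P.mul_mem (P.inv_mem key) (P.inv_mem b.ht_u2P)

theorem UP.transfer (b : F.UP g d v η h P θ e) (hS : IsSylowIn 2 (P ⊔ closure {F.t, F.v2, h} : Subgroup G) ⊤) : F.t ∉ F.E ∧ IsSylowIn 2 (P ⊔ closure {F.v2, h} : Subgroup G) F.E ∧ Nat.card (P ⊔ closure {F.v2, h} : Subgroup G) = 1024 := by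
  have tE := b.ht_tE hS
  have vS : F.v2 ∈ (P ⊔ closure {F.v2, h} : Subgroup G) := mem_sup_right (subset_closure (by simp))
  have hS' : h ∈ (P ⊔ closure {F.v2, h} : Subgroup G) := mem_sup_right (subset_closure (by simp))
  refine ⟨tE, ?_, ?_⟩
  · have := hS.inf_normal (N := F.E) le_top (normal_iff_top_le_normalizer.1 F.En)
    convert this using 1
    apply le_antisymm
    · refine le_inf (sup_le_sup_left (Subgroup.closure_mono (by intro x; simp; tauto)) _) (sup_le b.ht_PE ?_)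
      rw [closure_le]
      intro x hx
      simp only [Set.mem_insert_iff, Set.mem_singleton_iff] at hx
      rcases hx with rfl | rfl
      · exact F.v2E
      · exact b.hE
    · rintro x ⟨hx, hE⟩
      obtain ⟨p, hp, a, c, k, rfl⟩ := b.memS.1 hx
      fin_cases a
      · simpa using Subgroup.mul_mem _ (Subgroup.mul_mem _ (mem_sup_left hp)
          (Subgroup.pow_mem _ vS (c : ℕ))) (Subgroup.pow_mem _ hS' (k : ℕ))
      · exfalso
        apply tE
        have h1 := F.E.mul_mem (F.E.mul_mem (F.E.mul_mem (F.E.inv_mem (b.ht_PE hp)) hE)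
          (F.E.inv_mem (F.E.pow_mem b.hE (k : ℕ)))) (F.E.inv_mem (F.E.pow_mem F.v2E (c : ℕ)))
        simpa [mul_assoc] using h1
  · have e1 : (P ⊔ closure {F.v2, h} : Subgroup G) = (P ⊔ zpowers F.v2) ⊔ zpowers h := by
      rw [sup_assoc, zpowers_eq_closure, zpowers_eq_closure, ← Subgroup.closure_union]
      rfl
    have n1 : h ∈ 𝐍((P ⊔ zpowers F.v2 : Subgroup G)) := ht_norm_adj b.hN b.hv2
    have nh : h ∉ P ⊔ zpowers F.v2 := fun m => by
      rcases b.ht_mem1.1 m with m | m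
      · have := b.indS (a := 0) (c := 0) (k := 1) (by simpa using b.cen m)
        exact absurd this.2.2 (by decide)
      · rw [b.hv2] at m
        have := b.indS (a := 0) (c := 1) (k := 1) (by simpa using b.cen m)
        exact absurd this.2.2 (by decide)
    rw [e1, card_adj n1 (by rw [b.hh]; exact mem_sup_left b.ht_u2P) nh,
      card_adj b.v2N (by rw [F.v22]; exact P.one_mem) b.ht_v2P, b.card]

end Fr

end H25.A7
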