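import Mathlib
import Cfsg.Agent.Lib.A6S.UB
import Cfsg.Agent.Lib.A6S.UD
import Cfsg.Agent.Lib.A6S.UE
import Cfsg.Agent.Lib.A6S.UG
import Cfsg.Agent.Lib.A6S.UH
import Cfsg.Agent.Lib.A6S.UT
import Cfsg.Agent.Lib.A6S.UR
import Cfsg.Agent.Lib.U52.Tr
import Cfsg.Agent.Lib.U52.Mat

/-! The end `U₅(2)`. -/

set_option autoImplicit false

namespace H25.A7

open Subgroup H69 H36.SW

variable {G : Type*} [Group G] [Finite G]

namespace Fr

open H70.U52 in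
theorem HB0.u52 {F : Fr G} {g d v η h : G} (b : F.HB0 g d v η h) (hv : h * F.v1 * h⁻¹ = v * F.z) : F.t ∉ F.E ∧
    ∃ (K : Type) (_ : Field K) (_ : Fintype K), Fintype.card K = 4 ∧ Nonempty (F.E ≃* Cfsg.PSU 5 K 2) := by
  obtain ⟨k, b1⟩ := b.ub hv
  obtain ⟨P, θ, e, b2⟩ := b1.hp b1.sylY
  obtain ⟨h1, h2, h3⟩ := b2.transfer (isSylowIn_of_normalizer le_top
    (b2.sylN.mono (le_inf le_top le_normalizer) (inf_le_right.trans b2.char)))
  obtain ⟨x, y, u, w, hx, hy, hu, hw, r, n⟩ := b2.rel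
  obtain ⟨φ, e1, e2, e3, e4⟩ := model r
  have hm : ∀ s, φ s ∈ F.E := fun s => h2.le (mem_comap.1 ((H70.U52.eq_top (mem_comap.2 (e1 ▸ hx))
    (mem_comap.2 (e2 ▸ hy)) (mem_comap.2 (e3 ▸ hu)) (mem_comap.2 (e4 ▸ hw))).ge (mem_top s)))
  have hz : φ.codRestrict F.E hm H70.U52.z ≠ 1 := fun e => n (by
    have : φ H70.U52.z = 1 := congrArg Subtype.val e
    simpa only [(by decide +kernel : H70.U52.z = H70.U52.d * H70.U52.a * H70.U52.d * H70.U52.c *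
      H70.U52.b * H70.U52.c * H70.U52.b * H70.U52.a), map_mul, e1, e2, e3, e4] using this)
  haveI := F.Es
  refine ⟨h1, Sy.main ⟨inj_z hz, h2.subgroupOf_top.of_card_le (two_range _) le_top ?_⟩⟩
  rw [← Nat.card_congr (MonoidHom.ofInjective (inj_z hz)).toEquiv, H70.U52.card,
    Nat.card_congr (subgroupOfEquivOfLe h2.le).toEquiv, h3]

end Fr

end H25.A7
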