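import Mathlib
import Cfsg.Agent.Lib.A7S.Del
import Cfsg.Agent.Lib.A7S.GI
import Cfsg.Agent.Lib.A7S.GA
import Cfsg.Agent.Lib.A7S.ZB
import Cfsg.Agent.Lib.A7S.ZD
import Cfsg.Agent.Lib.A7S.ZE
import Cfsg.Agent.Lib.A7S.HA
import Cfsg.Agent.Lib.A7S.HBb
import Cfsg.Agent.Lib.A6S.GA
import Cfsg.Agent.Lib.A6S.Del1
import Cfsg.Agent.Lib.A6S.Del2
import Cfsg.Agent.Lib.A6S.RkD
import Cfsg.Agent.Lib.A6S.E7a
import Cfsg.Agent.Lib.A6S.E7b
import Cfsg.Agent.Lib.A6S.E7c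
import Cfsg.Agent.Lib.A6S.UI
import Cfsg.Agent.Lib.A6S.IIa
import Cfsg.Agent.Lib.A6S.SZf
import Cfsg.Agent.Lib.A6S.IIb
import Cfsg.Agent.Lib.A6S.Tw2
import Cfsg.Prelude.Def_Spor_Conway

/-! Standard subgroups of type `A₆`: the abstract frame determines `E`. -/

set_option autoImplicit false

namespace H25.A6

open Subgroup H69 H36.SW

variable {G : Type*} [Group G] [Finite G]

/-- the ends with `t ∉ E` -/
def End4 (E : Subgroup G) : Prop :=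
  (∃ (K : Type) (_ : Field K) (_ : Fintype K), Fintype.card K = 4 ∧ Nonempty (E ≃* Cfsg.PSp 2 K)) ∨
  (∃ (K : Type) (_ : Field K) (_ : Fintype K), Fintype.card K = 2 ∧
    Nonempty (E ≃* Matrix.ProjectiveSpecialLinearGroup (Fin 5) K)) ∨
  (∃ (K : Type) (_ : Field K) (_ : Fintype K), Fintype.card K = 4 ∧ Nonempty (E ≃* Cfsg.PSU 5 K 2)) ∨
  Cfsg.Spor.IsoHe E

omit [Finite G] in
/-- a frame of `A₇S` with `u1 ≠ 1` is a frame with `dl = 1` -/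
def of7 (F : H25.A7.Fr G) (h : F.u1 ≠ 1) : Fr G :=
  { F with
    dl := 1
    hu1 := h
    dlt := by simp
    hdl := .inl rfl
    syl := by
      have := F.syl
      rwa [show ({F.t, F.v1, F.v2, F.u1, F.u2, 1} : Set G) = insert 1 {F.t, F.v1, F.v2, F.u1, F.u2} by
        ext x; simp only [Set.mem_insert_iff, Set.mem_singleton_iff]; tauto, closure_insert_one]
    W12 := fun _ => F.W12
    nd := fun k => (k rfl).elim }

theorem ca7 {F : H25.A7.Fr G} (c : F.CA) : (of7 F c.u1).CA := by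
  have mF : F.z ∈ F.F0 ∧ F.u1 ∈ F.F0 ∧ F.u2 ∈ F.F0 :=
    ⟨subset_closure (by simp), subset_closure (by simp), subset_closure (by simp)⟩
  have k : ∀ {f}, f ∈ F.F0 → F.Om (F.t * f) → ∃ σ ∈ (of7 F c.u1).NN, σ * F.t * σ⁻¹ = F.t * f := fun hf o => by
    obtain ⟨σ, hσ, e⟩ := F.burn o (F.memZT.2 (.inr (by rwa [← mul_assoc, F.tt, one_mul])))
    exact ⟨σ, ⟨hσ, c.ns hσ⟩, e⟩
  exact ⟨k mF.1 c.oz, k mF.2.1 c.o1, k mF.2.2 c.o2, c.n1, c.n2, fun g hg => c.fx1 g hg.1, fun g hg => c.fx2 g hg.1⟩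

theorem zz7 {F : H25.A7.Fr G} {u0 g g' r r' d1 d2 η1 η2 : G} (h : F.ZZ u0 g g' r r' d1 d2 η1 η2) : False :=
  let ⟨_, hρ⟩ := h.rho
  let ⟨_, h1, h2, _, he, h3, h4⟩ := h.exf hρ
  h.kill (fun _ hm o => h.nv hρ hm o) h1 h2 he h3 h4

theorem xt7 {F : H25.A7.Fr G} (c : F.CA) (cE : ∀ g ∈ 𝐂(F.E), g = 1) (xt : (of7 F c.u1).XT) :
    F.t ∉ F.E ∧ End4 F.E := by
  rcases c.split xt with ⟨_, _, _, _, e⟩ | ⟨_, _, _, _, _, _, _, _, e⟩ | ⟨_, _, g, d, v, η, e, e'⟩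
  · exact (e.psp c.u1).imp_right .inl
  · exact (zz7 e).elim
  obtain ⟨v, k0, b0⟩ := c.hb0 e e'
  rcases b0.hv1 with hv | hv
  · obtain ⟨k1, b1⟩ := b0.hb hv
    exact (b1.lh cE).imp_right fun k => .inr (k.imp_right .inr)
  · exact (b0.u52 hv).imp_right fun k => .inr (.inr (.inl k))

theorem main7 (F : H25.A7.Fr G) (hu : F.u1 ≠ 1) (cE : ∀ g ∈ 𝐂(F.E), g = 1) :
    Cfsg.SectionalPRankLE 2 4 F.E ∨ (F.t ∉ F.E ∧ End4 F.E) := by
  obtain ⟨F', s, hc⟩ := F.cases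
  have hu' : F'.u1 ≠ 1 := by
    rcases s.u with e | e
    · rwa [e.1]
    · rw [e.2.1]
      exact fun k => F.tD (by
        rw [eq_inv_of_mul_eq_one_left k]; exact inv_mem (subset_closure (by simp)))
  rw [← s.E] at cE
  rw [← s.E, ← s.t]
  rcases hc with k | k | k | k
  · exact .inl k.rk
  · exact .inl (k.rk (F := F'.sw))
  · rcases k.split with ⟨_, _, _, e⟩ | ⟨_, _, _, _, _, _, e⟩
    exacts [.inr ((e.psp hu').imp_right .inl), (zz7 e).elim]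
  by_cases x1 : (of7 F' k.u1).XT
  · exact .inr (xt7 k cE x1)
  by_cases x2 : (of7 F'.sw k.sw.u1).XT
  · exact .inr (xt7 (F := F'.sw) k.sw cE x2)
  exact .inl (((ca7 k).tw2 x1 x2).resolve_right fun h => h.2.1 rfl)

namespace Fr

theorem main' (F : Fr G) (cE : ∀ g ∈ 𝐂(F.E), g = 1) : Cfsg.SectionalPRankLE 2 4 F.E ∨
    (F.t ∉ F.E ∧ F.dl = 1 ∧ End4 F.E) ∨ (F.t ∈ F.E ∧ F.dl ≠ 1 ∧ Cfsg.Spor.IsoHS F.E) := by
  by_cases d : F.dl = 1
  · by_cases ht : F.Typ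
    · exact (main7 (F.to7 d ht) F.hu1 cE).imp_right fun k => .inl ⟨k.1, d, k.2⟩
    · obtain ⟨F', γ, -, c⟩ := F.exSZ d ht
      exact c.false.elim
  by_cases o : F.Om (F.t * F.z)
  swap
  · exact .inl (F.rkD d o)
  obtain ⟨F', s, c⟩ := F.exII d o
  rw [← s.dl] at d
  rw [← s.E, ← s.t, ← s.dl]
  rcases c with c | c
  · exact .inl c.rk
  by_cases x : F'.XT
  · exact (c.pure d x).elim
  · exact (c.tw2 x fun k => x (F'.sw.xt_dl d k)).imp_right .inr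

theorem main (F : Fr G) (cE : ∀ g ∈ 𝐂(F.E), g = 1) : Cfsg.SectionalPRankLE 2 4 F.E ∨
    (∃ (K : Type) (_ : Field K) (_ : Fintype K), Fintype.card K = 4 ∧ Nonempty (F.E ≃* Cfsg.PSp 2 K)) ∨
    (∃ (K : Type) (_ : Field K) (_ : Fintype K), Fintype.card K = 2 ∧
      Nonempty (F.E ≃* Matrix.ProjectiveSpecialLinearGroup (Fin 5) K)) ∨
    (∃ (K : Type) (_ : Field K) (_ : Fintype K), Fintype.card K = 4 ∧ Nonempty (F.E ≃* Cfsg.PSU 5 K 2)) ∨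
    Cfsg.Spor.IsoHS F.E ∨ Cfsg.Spor.IsoHe F.E := by
  rcases F.main' cE with k | ⟨-, -, k | k | k | k⟩ | k
  exacts [.inl k, .inr (.inl k), .inr (.inr (.inl k)), .inr (.inr (.inr (.inl k))),
    .inr (.inr (.inr (.inr (.inr k)))), .inr (.inr (.inr (.inr (.inl k.2.2))))]

end Fr

end H25.A6
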