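import Mathlib
import Cfsg.Agent.Lib.A6S.Y1

/-! Type `ZZ` in case `CA`: the group `N(R) ∩ C(V1)`. -/

set_option autoImplicit false
set_option linter.unusedSectionVars false
set_option linter.unusedSimpArgs false

namespace H25.A6

open Subgroup H69 H36.SW H25.A7

variable {G : Type*} [Group G] [Finite G]

namespace Fr
variable {F : Fr G} {g g' r r' d1 d2 η η1 η2 a b : G}

theorem ZZ.pz_nv (h : F.ZZ F.u1 g g' r r' d1 d2 η1 η2) (m : G)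
    (hm : m ∈ closure ({g, r, F.u1} : Set G)) (o : F.Om (F.t * m)) : m ∈ closure ({g, F.u1} : Set G) :=
  let ⟨_, hρ⟩ := h.rho
  h.nv hρ (fun e => absurd e F.hu1) hm o

theorem ZZ.pz_rt (h : F.ZZ F.u1 g g' r r' d1 d2 η1 η2) {w : G} (hw : w ∈ F.X1) :
    ∃ x ∈ F.R g r d1, x * x = w := by
  obtain ⟨i, j, k, rfl⟩ := F.memX1.1 hw
  exact ⟨_, h.memR.2 ⟨1, one_mem _, j, i, k, rfl⟩, h.zasq (one_mem _) j i k⟩

theorem ZZ.pz_omX (h : F.ZZ F.u1 g g' r r' d1 d2 η1 η2) {w x : G} (hw : w ∈ F.X1) (hx : x ∈ F.R g r d1)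
    (o : F.Om (F.t * x)) : F.Om (F.t * (w * x)) := by
  obtain ⟨y, hy, rfl⟩ := h.pz_rt hw
  have := o.cj y
  rwa [B2.cj_mul, h.zat hy, B2.cj_of_comm (h.zac hy hx), mul_assoc] at this

theorem ZZ.pz_nM (h : F.ZZ F.u1 g g' r r' d1 d2 η1 η2) {x : G} (hx : x ∈ zpowers g) :
    ¬ F.Om (F.t * (x * r)) := fun o => by
  have xM : x ∈ closure ({g, r, F.u1} : Set G) := zpowers_le.2 (subset_closure (by simp)) hx
  have m := h.pz_nv _ (mul_mem xM (subset_closure (by simp))) o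
  have m2 : r ∈ closure ({g, F.u1} : Set G) :=
    (mul_mem_cancel_left (zpowers_le.2 (subset_closure (by simp)) hx)).1 m
  have l : closure ({g, F.u1} : Set G) ≤ F.R g r d1 :=
    (closure_le _).2 (Set.pair_subset h.zaG (h.XR F.b2_uX))
  have k : ∀ y ∈ closure ({g, F.u1} : Set G), y * y ∈ F.V1 := fun y hy => by
    induction hy using closure_induction with
    | mem x hx =>
      rcases hx with rfl | rfl
      exacts [h.gg ▸ F.b2_zV, F.u11 ▸ one_mem _]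
    | one => simp
    | mul x y hx hy a b => rw [ZA.mm (h.zac (l hx) (l hy))]; exact mul_mem a b
    | inv x _ a => rw [← mul_inv_rev]; exact inv_mem a
  exact F.b2_uV F.hu1 (h.rr ▸ k r m2)

theorem ZZ.omV (h : F.ZZ F.u1 g g' r r' d1 d2 η1 η2) {e : G} (he : e ∈ F.R g r d1) (o : F.Om (F.t * e)) :
    e * e ∈ F.V1 := by
  obtain ⟨w, hw, i, j, k, rfl⟩ := h.memR.1 he
  rw [h.zasq hw]
  have o' := h.pz_omX (inv_mem hw) he o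
  rw [mul_assoc w, mul_assoc w, inv_mul_cancel_left] at o'
  have ηt := B2.cj_of_comm h.η1t
  have ηr := B2.cj_of_comm h.η1r
  fin_cases k
  · simpa using mul_mem (pow_mem F.b2_vV _) (pow_mem F.b2_zV _)
  exfalso
  simp only [Fin.mk_one, Fin.val_one, pow_one] at o'
  fin_cases j
  · simp only [Fin.zero_eta, Fin.val_zero, pow_zero, mul_one] at o'
    exact h.pz_nM (pow_mem (mem_zpowers g) _) o'
  simp only [Fin.mk_one, Fin.val_one, pow_one] at o'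
  fin_cases i
  · simp only [Fin.zero_eta, Fin.val_zero, pow_zero, one_mul] at o'
    refine h.pz_nM (mem_zpowers g) (Om.of_cj η1 ?_)
    rwa [B2.cj_mul, B2.cj_mul, ηt, ηr, h.η1g]
  · simp only [Fin.mk_one, Fin.val_one, pow_one] at o'
    have := o'.cj η1
    rw [B2.cj_mul, B2.cj_mul, B2.cj_mul, ηt, ηr, h.η1g, h.η1d,
      show d1 * (g * d1)⁻¹ = g⁻¹ by group] at this
    exact h.pz_nM (inv_mem (mem_zpowers g)) this

theorem ZZ.pz_f (h : F.ZZ F.u1 g g' r r' d1 d2 η1 η2) : ∃ f ∈ 𝐍(F.R g r d1), f ∈ 𝐂(F.V1) ∧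
    f * F.t * f⁻¹ = F.t * g ∧ f * F.u1 * f⁻¹ = F.u2 := by
  obtain ⟨ρ, hρ⟩ := h.rho
  obtain ⟨f, h1, hf, e, he, h3, h4⟩ := h.exf hρ
  have hu := (h.kill h.pz_nv h1 hf he h3 h4).2
  have VR : F.V1 ≤ F.R g r d1 := F.V1X1.trans h.XR
  have xX : g * e⁻¹ ∈ F.X1 := (h.sq (mul_mem h.zaG (inv_mem he))).2.1 (by
    rw [ZA.mm (h.zac h.zaG (inv_mem he)), ← mul_inv_rev, h4, h.gg, mul_inv_cancel])
  have og : F.Om (F.t * g) := by simpa using h.pz_omX xX he ⟨f, h3⟩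
  have od : F.Om (F.t * d1) := by
    have := og.cj η1
    rwa [B2.cj_mul, B2.cj_of_comm h.η1t, h.η1g] at this
  have kV : ∀ x ∈ F.R g r d1, F.Om (F.t * x) → f * (x * x) * f⁻¹ ∈ F.V1 := fun x hx o => by
    have o' := o.cj f
    have hx' := conj_mem_of_mem_normalizer hf hx
    rw [B2.cj_mul, h3, mul_assoc] at o'
    have := h.omV (mul_mem he hx') o'
    rw [ZA.mm (h.zac he hx'), h4, conj_mul] at this
    exact (mul_mem_cancel_left F.b2_zV).1 this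
  have fV : f ∈ 𝐍(F.V1) := ZA.nrm (by
    have k1 := kV g h.zaG og
    have k2 := kV d1 h.zad od
    rw [h.gg] at k1
    rw [h.d11] at k2
    rintro _ (rfl | rfl)
    exacts [k1, k2])
  have zS : (F.R g r d1 ⊔ closure {F.t, F.v2} : Subgroup G) ≤ centralizer {F.z} :=
    sup_le (fun x hx => mem_centralizer_singleton_iff.2 (h.zac hx (VR F.b2_zV))) ((closure_le _).2 (by
      rintro x (rfl | rfl)
      exacts [mem_centralizer_singleton_iff.2 F.zt.symm, mem_centralizer_singleton_iff.2 F.B1zv2.symm]))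
  have fz : f * F.z = F.z * f := by
    have c := mem_centralizer_singleton_iff.1 (zS (conj_mem_of_mem_normalizer' h1
      (mem_sup_right (subset_closure (by simp)) : F.v2 ∈ (F.R g r d1 ⊔ closure {F.t, F.v2} : Subgroup G))))
    have c' : F.v2 * (f * F.z * f⁻¹) = f * F.z * f⁻¹ * F.v2 := by
      calc F.v2 * (f * F.z * f⁻¹) = f * (f⁻¹ * F.v2 * f * F.z) * f⁻¹ := by group
        _ = _ := by rw [c]; group
    rcases F.memV1.1 (conj_mem_of_mem_normalizer fV F.b2_zV) with k | k | k | k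
    · exact absurd (conj_eq_one_iff.1 k) F.z1
    · exact mul_inv_eq_iff_eq_mul.1 k
    · rw [k] at c'; exact absurd c' F.zanc
    · rw [k, ← mul_assoc, ← F.B1zv2, mul_assoc, mul_assoc, mul_right_inj] at c'
      exact absurd c' F.zanc
  obtain ⟨f0, n0, c0, t0, u0⟩ : ∃ f0 ∈ 𝐍(F.R g r d1), f0 ∈ 𝐂(F.V1) ∧ f0 * F.t * f0⁻¹ = F.t * e ∧
      f0 * F.u1 * f0⁻¹ = F.u2 := by
    rcases F.b2_pure fz fV with k | k
    · exact ⟨f, hf, ZA.cen (by rintro _ (rfl | rfl); exacts [fz.symm, k.symm]), h3, hu⟩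
    · refine ⟨f * F.v2, mul_mem hf h.v2N, ZA.cen ?_, ?_, ?_⟩
      · rintro _ (rfl | rfl)
        · rw [← mul_assoc, ← fz, mul_assoc, F.B1zv2, mul_assoc]
        · exact k.1.symm
      · rw [← h3, mul_assoc f, ← F.tv2]; group
      · rw [← hu, mul_assoc f, ← F.u1v2]; group
  obtain ⟨a, aR, e1⟩ := h.pz_rt xX
  refine ⟨a * f0, mul_mem (le_normalizer aR) n0, mul_mem (centralizer_anti VR (h.ab aR)) c0, ?_, ?_⟩
  · calc a * f0 * F.t * (a * f0)⁻¹ = a * (f0 * F.t * f0⁻¹) * a⁻¹ := by group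
      _ = _ := by rw [t0, B2.cj_mul, h.zat aR, B2.cj_of_comm (h.zac aR he), e1]; group
  · calc a * f0 * F.u1 * (a * f0)⁻¹ = a * (f0 * F.u1 * f0⁻¹) * a⁻¹ := by group
      _ = _ := by rw [u0, h.zac aR (h.XR F.u2X1), mul_inv_cancel_right]

/-- the elements of `N(R)` that normalise `Q` and centralise `V1` -/
def pz_C (F : Fr G) (g r d : G) : Subgroup G :=
  𝐍(F.R g r d) ⊓ (𝐍((F.R g r d ⊔ zpowers F.t : Subgroup G)) ⊓ 𝐂(F.V1))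

theorem pz_nC {n : G} (h1 : n ∈ 𝐍(F.R g r d1)) (h2 : n * F.t = F.t * n) (h3 : n ∈ 𝐍(F.V1)) :
    n ∈ 𝐍((F.R g r d1 ⊔ zpowers F.t : Subgroup G)) ∧ n ∈ 𝐍(F.pz_C g r d1) := by
  have q : n ∈ 𝐍((F.R g r d1 ⊔ zpowers F.t : Subgroup G)) := by
    refine cj_eq_self_iff.1 ?_
    rw [cj_sup, cj_eq_of_mem_normalizer h1, cj_zpowers, h2, mul_inv_cancel_right]
  refine ⟨q, cj_eq_self_iff.1 ?_⟩
  rw [pz_C, cj_inf, cj_inf, cj_normalizer, cj_normalizer, cj_centralizer, cj_eq_of_mem_normalizer h1,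
    cj_eq_of_mem_normalizer q, cj_eq_of_mem_normalizer h3]

theorem ZZ.pz_ex (h : F.ZZ F.u1 g g' r r' d1 d2 η1 η2) {n : G} (hn : n ∈ F.pz_C g r d1) :
    ∃ s ∈ F.V1, ZC.Pt (F.R g r d1) F.t n s := by
  have tQ : F.t ∈ F.R g r d1 ⊔ zpowers F.t := mem_sup_right (mem_zpowers _)
  rcases ZD.memQ h (conj_mem_of_mem_normalizer hn.2.1 tQ) with m | ⟨e, he, m⟩
  · have m' := conj_mem_of_mem_normalizer' hn.1 m
    rw [show n⁻¹ * (n * F.t * n⁻¹) * n = F.t by group] at m'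
    exact (F.tX1 ((h.sq m').2.1 F.tt)).elim
  · rw [h.ze_ti he] at m
    exact ⟨_, h.omV (inv_mem he) ⟨n, m⟩, hn.1, _, inv_mem he, m, rfl⟩

theorem ZZ.pz_mul (h : F.ZZ F.u1 g g' r r' d1 d2 η1 η2) {n m s s' : G} (hn : n ∈ 𝐂(F.V1)) (hs : s' ∈ F.V1)
    (p : ZC.Pt (F.R g r d1) F.t n s) (q : ZC.Pt (F.R g r d1) F.t m s') :
    ZC.Pt (F.R g r d1) F.t (n * m) (s * s') :=
  (p.mul h.ab q).cg (by rw [ZC.kfix (hn _ hs).symm])

theorem ZZ.pz_inv (h : F.ZZ F.u1 g g' r r' d1 d2 η1 η2) {n s : G} (hn : n ∈ 𝐂(F.V1)) (hs : s ∈ F.V1)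
    (p : ZC.Pt (F.R g r d1) F.t n s) : ZC.Pt (F.R g r d1) F.t n⁻¹ s :=
  (p.inv h.ab).cg (by
    rw [ZC.kfix (inv_mem hn _ hs).symm, inv_eq_of_mul_eq_one_right (F.sqW1 (F.X1W1 (F.V1X1 hs)))])

theorem ZZ.pz_pow (h : F.ZZ F.u1 g g' r r' d1 d2 η1 η2) {n s : G} (hn : n ∈ 𝐂(F.V1)) (hs : s ∈ F.V1)
    (p : ZC.Pt (F.R g r d1) F.t n s) (i : ℕ) : ZC.Pt (F.R g r d1) F.t (n ^ i) (s ^ i) := by
  induction i with
  | zero => simpa using ZC.Pt.one (one_mem _) (by simp)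
  | succ i ih => rw [pow_succ, pow_succ]; exact h.pz_mul (pow_mem hn _) hs ih p

theorem ZZ.pz_SP (h : F.ZZ F.u1 g g' r r' d1 d2 η1 η2) {n : G} (hn : n ∈ 𝐂(F.V1))
    (p : ZC.Pt (F.R g r d1) F.t n 1) : ∃ q ∈ F.R g r d1 ⊔ zpowers F.t,
      ∃ o ∈ 𝐂((F.R g r d1 ⊔ zpowers F.t : Subgroup G)), Odd (orderOf o) ∧ n = q * o :=
  let ⟨_, he, e1, e2⟩ := p.ex; h.SP' p.nm he e1 e2 hn

theorem ZZ.pz_QC (h : F.ZZ F.u1 g g' r r' d1 d2 η1 η2) : F.R g r d1 ⊔ zpowers F.t ≤ F.pz_C g r d1 :=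
  le_inf (sup_le le_normalizer (zpowers_le.2 h.zatN))
    (le_inf le_normalizer ((ZD.QX h).trans (centralizer_anti F.V1X1)))

theorem ZZ.pz_P (h : F.ZZ F.u1 g g' r r' d1 d2 η1 η2) : ∃ P O : Subgroup G, IsPGroup 2 P ∧
    F.R g r d1 ⊔ zpowers F.t ≤ P ∧ P ≤ F.pz_C g r d1 ∧ F.v2 ∈ 𝐍(P) ∧
    (∀ o, o ∈ O ↔ o ∈ 𝐂((F.R g r d1 ⊔ zpowers F.t : Subgroup G)) ∧ Odd (orderOf o)) ∧ P ≤ 𝐍(O) ∧
    F.pz_C g r d1 ≤ P ⊔ O := by
  obtain ⟨O, hO, -, -⟩ := F.exO1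
  have tQ : F.t ∈ F.R g r d1 ⊔ zpowers F.t := mem_sup_right (mem_zpowers _)
  have WQ : F.W1 ≤ F.R g r d1 ⊔ zpowers F.t := fun x hx => (F.memW1'.1 hx).elim (fun a => mem_sup_left (h.XR a))
    fun a => (mul_mem_cancel_left tQ).1 (mem_sup_left (h.XR a))
  have mO : ∀ x, x ∈ O ⊓ 𝐂((F.R g r d1 ⊔ zpowers F.t : Subgroup G)) ↔
      x ∈ 𝐂((F.R g r d1 ⊔ zpowers F.t : Subgroup G)) ∧ Odd (orderOf x) := fun x =>
    ⟨fun a => ⟨a.2, ((hO x).1 a.1).2⟩, fun a => ⟨(hO x).2 ⟨centralizer_le WQ a.1, a.2⟩, a.1⟩⟩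
  have vV : F.v2 ∈ 𝐍(F.V1) := ZA.nrm (by
    rintro _ (rfl | rfl)
    · rw [B2.cj_of_comm F.B1zv2.symm]; exact F.b2_zV
    · rw [F.b2_v2v]; exact mul_mem F.b2_zV F.b2_vV)
  obtain ⟨vQ, vC⟩ := pz_nC h.v2N F.tv2.symm vV
  obtain ⟨S, hS, le⟩ := exists_isSylowIn_le (isP_sup (ZD.isQ h) (P2.of_sq F.v22) vQ)
    (sup_le_sup_right h.pz_QC (zpowers F.v2))
  have vS : F.v2 ∈ S := le (mem_sup_right (mem_zpowers _))
  have QP : F.R g r d1 ⊔ zpowers F.t ≤ S ⊓ F.pz_C g r d1 := le_inf (le_sup_left.trans le) h.pz_QC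
  refine ⟨S ⊓ F.pz_C g r d1, _, hS.isP.to_le inf_le_left, QP, inf_le_right, cj_eq_self_iff.1 (by
    rw [cj_inf, cj_eq_of_mem_normalizer (le_normalizer vS), cj_eq_of_mem_normalizer vC]), mO,
    fun x hx => b2_normO mO hx.2.2.1, fun x hx => ?_⟩
  obtain ⟨n, hn, p2⟩ := exists_odd_P2 x
  obtain ⟨k, hk, e⟩ := hS.exists_cj_le p2.zpowers (zpowers_le.2 (mem_sup_left (pow_mem hx n)))
  obtain ⟨y, hy, i, rfl⟩ := ZA.adjL vC (F.v22 ▸ one_mem _) hk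
  have m : y * x ^ n * y⁻¹ ∈ S := by
    have := conj_mem_of_mem_normalizer' (le_normalizer (pow_mem vS i)) (e (cj_mem _ (mem_zpowers _)))
    simpa [mul_assoc] using this
  have mC : y * x ^ n * y⁻¹ ∈ F.pz_C g r d1 := mul_mem (mul_mem hy (pow_mem hx n)) (inv_mem hy)
  obtain ⟨s, hs, px⟩ := h.pz_ex hx
  obtain ⟨s', hs', py⟩ := h.pz_ex hy
  have ss := F.sqW1 (F.X1W1 (F.V1X1 hs))
  have p1 := (h.pz_pow hx.2.2 hs px n).cg (pow_odd_of_sq ss hn)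
  have p3 := h.pz_mul (mul_mem hy.2.2 (pow_mem hx.2.2 n)) hs' (h.pz_mul hy.2.2 hs py p1) (h.pz_inv hy.2.2 hs' py)
  have e3 : s' * s * s' = s := by
    rw [comm_of_sq (fun _ => F.sqW1) (F.X1W1 (F.V1X1 hs')) (F.X1W1 (F.V1X1 hs)), mul_assoc,
      F.sqW1 (F.X1W1 (F.V1X1 hs')), mul_one]
  have p4 := (h.pz_mul (inv_mem mC.2.2) hs (h.pz_inv mC.2.2 hs (p3.cg e3)) px).cg ss
  obtain ⟨q, hq, o, ho, oo, eo⟩ := h.pz_SP (mul_mem (inv_mem mC.2.2) hx.2.2) p4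
  rw [inv_mul_eq_iff_eq_mul] at eo
  rw [eo]
  exact mul_mem (mem_sup_left ⟨m, mC⟩) (mul_mem (mem_sup_left (QP hq)) (mem_sup_right ((mO o).2 ⟨ho, oo⟩)))

theorem ZZ.pz_tw (h : F.ZZ F.u1 g g' r r' d1 d2 η1 η2) {o : G}
    (ho : o ∈ 𝐂((F.R g r d1 ⊔ zpowers F.t : Subgroup G))) : F.ZZ F.u1 g g' r r' d1 d2 (o * η1) η2 := by
  have k : ∀ x ∈ F.R g r d1 ⊔ zpowers F.t, ∀ y, η1 * y * η1⁻¹ = x → o * η1 * y * (o * η1)⁻¹ = x := fun x hx y e => by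
    calc _ = o * (η1 * y * η1⁻¹) * o⁻¹ := by group
      _ = _ := by rw [e, B2.cj_of_comm (ho x hx).symm]
  exact { h with
    η1t := B2.comm_of_cj (k _ (mem_sup_right (mem_zpowers _)) _ (B2.cj_of_comm h.η1t))
    η1u := B2.comm_of_cj (k _ (mem_sup_left (h.XR F.b2_uX)) _ (B2.cj_of_comm h.η1u))
    η1r := B2.comm_of_cj (k _ (mem_sup_left h.zaR) _ (B2.cj_of_comm h.η1r))
    η1g := k _ (mem_sup_left h.zad) _ h.η1g
    η1d := k _ (mem_sup_left (inv_mem (mul_mem h.zaG h.zad))) _ h.η1d }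

theorem ZZ.pz_ηC (h : F.ZZ F.u1 g g' r r' d1 d2 η1 η2) : η1 ∈ 𝐍(F.pz_C g r d1) :=
  (pz_nC h.ηN h.η1t (ZC.SP1 h (ZC.eta h).1).2).2

theorem ZZ.zqA (h : F.ZZ F.u1 g g' r r' d1 d2 η1 η2) : ∃ (η a b : G) (P : Subgroup G),
    F.ZZ F.u1 g g' r r' d1 d2 η η2 ∧ a ∈ 𝐂(F.V1) ∧ a ∈ 𝐍(F.R g r d1) ∧ a * F.t * a⁻¹ = F.t * g ∧
    a * F.u1 * a⁻¹ = F.u2 ∧ η * a * η⁻¹ = b ∧ IsPGroup 2 P ∧
    P = F.R g r d1 ⊔ zpowers F.t ⊔ closure {a, b} ∧ η ∈ 𝐍(P) ∧ F.v2 ∈ 𝐍(P) ∧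
    P ≤ 𝐍(F.R g r d1) ⊓ 𝐂(F.V1) ∧
    ∀ x ∈ P, ∀ w ∈ F.X1, x * F.t * x⁻¹ = F.t * w → x ∈ F.R g r d1 ⊔ zpowers F.t := by
  obtain ⟨f, fR, fV, ft, fu⟩ := h.pz_f
  obtain ⟨P, O, hP, QP, PC, vP, mO, PO, CP⟩ := h.pz_P
  have tQ : F.t ∈ F.R g r d1 ⊔ zpowers F.t := mem_sup_right (mem_zpowers _)
  have fC : f ∈ F.pz_C g r d1 := ⟨fR, ⟨mem_normalizer_of_cj_le (by
    rw [cj_sup, cj_eq_of_mem_normalizer fR, cj_zpowers, ft]
    exact sup_le le_sup_left (zpowers_le.2 (mul_mem tQ (mem_sup_left h.zaG)))), fV⟩⟩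
  obtain ⟨a, ha, o, ho, rfl⟩ := (mem_sup_of_le_normalizer_right PO).1 (CP fC)
  have oQ := ((mO o).1 ho).1
  have ka : ∀ x ∈ F.R g r d1 ⊔ zpowers F.t, a * o * x * (a * o)⁻¹ = a * x * a⁻¹ := fun x hx => by
    calc _ = a * (o * x * o⁻¹) * a⁻¹ := by group
      _ = _ := by rw [B2.cj_of_comm (oQ x hx).symm]
  rw [ka _ tQ] at ft
  rw [ka _ (mem_sup_left (h.XR F.b2_uX))] at fu
  obtain ⟨o', ho', hη⟩ := frat_odd (g := η1) hP (fun o ho => ((mO o).1 ho).2) PO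
    (le_trans (le_trans (cj_mono η1 PC) (cj_eq_of_mem_normalizer h.pz_ηC).le) CP)
  have h' := h.pz_tw ((mO o').1 ho').1
  generalize o' * η1 = η at hη h'
  have hb : η * a * η⁻¹ ∈ P := conj_mem_of_mem_normalizer hη ha
  have bt : η * a * η⁻¹ * F.t * (η * a * η⁻¹)⁻¹ = F.t * d1 := by
    calc _ = η * a * η⁻¹ * (η * F.t * η⁻¹) * (η * a * η⁻¹)⁻¹ := by rw [B2.cj_of_comm h'.η1t]
      _ = η * (a * F.t * a⁻¹) * η⁻¹ := by group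
      _ = _ := by rw [ft, B2.cj_mul, h'.η1g, B2.cj_of_comm h'.η1t]
  obtain ⟨b, eb⟩ : ∃ b, η * a * η⁻¹ = b := ⟨_, rfl⟩
  rw [eb] at hb bt
  have pa : ZC.Pt (F.R g r d1) F.t a F.z := ⟨(PC ha).1, g, h.zaG, ft, h.gg⟩
  have pb : ZC.Pt (F.R g r d1) F.t b F.v1 := ⟨(PC hb).1, d1, h.zad, bt, h.d11⟩
  have inQ : ∀ x ∈ P, ZC.Pt (F.R g r d1) F.t x 1 → x ∈ F.R g r d1 ⊔ zpowers F.t := fun x hx p => by
    obtain ⟨q, hq, o, -, oo, eo⟩ := h.pz_SP (PC hx).2.2 p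
    rw [eo] at hx
    rwa [eo, (P2.of_mem hP ((mul_mem_cancel_left (QP hq)).1 hx)).eq_one oo, mul_one]
  have PPP : F.R g r d1 ⊔ zpowers F.t ⊔ closure {a, b} ≤ P :=
    sup_le QP ((closure_le _).2 (Set.pair_subset ha hb))
  have aP : a ∈ F.R g r d1 ⊔ zpowers F.t ⊔ closure {a, b} := mem_sup_right (subset_closure (by simp))
  have bP : b ∈ F.R g r d1 ⊔ zpowers F.t ⊔ closure {a, b} := mem_sup_right (subset_closure (by simp))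
  have eP : P = F.R g r d1 ⊔ zpowers F.t ⊔ closure {a, b} := le_antisymm (fun x hx => by
    obtain ⟨s, hs, px⟩ := h.pz_ex (PC hx)
    obtain ⟨y, hy, py⟩ : ∃ y ∈ F.R g r d1 ⊔ zpowers F.t ⊔ closure {a, b}, ZC.Pt (F.R g r d1) F.t y s := by
      rcases F.memV1.1 hs with rfl | rfl | rfl | rfl
      exacts [⟨1, one_mem _, ZC.Pt.one (one_mem _) (by simp)⟩, ⟨a, aP, pa⟩, ⟨b, bP, pb⟩,
        ⟨a * b, mul_mem aP bP, h.pz_mul (PC ha).2.2 F.b2_vV pa pb⟩]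
    exact (mul_mem_cancel_left hy).1 (mem_sup_left (inQ _ (mul_mem (PPP hy) hx)
      ((h.pz_mul (PC (PPP hy)).2.2 hs py px).cg (F.sqW1 (F.X1W1 (F.V1X1 hs))))))) PPP
  exact ⟨η, a, b, P, h', (PC ha).2.2, (PC ha).1, ft, fu, eb, hP, eP, hη, vP,
    fun x hx => ⟨(PC hx).1, (PC hx).2.2⟩,
    fun x hx w hw e => inQ x hx ⟨(PC hx).1, w, h.XR hw, e, F.sqW1 (F.X1W1 hw)⟩⟩

theorem eqns_PZ1 : True := by
  have := @pz_C.eq_1.{0}
  trivial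

end Fr

end H25.A6
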