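import Mathlib
import Cfsg.Agent.Lib.A6S.HD

/-! Type `ZZ` in case `IIb`: definitions. Here `R = ⟨g, d, r⟩ ≅ 4³` and `v = t r`. -/

set_option autoImplicit false

namespace H25.A6

open Subgroup H69 H36.SW

variable {G : Type*} [Group G]

namespace Fr
variable (F : Fr G)

/-- `K ⟨u1⟩ ≅ 4 × 4 × 2` -/
def qK (g d : G) : Subgroup G := closure {g, d, F.u1}
/-- `Q = R ⟨t⟩` -/
def qQ (g r d : G) : Subgroup G := F.R g r d ⊔ zpowers F.t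
/-- `A ⟨u1⟩` -/
def qA (g d a b : G) : Subgroup G := closure {g, d, a, b, F.u1}
/-- `A ⟨u1, t r⟩`, of order 256 -/
def qE (g r d a b : G) : Subgroup G := closure {g, d, a, b, F.u1, F.t * r}
/-- `A ⟨u1, t r, v2⟩`, of order 512 -/
def qM (g r d a b : G) : Subgroup G := closure {g, d, a, b, F.u1, F.t * r, F.v2}
/-- `A ⟨t r, v2⟩`, of order 256 -/
def qN (g r d a b : G) : Subgroup G := closure {g, d, a, b, F.t * r, F.v2}
/-- `Q ⟨a, b⟩`, of order 512 -/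
def qP (g r d a b : G) : Subgroup G := closure {g, d, a, b, F.t, r}
/-- `Q ⟨a, b, v2⟩`, of order 1024 -/
def qS (g r d a b : G) : Subgroup G := closure {g, d, a, b, F.t, r, F.v2}
/-- the normaliser of `qE` in `C_E(V1)` -/
def qL (g r d a b : G) : Subgroup G := 𝐍(F.qE g r d a b) ⊓ (𝐂(F.V1) ⊓ F.E)
/-- `n` acts trivially on `qE / V1` -/
def qT (g r d a b n : G) : Prop := ∀ x ∈ F.qE g r d a b, x⁻¹ * (n * x * n⁻¹) ∈ F.V1

/-- a 2-group `Q ⟨a, b⟩` normalised by `η1` and `v2` -/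
structure QA (g g' r r' d1 d2 η1 η2 a b : G) : Prop where
  zz : F.ZZ F.u1 g g' r r' d1 d2 η1 η2
  d : F.dl ≠ 1
  aV : a ∈ 𝐂(F.V1)
  aR : a ∈ 𝐍(F.R g r d1)
  aT : a * F.t * a⁻¹ = F.t * g
  au : a * F.u1 * a⁻¹ = F.u2
  ηa : η1 * a * η1⁻¹ = b
  isP : IsPGroup 2 (F.qP g r d1 a b)
  ηP : η1 ∈ 𝐍(F.qP g r d1 a b)
  vP : F.v2 ∈ 𝐍(F.qP g r d1 a b)

/-- `QA` with the action of `a` on `R` normalised -/
structure QB (g g' r r' d1 d2 η1 η2 a b : G) : Prop extends F.QA g g' r r' d1 d2 η1 η2 a b where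
  ag : a * g * a⁻¹ = g * F.z
  aK : a ∈ 𝐍(F.K4 g d1)
  ar : (r * g)⁻¹ * (a * r * a⁻¹) ∈ F.V1
  aa : a * a ∈ F.V1

/-- `QB` with `A = K ⟨a, b⟩` invariant -/
structure QC (g g' r r' d1 d2 η1 η2 a b : G) : Prop extends F.QB g g' r r' d1 d2 η1 η2 a b where
  ad : a * d1 * a⁻¹ = d1 * F.z * F.v1
  ab : a * b * a⁻¹ * b⁻¹ ∈ F.V1
  ηb : a * b * (η1 * b * η1⁻¹) ∈ F.K4 g d1
  va : F.v2 * a * F.v2 * a⁻¹ ∈ F.K4 g d1
  vb : F.v2 * b * F.v2 * (a * b)⁻¹ ∈ F.K4 g d1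

end Fr

end H25.A6
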