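import Mathlib
import Cfsg.Agent.Lib.A6S.QD

/-! `Ω ∩ t R = t ⟨g, d, u⟩`; existence of `QA`. -/

set_option autoImplicit false
set_option linter.unusedSectionVars false
set_option linter.unusedSimpArgs false

namespace H25.A6

open Subgroup H69 H36.SW H25.A7

variable {G : Type*} [Group G] [Finite G]

namespace Fr
variable {F : Fr G} {g g' r r' d1 d2 η1 η2 a b : G}

theorem ZZ.q1_ca (h : F.ZZ F.u1 g g' r r' d1 d2 η1 η2) : F.CA := by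
  rcases h.cs with ⟨e, -⟩ | ⟨-, -, -, c⟩
  exacts [absurd e F.hu1, c]

theorem ZZ.q1_nv (h : F.ZZ F.u1 g g' r r' d1 d2 η1 η2) (m : G)
    (hm : m ∈ closure ({g, r, F.u1} : Set G)) (o : F.Om (F.t * m)) : m ∈ closure ({g, F.u1} : Set G) :=
  let ⟨_, hρ⟩ := h.rho
  h.nv hρ (fun e => absurd e F.hu1) hm o

theorem ZZ.q1_X (h : F.ZZ F.u1 g g' r r' d1 d2 η1 η2) {n w : G} (hn : n ∈ 𝐍(F.R g r d1)) (hw : w ∈ F.X1) :
    n * w * n⁻¹ ∈ F.X1 :=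
  (h.sq (conj_mem_of_mem_normalizer hn (h.XR hw))).2.1 (cjsq (F.sqW1 (F.X1W1 hw)) _)

theorem ZZ.q1_ηV (h : F.ZZ F.u1 g g' r r' d1 d2 η1 η2) : η1 ∈ 𝐍(F.V1) := (ZC.SP1 h (ZC.eta h).1).2

theorem ZZ.q1_sq (h : F.ZZ F.u1 g g' r r' d1 d2 η1 η2) {e : G} (he : e ∈ closure ({g, F.u1} : Set G)) :
    e * e ∈ F.V1 := by
  have l : closure ({g, F.u1} : Set G) ≤ F.R g r d1 := (closure_le _).2 (Set.pair_subset h.zaG (h.XR F.b2_uX))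
  induction he using closure_induction with
  | mem x hx =>
    rcases hx with rfl | rfl
    exacts [h.gg ▸ F.b2_zV, F.u11 ▸ one_mem _]
  | one => simp
  | mul x y hx hy a b => rw [ZA.mm (h.zac (l hx) (l hy))]; exact mul_mem a b
  | inv x _ a => rw [← mul_inv_rev]; exact inv_mem a

theorem ZZ.q1_A (h : F.ZZ F.u1 g g' r r' d1 d2 η1 η2) {w m : G} (hw : w ∈ F.X1)
    (hm : m ∈ closure ({g, r, F.u1} : Set G)) (o : F.Om (F.t * (w * m))) : w * m * (w * m) ∈ F.V1 := by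
  obtain ⟨i, j, k, rfl⟩ := F.memX1.1 hw
  have f : F.z ^ (j : ℕ) * F.u1 ^ (k : ℕ) * m ∈ closure ({g, r, F.u1} : Set G) :=
    mul_mem (h.zaF (mul_mem (pow_mem (subset_closure (by simp)) _) (pow_mem (subset_closure (by simp)) _))) hm
  rw [mul_assoc (F.v1 ^ (i : ℕ)), mul_assoc (F.v1 ^ (i : ℕ))] at o ⊢
  generalize F.z ^ (j : ℕ) * F.u1 ^ (k : ℕ) * m = x at f o ⊢
  fin_cases i
  · simp only [Fin.zero_eta, Fin.val_zero, pow_zero, one_mul] at o ⊢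
    exact h.q1_sq (h.q1_nv x f o)
  · simp only [Fin.mk_one, Fin.val_one, pow_one] at o ⊢
    rw [ZA.mm (h.zac (h.XR F.b2_vX) (h.MR f)), F.v11, one_mul]
    refine h.q1_sq (h.q1_nv x f (Om.of_cj d1 ?_))
    have e : d1 * (F.t * x) * d1⁻¹ = F.t * (F.v1 * x) := by
      rw [B2.cj_mul, h.zat h.zad, h.d11, B2.cj_of_comm (h.zac h.zad (h.MR f)), mul_assoc]
    rwa [e]

theorem ZZ.q1_omV (h : F.ZZ F.u1 g g' r r' d1 d2 η1 η2) {e : G} (he : e ∈ F.R g r d1) (o : F.Om (F.t * e)) :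
    e * e ∈ F.V1 := by
  have gM : g ∈ closure ({g, r, F.u1} : Set G) := subset_closure (by simp)
  have rM : r ∈ closure ({g, r, F.u1} : Set G) := subset_closure (by simp)
  obtain ⟨w, hw, i, j, k, rfl⟩ := h.memR.1 he
  have ρM := pow_mem rM (k : ℕ)
  have ηρ : η1 * r ^ (k : ℕ) * η1⁻¹ = r ^ (k : ℕ) := by rw [← conj_pow, B2.cj_of_comm h.η1r]
  generalize r ^ (k : ℕ) = ρ at ρM ηρ o he ⊢
  fin_cases j
  · simp only [Fin.zero_eta, Fin.val_zero, pow_zero, mul_one] at o ⊢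
    rw [mul_assoc w] at o ⊢
    exact h.q1_A hw (mul_mem (pow_mem gM _) ρM) o
  · simp only [Fin.mk_one, Fin.val_one, pow_one] at o ⊢
    fin_cases i
    · simp only [Fin.zero_eta, Fin.val_zero, pow_zero, mul_one] at o ⊢
      have e : η1 * (η1⁻¹ * w * η1⁻¹⁻¹ * (g * ρ)) * η1⁻¹ = w * d1 * ρ := by
        rw [B2.cj_mul, B2.cj_mul η1 g, ηρ, h.η1g]; group
      rw [← e, ← B2.cj_mul]
      refine conj_mem_of_mem_normalizer h.q1_ηV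
        (h.q1_A (h.q1_X (inv_mem h.ηN) hw) (mul_mem gM ρM) (Om.of_cj η1 ?_))
      rwa [B2.cj_mul, e, B2.cj_of_comm h.η1t]
    · simp only [Fin.mk_one, Fin.val_one, pow_one] at o ⊢
      have e : η1 * (w * g * d1 * ρ) * η1⁻¹ = η1 * w * η1⁻¹ * (g⁻¹ * ρ) := by
        rw [B2.cj_mul, B2.cj_mul, B2.cj_mul, h.η1g, h.η1d, ηρ]; group
      have m := h.q1_A (h.q1_X h.ηN hw) (mul_mem (inv_mem gM) ρM) (by
        have := o.cj η1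
        rwa [B2.cj_mul, e, B2.cj_of_comm h.η1t] at this)
      rw [← e, ← B2.cj_mul] at m
      simpa [mul_assoc] using conj_mem_of_mem_normalizer' h.q1_ηV m

theorem ZZ.q1_pt (h : F.ZZ F.u1 g g' r r' d1 d2 η1 η2) {n s : G} (p : ZC.Pt (F.R g r d1) F.t n s) : s ∈ F.V1 := by
  obtain ⟨e, he, e1, rfl⟩ := p.ex
  exact h.q1_omV he ⟨n, e1⟩

theorem ZZ.q1_ηpt (h : F.ZZ F.u1 g g' r r' d1 d2 η1 η2) {n : G} (p : ZC.Pt (F.R g r d1) F.t n F.z) :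
    ZC.Pt (F.R g r d1) F.t (η1 * n) F.v1 :=
  ((ZC.eta h).1.mul h.ab p).cg (by rw [one_mul, (ZC.eta h).2.1])

/-- an element with a point normalises `V1` -/
theorem ZZ.q1_NV (h : F.ZZ F.u1 g g' r r' d1 d2 η1 η2) {n s : G} (p : ZC.Pt (F.R g r d1) F.t n s) :
    n ∈ 𝐍(F.V1) := by
  obtain ⟨ρ, hρ⟩ := h.rho
  obtain ⟨f, -, n2, e, he, e1, e2⟩ := h.exf hρ
  have pf : ZC.Pt (F.R g r d1) F.t f F.z := ⟨n2, e, he, e1, e2⟩
  have hs := h.q1_pt p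
  exact ZA.nrm (by
    rintro _ (rfl | rfl)
    · exact (mul_mem_cancel_left hs).1 (h.q1_pt (p.mul h.ab pf))
    · exact (mul_mem_cancel_left hs).1 (h.q1_pt (p.mul h.ab (h.q1_ηpt pf))))

theorem ZZ.q1_rt (h : F.ZZ F.u1 g g' r r' d1 d2 η1 η2) {w : G} (hw : w ∈ F.X1) :
    ∃ x ∈ F.R g r d1, x * x = w := by
  obtain ⟨i, j, k, rfl⟩ := F.memX1.1 hw
  exact ⟨_, h.memR.2 ⟨1, one_mem _, j, i, k, rfl⟩, h.zasq (one_mem _) j i k⟩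

theorem ZZ.q1_f (h : F.ZZ F.u1 g g' r r' d1 d2 η1 η2) : ∃ f' ∈ 𝐍(F.R g r d1), f' ∈ 𝐂(F.V1) ∧
    f' * F.t * f'⁻¹ = F.t * g ∧ f' * F.u1 * f'⁻¹ = F.u2 := by
  obtain ⟨ρ, hρ⟩ := h.rho
  obtain ⟨f, h1, hf, e, he, h3, h4⟩ := h.exf hρ
  have hu := (h.kill h.q1_nv h1 hf he h3 h4).2
  have fV := h.q1_NV (⟨hf, e, he, h3, h4⟩ : ZC.Pt (F.R g r d1) F.t f F.z)
  have VR : F.V1 ≤ F.R g r d1 := F.V1X1.trans h.XR
  have zS : (F.R g r d1 ⊔ closure {F.t, F.v2} : Subgroup G) ≤ centralizer {F.z} :=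
    sup_le (fun x hx => mem_centralizer_singleton_iff.2 (h.zac hx (VR F.b2_zV))) ((closure_le _).2 (by
      rintro x (rfl | rfl)
      exacts [mem_centralizer_singleton_iff.2 F.zt.symm, mem_centralizer_singleton_iff.2 F.B1zv2.symm]))
  have fz : f * F.z = F.z * f := by
    have c := mem_centralizer_singleton_iff.1 (zS (conj_mem_of_mem_normalizer' h1
      (mem_sup_right (subset_closure (by simp)) : F.v2 ∈ (F.R g r d1 ⊔ closure {F.t, F.v2} : Subgroup G))))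
    have c' : F.v2 * (f * F.z * f⁻¹) = f * F.z * f⁻¹ * F.v2 := by
      calc F.v2 * (f * F.z * f⁻¹) = f * (f⁻¹ * F.v2 * f * F.z) * f⁻¹ := by group
        _ = _ := by rw [c]; group
    rcases F.memV1.1 (conj_mem_of_mem_normalizer fV F.b2_zV) with k | k | k | k
    · exact absurd (conj_eq_one_iff.1 k) F.z1
    · exact mul_inv_eq_iff_eq_mul.1 k
    · rw [k] at c'; exact absurd c' F.zanc
    · rw [k, ← mul_assoc, ← F.B1zv2, mul_assoc, mul_assoc, mul_right_inj] at c'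
      exact absurd c' F.zanc
  obtain ⟨f0, n0, c0, t0, u0⟩ : ∃ f0 ∈ 𝐍(F.R g r d1), f0 ∈ 𝐂(F.V1) ∧ f0 * F.t * f0⁻¹ = F.t * e ∧
      f0 * F.u1 * f0⁻¹ = F.u2 := by
    rcases F.b2_pure fz fV with k | k
    · exact ⟨f, hf, ZA.cen (by rintro _ (rfl | rfl); exacts [fz.symm, k.symm]), h3, hu⟩
    · refine ⟨f * F.v2, mul_mem hf h.v2N, ZA.cen ?_, ?_, ?_⟩
      · rintro _ (rfl | rfl)
        · rw [← mul_assoc, ← fz, mul_assoc, F.B1zv2, mul_assoc]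
        · exact k.1.symm
      · rw [← h3, mul_assoc f, ← F.tv2]; group
      · rw [← hu, mul_assoc f, ← F.u1v2]; group
  have m : g⁻¹ * e ∈ F.X1 := (h.sq (mul_mem (inv_mem h.zaG) he)).2.1 (by
    rw [ZA.mm (h.zac (inv_mem h.zaG) he), h4, ← mul_inv_rev, h.gg, inv_mul_cancel])
  obtain ⟨a, aR, e1⟩ := h.q1_rt m
  refine ⟨a * f0, mul_mem (le_normalizer aR) n0, mul_mem (centralizer_anti VR (h.ab aR)) c0, ?_, ?_⟩
  · have c := h.zac aR he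
    have c2 := h.zac (h.XR m) h.zaG
    have s := F.sqW1 (F.X1W1 m)
    calc a * f0 * F.t * (a * f0)⁻¹ = a * (f0 * F.t * f0⁻¹) * a⁻¹ := by group
      _ = a * F.t * a⁻¹ * (a * e) * a⁻¹ := by rw [t0]; group
      _ = F.t * (g⁻¹ * e * g) * (g⁻¹ * e) := by rw [h.zat aR, c, e1]; group
      _ = F.t * g * (g⁻¹ * e * (g⁻¹ * e)) := by rw [c2]; group
      _ = _ := by rw [s, mul_one]
  · calc a * f0 * F.u1 * (a * f0)⁻¹ = a * (f0 * F.u1 * f0⁻¹) * a⁻¹ := by group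
      _ = _ := by rw [u0, h.zac aR (h.XR F.u2X1), mul_inv_cancel_right]

/-- the elements of `N(R)` that normalise `Q` and centralise `V1` -/
def q1_C (F : Fr G) (g r d : G) : Subgroup G :=
  𝐍(F.R g r d) ⊓ (𝐍((F.R g r d ⊔ zpowers F.t : Subgroup G)) ⊓ 𝐂(F.V1))

theorem q1_nC {n : G} (h1 : n ∈ 𝐍(F.R g r d1)) (h2 : n * F.t = F.t * n) (h3 : n ∈ 𝐍(F.V1)) :
    n ∈ 𝐍((F.R g r d1 ⊔ zpowers F.t : Subgroup G)) ∧ n ∈ 𝐍(F.q1_C g r d1) := by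
  have q : n ∈ 𝐍((F.R g r d1 ⊔ zpowers F.t : Subgroup G)) := by
    refine cj_eq_self_iff.1 ?_
    rw [cj_sup, cj_eq_of_mem_normalizer h1, cj_zpowers, h2, mul_inv_cancel_right]
  refine ⟨q, cj_eq_self_iff.1 ?_⟩
  rw [q1_C, cj_inf, cj_inf, cj_normalizer, cj_normalizer, cj_centralizer, cj_eq_of_mem_normalizer h1,
    cj_eq_of_mem_normalizer q, cj_eq_of_mem_normalizer h3]

theorem ZZ.q1_ex (h : F.ZZ F.u1 g g' r r' d1 d2 η1 η2) {n : G} (hn : n ∈ F.q1_C g r d1) :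
    ∃ s ∈ F.V1, ZC.Pt (F.R g r d1) F.t n s := by
  have tQ : F.t ∈ F.R g r d1 ⊔ zpowers F.t := mem_sup_right (mem_zpowers _)
  rcases ZD.memQ h (conj_mem_of_mem_normalizer hn.2.1 tQ) with m | ⟨e, he, m⟩
  · have m' := conj_mem_of_mem_normalizer' hn.1 m
    rw [show n⁻¹ * (n * F.t * n⁻¹) * n = F.t by group] at m'
    exact (F.tX1 ((h.sq m').2.1 F.tt)).elim
  · rw [h.ze_ti he] at m
    exact ⟨_, h.q1_omV (inv_mem he) ⟨n, m⟩, hn.1, _, inv_mem he, m, rfl⟩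

theorem ZZ.q1_mul (h : F.ZZ F.u1 g g' r r' d1 d2 η1 η2) {n m s s' : G} (hn : n ∈ 𝐂(F.V1)) (hs : s' ∈ F.V1)
    (p : ZC.Pt (F.R g r d1) F.t n s) (q : ZC.Pt (F.R g r d1) F.t m s') :
    ZC.Pt (F.R g r d1) F.t (n * m) (s * s') :=
  (p.mul h.ab q).cg (by rw [ZC.kfix (hn _ hs).symm])

theorem ZZ.q1_inv (h : F.ZZ F.u1 g g' r r' d1 d2 η1 η2) {n s : G} (hn : n ∈ 𝐂(F.V1)) (hs : s ∈ F.V1)
    (p : ZC.Pt (F.R g r d1) F.t n s) : ZC.Pt (F.R g r d1) F.t n⁻¹ s :=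
  (p.inv h.ab).cg (by
    rw [ZC.kfix (inv_mem hn _ hs).symm, inv_eq_of_mul_eq_one_right (F.sqW1 (F.X1W1 (F.V1X1 hs)))])

theorem ZZ.q1_pow (h : F.ZZ F.u1 g g' r r' d1 d2 η1 η2) {n s : G} (hn : n ∈ 𝐂(F.V1)) (hs : s ∈ F.V1)
    (p : ZC.Pt (F.R g r d1) F.t n s) (i : ℕ) : ZC.Pt (F.R g r d1) F.t (n ^ i) (s ^ i) := by
  induction i with
  | zero => simpa using ZC.Pt.one (one_mem _) (by simp)
  | succ i ih => rw [pow_succ, pow_succ]; exact h.q1_mul (pow_mem hn _) hs ih p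

theorem ZZ.q1_SP (h : F.ZZ F.u1 g g' r r' d1 d2 η1 η2) {n : G} (hn : n ∈ 𝐂(F.V1))
    (p : ZC.Pt (F.R g r d1) F.t n 1) : ∃ q ∈ F.R g r d1 ⊔ zpowers F.t,
      ∃ o ∈ 𝐂((F.R g r d1 ⊔ zpowers F.t : Subgroup G)), Odd (orderOf o) ∧ n = q * o :=
  let ⟨_, he, e1, e2⟩ := p.ex; h.SP' p.nm he e1 e2 hn

theorem ZZ.q1_QC (h : F.ZZ F.u1 g g' r r' d1 d2 η1 η2) : F.R g r d1 ⊔ zpowers F.t ≤ F.q1_C g r d1 :=
  le_inf (sup_le le_normalizer (zpowers_le.2 h.zatN))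
    (le_inf le_normalizer ((ZD.QX h).trans (centralizer_anti F.V1X1)))

theorem ZZ.q1_P (h : F.ZZ F.u1 g g' r r' d1 d2 η1 η2) : ∃ P O : Subgroup G, IsPGroup 2 P ∧
    F.R g r d1 ⊔ zpowers F.t ≤ P ∧ P ≤ F.q1_C g r d1 ∧ F.v2 ∈ 𝐍(P) ∧
    (∀ o, o ∈ O ↔ o ∈ 𝐂((F.R g r d1 ⊔ zpowers F.t : Subgroup G)) ∧ Odd (orderOf o)) ∧ P ≤ 𝐍(O) ∧
    F.q1_C g r d1 ≤ P ⊔ O := by
  obtain ⟨O, hO, -, -⟩ := F.exO1
  have tQ : F.t ∈ F.R g r d1 ⊔ zpowers F.t := mem_sup_right (mem_zpowers _)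
  have WQ : F.W1 ≤ F.R g r d1 ⊔ zpowers F.t := fun x hx => (F.memW1'.1 hx).elim (fun a => mem_sup_left (h.XR a))
    fun a => (mul_mem_cancel_left tQ).1 (mem_sup_left (h.XR a))
  have mO : ∀ x, x ∈ O ⊓ 𝐂((F.R g r d1 ⊔ zpowers F.t : Subgroup G)) ↔
      x ∈ 𝐂((F.R g r d1 ⊔ zpowers F.t : Subgroup G)) ∧ Odd (orderOf x) := fun x =>
    ⟨fun a => ⟨a.2, ((hO x).1 a.1).2⟩, fun a => ⟨(hO x).2 ⟨centralizer_le WQ a.1, a.2⟩, a.1⟩⟩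
  have vV : F.v2 ∈ 𝐍(F.V1) := ZA.nrm (by
    rintro _ (rfl | rfl)
    · rw [B2.cj_of_comm F.B1zv2.symm]; exact F.b2_zV
    · rw [F.b2_v2v]; exact mul_mem F.b2_zV F.b2_vV)
  obtain ⟨vQ, vC⟩ := q1_nC h.v2N F.tv2.symm vV
  obtain ⟨S, hS, le⟩ := exists_isSylowIn_le (isP_sup (ZD.isQ h) (P2.of_sq F.v22) vQ)
    (sup_le_sup_right h.q1_QC (zpowers F.v2))
  have vS : F.v2 ∈ S := le (mem_sup_right (mem_zpowers _))
  have QP : F.R g r d1 ⊔ zpowers F.t ≤ S ⊓ F.q1_C g r d1 := le_inf (le_sup_left.trans le) h.q1_QC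
  refine ⟨S ⊓ F.q1_C g r d1, _, hS.isP.to_le inf_le_left, QP, inf_le_right, cj_eq_self_iff.1 (by
    rw [cj_inf, cj_eq_of_mem_normalizer (le_normalizer vS), cj_eq_of_mem_normalizer vC]), mO,
    fun x hx => b2_normO mO hx.2.2.1, fun x hx => ?_⟩
  obtain ⟨n, hn, p2⟩ := exists_odd_P2 x
  obtain ⟨k, hk, e⟩ := hS.exists_cj_le p2.zpowers (zpowers_le.2 (mem_sup_left (pow_mem hx n)))
  obtain ⟨y, hy, i, rfl⟩ := ZA.adjL vC (F.v22 ▸ one_mem _) hk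
  have m : y * x ^ n * y⁻¹ ∈ S := by
    have := conj_mem_of_mem_normalizer' (le_normalizer (pow_mem vS i)) (e (cj_mem _ (mem_zpowers _)))
    simpa [mul_assoc] using this
  have mC : y * x ^ n * y⁻¹ ∈ F.q1_C g r d1 := mul_mem (mul_mem hy (pow_mem hx n)) (inv_mem hy)
  obtain ⟨s, hs, px⟩ := h.q1_ex hx
  obtain ⟨s', hs', py⟩ := h.q1_ex hy
  have ss := F.sqW1 (F.X1W1 (F.V1X1 hs))
  have p1 := (h.q1_pow hx.2.2 hs px n).cg (pow_odd_of_sq ss hn)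
  have p3 := h.q1_mul (mul_mem hy.2.2 (pow_mem hx.2.2 n)) hs' (h.q1_mul hy.2.2 hs py p1) (h.q1_inv hy.2.2 hs' py)
  have e3 : s' * s * s' = s := by
    rw [comm_of_sq (fun _ => F.sqW1) (F.X1W1 (F.V1X1 hs')) (F.X1W1 (F.V1X1 hs)), mul_assoc,
      F.sqW1 (F.X1W1 (F.V1X1 hs')), mul_one]
  have p4 := (h.q1_mul (inv_mem mC.2.2) hs (h.q1_inv mC.2.2 hs (p3.cg e3)) px).cg ss
  obtain ⟨q, hq, o, ho, oo, eo⟩ := h.q1_SP (mul_mem (inv_mem mC.2.2) hx.2.2) p4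
  rw [inv_mul_eq_iff_eq_mul] at eo
  rw [eo]
  exact mul_mem (mem_sup_left ⟨m, mC⟩) (mul_mem (mem_sup_left (QP hq)) (mem_sup_right ((mO o).2 ⟨ho, oo⟩)))

theorem ZZ.q1_tw (h : F.ZZ F.u1 g g' r r' d1 d2 η1 η2) {o : G}
    (ho : o ∈ 𝐂((F.R g r d1 ⊔ zpowers F.t : Subgroup G))) : F.ZZ F.u1 g g' r r' d1 d2 (o * η1) η2 := by
  have k : ∀ x ∈ F.R g r d1 ⊔ zpowers F.t, ∀ y, η1 * y * η1⁻¹ = x → o * η1 * y * (o * η1)⁻¹ = x := fun x hx y e => by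
    calc _ = o * (η1 * y * η1⁻¹) * o⁻¹ := by group
      _ = _ := by rw [e, B2.cj_of_comm (ho x hx).symm]
  exact { h with
    η1t := B2.comm_of_cj (k _ (mem_sup_right (mem_zpowers _)) _ (B2.cj_of_comm h.η1t))
    η1u := B2.comm_of_cj (k _ (mem_sup_left (h.XR F.b2_uX)) _ (B2.cj_of_comm h.η1u))
    η1r := B2.comm_of_cj (k _ (mem_sup_left h.zaR) _ (B2.cj_of_comm h.η1r))
    η1g := k _ (mem_sup_left h.zad) _ h.η1g
    η1d := k _ (mem_sup_left (inv_mem (mul_mem h.zaG h.zad))) _ h.η1d }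

theorem ZZ.q1_ηC (h : F.ZZ F.u1 g g' r r' d1 d2 η1 η2) : η1 ∈ 𝐍(F.q1_C g r d1) :=
  (q1_nC h.ηN h.η1t h.q1_ηV).2

/-- `P = Q ⟨a, b⟩` -/
def q1_P3 (F : Fr G) (g r d a b : G) : Subgroup G := closure {g, d, r, F.t, a, b}

/-- type `ZZ` in case `CA`: a 2-group `Q ⟨a, b⟩` normalised by `η1` and `v2` -/
structure q1_ZQ3 (F : Fr G) (g g' r r' d1 d2 η1 η2 a b : G) : Prop where
  zz : F.ZZ F.u1 g g' r r' d1 d2 η1 η2
  aV : a ∈ 𝐂(F.V1)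
  aR : a ∈ 𝐍(F.R g r d1)
  aT : a * F.t * a⁻¹ = F.t * g
  au : a * F.u1 * a⁻¹ = F.u2
  ηa : η1 * a * η1⁻¹ = b
  bT : b * F.t * b⁻¹ = F.t * d1
  isP : IsPGroup 2 (F.q1_P3 g r d1 a b)
  ηP : η1 ∈ 𝐍(F.q1_P3 g r d1 a b)
  vP : F.v2 ∈ 𝐍(F.q1_P3 g r d1 a b)
  QP : F.R g r d1 ⊔ zpowers F.t ≤ F.q1_P3 g r d1 a b
  PC : F.q1_P3 g r d1 a b ≤ F.q1_C g r d1
  inQ : ∀ x ∈ F.q1_P3 g r d1 a b, ∀ e ∈ F.R g r d1, x * F.t * x⁻¹ = F.t * e → e * e = 1 →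
    x ∈ F.R g r d1 ⊔ zpowers F.t

theorem ZZ.q1_zq3 (h : F.ZZ F.u1 g g' r r' d1 d2 η1 η2) : ∃ η1 a b, F.q1_ZQ3 g g' r r' d1 d2 η1 η2 a b := by
  obtain ⟨f, fR, fV, ft, fu⟩ := h.q1_f
  obtain ⟨P, O, hP, QP, PC, vP, mO, PO, CP⟩ := h.q1_P
  have tQ : F.t ∈ F.R g r d1 ⊔ zpowers F.t := mem_sup_right (mem_zpowers _)
  have fC : f ∈ F.q1_C g r d1 := ⟨fR, ⟨mem_normalizer_of_cj_le (by
    rw [cj_sup, cj_eq_of_mem_normalizer fR, cj_zpowers, ft]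
    exact sup_le le_sup_left (zpowers_le.2 (mul_mem tQ (mem_sup_left h.zaG)))), fV⟩⟩
  obtain ⟨a, ha, o, ho, rfl⟩ := (mem_sup_of_le_normalizer_right PO).1 (CP fC)
  have oQ := ((mO o).1 ho).1
  have ka : ∀ x ∈ F.R g r d1 ⊔ zpowers F.t, a * o * x * (a * o)⁻¹ = a * x * a⁻¹ := fun x hx => by
    calc _ = a * (o * x * o⁻¹) * a⁻¹ := by group
      _ = _ := by rw [B2.cj_of_comm (oQ x hx).symm]
  rw [ka _ tQ] at ft
  rw [ka _ (mem_sup_left (h.XR F.b2_uX))] at fu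
  obtain ⟨o', ho', hη⟩ := frat_odd (g := η1) hP (fun o ho => ((mO o).1 ho).2) PO
    (le_trans (le_trans (cj_mono η1 PC) (cj_eq_of_mem_normalizer h.q1_ηC).le) CP)
  have h' := h.q1_tw ((mO o').1 ho').1
  generalize o' * η1 = η at hη h'
  have hb : η * a * η⁻¹ ∈ P := conj_mem_of_mem_normalizer hη ha
  have bt : η * a * η⁻¹ * F.t * (η * a * η⁻¹)⁻¹ = F.t * d1 := by
    calc _ = η * a * η⁻¹ * (η * F.t * η⁻¹) * (η * a * η⁻¹)⁻¹ := by rw [B2.cj_of_comm h'.η1t]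
      _ = η * (a * F.t * a⁻¹) * η⁻¹ := by group
      _ = _ := by rw [ft, B2.cj_mul, h'.η1g, B2.cj_of_comm h'.η1t]
  obtain ⟨b, eb⟩ : ∃ b, η * a * η⁻¹ = b := ⟨_, rfl⟩
  rw [eb] at hb bt
  have pa : ZC.Pt (F.R g r d1) F.t a F.z := ⟨(PC ha).1, g, h.zaG, ft, h.gg⟩
  have pb : ZC.Pt (F.R g r d1) F.t b F.v1 := ⟨(PC hb).1, d1, h.zad, bt, h.d11⟩
  have rP : r ∈ F.q1_P3 g r d1 a b := subset_closure (by simp)
  have QPP : F.R g r d1 ⊔ zpowers F.t ≤ F.q1_P3 g r d1 a b := sup_le ((closure_le _).2 (by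
    rintro _ (rfl | rfl | rfl | rfl)
    exacts [subset_closure (by simp), subset_closure (by simp), rP, h.rr ▸ mul_mem rP rP]))
    (zpowers_le.2 (subset_closure (by simp)))
  have PPP : F.q1_P3 g r d1 a b ≤ P := (closure_le _).2 (by
    rintro _ (rfl | rfl | rfl | rfl | rfl | rfl)
    exacts [QP (mem_sup_left h.zaG), QP (mem_sup_left h.zad), QP (mem_sup_left h.zaR), QP tQ, ha, hb])
  have aP : a ∈ F.q1_P3 g r d1 a b := subset_closure (by simp)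
  have bP : b ∈ F.q1_P3 g r d1 a b := subset_closure (by simp)
  have inQ : ∀ x ∈ P, ZC.Pt (F.R g r d1) F.t x 1 → x ∈ F.R g r d1 ⊔ zpowers F.t := fun x hx p => by
    obtain ⟨q, hq, o, -, oo, eo⟩ := h.q1_SP (PC hx).2.2 p
    rw [eo] at hx
    rw [(P2.of_mem hP ((mul_mem_cancel_left (QP hq)).1 hx)).eq_one oo, mul_one] at eo
    exact eo ▸ hq
  have eP : F.q1_P3 g r d1 a b = P := le_antisymm PPP fun x hx => by
    obtain ⟨s, hs, px⟩ := h.q1_ex (PC hx)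
    obtain ⟨y, hy, py⟩ : ∃ y ∈ F.q1_P3 g r d1 a b, ZC.Pt (F.R g r d1) F.t y s := by
      rcases F.memV1.1 hs with rfl | rfl | rfl | rfl
      exacts [⟨1, one_mem _, ZC.Pt.one (one_mem _) (by simp)⟩, ⟨a, aP, pa⟩, ⟨b, bP, pb⟩,
        ⟨a * b, mul_mem aP bP, h.q1_mul (PC ha).2.2 F.b2_vV pa pb⟩]
    have yx := mul_mem (PPP hy) hx
    exact (mul_mem_cancel_left hy).1 (QPP (inQ _ yx
      ((h.q1_mul (PC (PPP hy)).2.2 hs py px).cg (F.sqW1 (F.X1W1 (F.V1X1 hs))))))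
  exact ⟨η, a, b, h', (PC ha).2.2, (PC ha).1, ft, fu, eb, bt, eP ▸ hP, eP ▸ hη, eP ▸ vP, QPP, eP ▸ PC,
    fun x hx e he e1 e2 => inQ x (PPP hx) ⟨(PC (PPP hx)).1, e, he, e1, e2⟩⟩

theorem ZZ.q1_K (h : F.ZZ F.u1 g g' r r' d1 d2 η1 η2) {e : G} (he : e ∈ F.R g r d1) (s : e * e ∈ F.V1) :
    e ∈ F.qK g d1 := by
  have gK : g ∈ F.qK g d1 := subset_closure (by simp)
  have dK : d1 ∈ F.qK g d1 := subset_closure (by simp)
  have XK : F.X1 ≤ F.qK g d1 := (closure_le _).2 (by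
    rintro _ (rfl | rfl | rfl)
    exacts [h.gg ▸ mul_mem gK gK, h.d11 ▸ mul_mem dK dK, subset_closure (by simp)])
  obtain ⟨w, hw, i, j, k, rfl⟩ := h.memR.1 he
  rw [h.zasq hw, mul_mem_cancel_left (mul_mem (pow_mem F.b2_vV _) (pow_mem F.b2_zV _))] at s
  fin_cases k
  · simpa using mul_mem (mul_mem (XK hw) (pow_mem gK _)) (pow_mem dK _)
  · exact absurd (by simpa using s) (ZC.uV F F.hu1)

theorem ZZ.q1_KR (h : F.ZZ F.u1 g g' r r' d1 d2 η1 η2) : F.qK g d1 ≤ F.R g r d1 := (closure_le _).2 (by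
  rintro _ (rfl | rfl | rfl)
  exacts [h.zaG, h.zad, h.XR F.b2_uX])

theorem ZZ.q1_Ksq (h : F.ZZ F.u1 g g' r r' d1 d2 η1 η2) {e : G} (he : e ∈ F.qK g d1) : e * e ∈ F.V1 := by
  induction he using closure_induction with
  | mem x hx =>
    rcases hx with rfl | rfl | rfl
    exacts [h.gg ▸ F.b2_zV, h.d11 ▸ F.b2_vV, F.u11 ▸ one_mem _]
  | one => simp
  | mul x y hx hy a b => rw [ZA.mm (h.zac (h.q1_KR hx) (h.q1_KR hy))]; exact mul_mem a b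
  | inv x _ a => rw [← mul_inv_rev]; exact inv_mem a

theorem ZZ.qom (h : F.ZZ F.u1 g g' r r' d1 d2 η1 η2) {e : G} (he : e ∈ F.R g r d1) (o : F.Om (F.t * e)) : e ∈ F.qK g d1 := by
  exact h.q1_K he (h.q1_omV he o)

theorem ZZ.qom' (h : F.ZZ F.u1 g g' r r' d1 d2 η1 η2) {e : G} (he : e ∈ F.qK g d1) : F.Om (F.t * e) := by
  obtain ⟨f, fR, fV, ft, -⟩ := h.q1_f
  have pa : ZC.Pt (F.R g r d1) F.t f F.z := ⟨fR, g, h.zaG, ft, h.gg⟩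
  have pb := h.q1_ηpt pa
  have eR := h.q1_KR he
  obtain ⟨y, py⟩ : ∃ y, ZC.Pt (F.R g r d1) F.t y (e * e) := by
    rcases F.memV1.1 (h.q1_Ksq he) with k | k | k | k <;> rw [k]
    exacts [⟨1, ZC.Pt.one (one_mem _) (by simp)⟩, ⟨_, pa⟩, ⟨_, pb⟩, ⟨_, h.q1_mul fV F.b2_vV pa pb⟩]
  obtain ⟨e', he', e1, e2⟩ := py.ex
  have m : e * e'⁻¹ ∈ F.X1 := (h.sq (mul_mem eR (inv_mem he'))).2.1 (by
    rw [ZA.mm (h.zac eR (inv_mem he')), ← mul_inv_rev, e2, mul_inv_cancel])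
  obtain ⟨x, xR, e3⟩ := h.q1_rt m
  refine ⟨x * y, ?_⟩
  calc x * y * F.t * (x * y)⁻¹ = x * (y * F.t * y⁻¹) * x⁻¹ := by group
    _ = x * F.t * x⁻¹ * (x * e') * x⁻¹ := by rw [e1]; group
    _ = _ := by rw [h.zat xR, e3, h.zac xR he']; group

theorem ZZ.qNQ (h : F.ZZ F.u1 g g' r r' d1 d2 η1 η2) {n : G} (hn : n ∈ 𝐍(F.qQ g r d1)) : n ∈ 𝐍(F.R g r d1) ∧ n ∈ 𝐍(F.qK g d1) ∧ n ∈ 𝐍(F.V1) := by
  have k : ∀ x ∈ F.R g r d1, x * x ≠ 1 → n * x * n⁻¹ ∈ F.R g r d1 := fun x hx x1 => by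
    rcases ZD.memQ h (conj_mem_of_mem_normalizer hn (mem_sup_left hx)) with m | ⟨e, he, m⟩
    · exact m
    · exfalso
      apply x1
      have : n * x * n⁻¹ * (n * x * n⁻¹) = 1 := by
        rw [m, mul_assoc, ← mul_assoc F.t, h.inv he, mul_inv_cancel]
      rwa [← B2.cj_mul, conj_eq_one_iff] at this
  have kr := k r h.zaR (h.rr ▸ F.hu1)
  have nR : n ∈ 𝐍(F.R g r d1) := ZA.nrm (by
    rintro _ (rfl | rfl | rfl | rfl)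
    · exact k _ h.zaG (h.gg ▸ F.z1)
    · exact k _ h.zad (h.d11 ▸ F.b2_v1)
    · exact kr
    · have := mul_mem kr kr
      rw [← B2.cj_mul, h.rr] at this
      exact this)
  have nV : n ∈ 𝐍(F.V1) := by
    rcases ZD.memQ h (conj_mem_of_mem_normalizer hn (mem_sup_right (mem_zpowers F.t))) with m | ⟨e, he, m⟩
    · have m' := conj_mem_of_mem_normalizer' nR m
      rw [show n⁻¹ * (n * F.t * n⁻¹) * n = F.t by group] at m'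
      exact (F.tX1 ((h.sq m').2.1 F.tt)).elim
    · rw [h.ze_ti he] at m
      exact h.q1_NV (⟨nR, _, inv_mem he, m, rfl⟩ : ZC.Pt (F.R g r d1) F.t n _)
  have kk : ∀ x ∈ F.qK g d1, n * x * n⁻¹ ∈ F.qK g d1 := fun x hx =>
    h.q1_K (conj_mem_of_mem_normalizer nR (h.q1_KR hx)) (by
      rw [← B2.cj_mul]; exact conj_mem_of_mem_normalizer nV (h.q1_Ksq hx))
  exact ⟨nR, ZA.nrm fun x hx => kk x (subset_closure hx), nV⟩

theorem ZZ.qa (h : F.ZZ F.u1 g g' r r' d1 d2 η1 η2) (d : F.dl ≠ 1) : ∃ η1 a b, F.QA g g' r r' d1 d2 η1 η2 a b := by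
  obtain ⟨η, a, b, q⟩ := h.q1_zq3
  have e : F.qP g r d1 a b = F.q1_P3 g r d1 a b := by
    unfold qP q1_P3
    congr 1
    ext x
    simp only [Set.mem_insert_iff, Set.mem_singleton_iff]
    tauto
  exact ⟨η, a, b, q.zz, d, q.aV, q.aR, q.aT, q.au, q.ηa, e ▸ q.isP, e ▸ q.ηP, e ▸ q.vP⟩

end Fr

end H25.A6
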