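import Mathlib
import Cfsg.Agent.Lib.A6S.QD
import Cfsg.Agent.Lib.A6S.HB

/-! A swap that normalises `⟨g, r⟩`. -/

set_option autoImplicit false

namespace H25.A6

open Subgroup H69 H36.SW H25.A7

variable {G : Type*} [Group G] [Finite G]

namespace Fr
variable {F : Fr G} {g g' r r' d1 d2 η1 η2 a b : G}

theorem ZZ.Q12cs (h : F.ZZ F.u1 g g' r r' d1 d2 η1 η2) :
    r' * r' = F.u2 ∧ (g * r)⁻¹ * r' ∈ F.F0 ∧ F.CA :=
  (h.cs.resolve_left fun k => F.hu1 k.1).2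

theorem Q12g (F : Fr G) (g r : G) : g ∈ closure ({g, r, F.u1} : Set G) := subset_closure (by simp)
theorem Q12r (F : Fr G) (g r : G) : r ∈ closure ({g, r, F.u1} : Set G) := subset_closure (by simp)
theorem Q12z (F : Fr G) : F.z ∈ F.F0 := subset_closure (by simp)
theorem Q12u (F : Fr G) : F.u1 ∈ F.F0 := subset_closure (by simp)

theorem ZZ.Q12NN (h : F.ZZ F.u1 g g' r r' d1 d2 η1 η2) :
    F.T ⊔ closure ({g, r, F.u1} : Set G) ≤ F.NN := by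
  refine sup_le F.TNN ((closure_le _).2 ?_)
  rintro y (rfl | rfl | rfl)
  · exact F.HA_NN h.gT F.Q12z (by rw [h.zat h.zaG, h.gg])
  · exact F.HA_NN h.rT F.Q12u (by rw [h.zat h.zaR, h.rr])
  · exact F.TNN F.b2_uT

theorem ZZ.Q12P (h : F.ZZ F.u1 g g' r r' d1 d2 η1 η2) :
    IsPGroup 2 (F.T ⊔ closure ({g, r, F.u1} : Set G) : Subgroup G) := by
  refine h.isP.to_le (sup_le ?_ (le_sup_of_le_left h.MR))
  rw [F.T_eq, closure_le]
  rintro y (rfl | rfl | rfl | rfl)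
  · exact mem_sup_right (subset_closure (by simp))
  · exact mem_sup_left (h.XR F.b2_vX)
  · exact mem_sup_right (subset_closure (by simp))
  · exact mem_sup_left (h.XR F.b2_uX)

theorem ZZ.Q12c (h : F.ZZ F.u1 g g' r r' d1 d2 η1 η2) :
    (F.T ⊔ closure ({g, r, F.u1} : Set G)) ⊓ centralizer {F.t} = F.T :=
  le_antisymm (fun _ hx => F.p2T (mem_centralizer_singleton_iff.1 hx.2) (h.Q12NN hx.1).1 (h.Q12NN hx.1).2.1
    (P2.of_mem h.Q12P hx.1)) (le_inf le_sup_left F.TC)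

theorem ZZ.Q12f (h : F.ZZ F.u1 g g' r r' d1 d2 η1 η2) {n : G} (hn : n ∈ 𝐍(F.T)) :
    F.t * (n * F.t * n⁻¹) ∈ F.F0 :=
  (F.memZT.1 (conj_mem_of_mem_normalizer (F.NZT hn) F.b2_tZ)).resolve_left fun k =>
    F.b2_nF h.Q12cs.2.2.n1 h.Q12cs.2.2.n2 k (F.om_t.cj n)

theorem ZZ.Q12sq (h : F.ZZ F.u1 g g' r r' d1 d2 η1 η2) {f : G} (hf : f ∈ F.F0) :
    ∃ m ∈ closure ({g, r, F.u1} : Set G), m * m = f := by
  rcases F.memF0.1 hf with rfl | rfl | rfl | rfl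
  · exact ⟨1, one_mem _, mul_one 1⟩
  · exact ⟨g, F.Q12g g r, h.gg⟩
  · exact ⟨r, F.Q12r g r, h.rr⟩
  · exact ⟨g * r, mul_mem (F.Q12g g r) (F.Q12r g r), by rw [ZA.mm h.gr, h.gg, h.rr]⟩

theorem ZZ.Q12tr (h : F.ZZ F.u1 g g' r r' d1 d2 η1 η2) {n : G} (hn : n ∈ 𝐍(F.T)) :
    ∃ m ∈ closure ({g, r, F.u1} : Set G), n * F.t * n⁻¹ = m * F.t * m⁻¹ := by
  obtain ⟨m, hm, e⟩ := h.Q12sq (h.Q12f hn)
  exact ⟨m, hm, by rw [h.zat (h.MR hm), e, F.b2_tt]⟩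

theorem ZZ.Q12syl (h : F.ZZ F.u1 g g' r r' d1 d2 η1 η2) :
    IsSylowIn 2 (F.T ⊔ closure ({g, r, F.u1} : Set G)) F.NN := by
  refine syl_of_norm (t := F.t) h.Q12P h.Q12NN ?_ fun n hn _ => ?_
  · rw [h.Q12c]
    exact F.sylT1.mono (le_inf F.TNN F.TC) fun x hx => ⟨hx.2, hx.1.2.1⟩
  · obtain ⟨m, hm, e⟩ := h.Q12tr hn.1
    exact ⟨m, mem_sup_right hm, e⟩

theorem ZZ.Q12x (h : F.ZZ F.u1 g g' r r' d1 d2 η1 η2) (d : F.dl ≠ 1) :
    ∃ y, F.HBs 𝐍((F.T ⊔ closure ({g, r, F.u1} : Set G) : Subgroup G)) y ∧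
      (y * F.v1 * y⁻¹ = F.v2 ∨ y * F.v1 * y⁻¹ = F.z * F.v2) ∧
      (y * F.v2 * y⁻¹ = F.v1 ∨ y * F.v2 * y⁻¹ = F.z * F.v1) := by
  have γN : F.dl ∈ 𝐍(F.NN) := by
    rw [← cj_eq_self_iff, NN, cj_inf, cj_inf, cj_normalizer, cj_normalizer, cj_normalizer,
      cj_eq_of_mem_normalizer F.dlT, F.dlW d, HNsw F.dlT (F.dlW d), inf_comm 𝐍(F.W2)]
  obtain ⟨y, yM, n, hn, e0⟩ := h.Q12syl.frattini' γN
  have hy' : y = F.dl * n⁻¹ := by rw [e0]; group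
  have yT : y ∈ 𝐍(F.T) := by rw [hy']; exact mul_mem F.dlT (inv_mem hn.1)
  have yW : F.W1 ^ᶜ y = F.W2 := by rw [hy']; exact HNmul' (F.dlW d) (inv_mem hn.2.1)
  clear hy' e0 hn
  have nN : ∀ {y}, F.W1 ^ᶜ y = F.W2 → y ∉ F.NN := fun e k => F.W1ne ((cj_eq_self_iff.2 k.2.1).symm.trans e)
  obtain ⟨c, hc, e⟩ := h.Q12tr yT
  have cN := inv_mem (h.Q12NN (mem_sup_right hc))
  have a1 : c⁻¹ * y * F.t * (c⁻¹ * y)⁻¹ = F.t := by rw [HNcj, e]; group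
  have a2 : c⁻¹ * y ∈ 𝐍(F.T) := mul_mem cN.1 yT
  have a3 := HNmul yW cN
  have a0 := mul_mem (le_normalizer (inv_mem (mem_sup_right (S := F.T) hc))) yM
  generalize c⁻¹ * y = x at a0 a1 a2 a3
  obtain ⟨-, -, s1, s2⟩ := (F.swu (B2.comm_of_cj a1) a2).resolve_left (nN a3)
  have hn := (F.toNN d a2).resolve_left (nN a3)
  have nt : x * F.dl * F.t = F.t * (x * F.dl) := B2.comm_of_cj (by rw [HNcj, B2.cj_of_comm F.dlt, a1])
  obtain ⟨l1, l2, -⟩ := F.hdl.resolve_left d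
  refine ⟨x, ⟨a0, a1, s1, s2⟩, ?_, ?_⟩
  · rw [← l2, ← HNcj]
    exact F.sw.b2_vc (F.Nz hn.1) (F.nW2 _ nt hn.2.2).2
  · rw [← l1, ← HNcj]
    exact F.b2_vc (F.Nz hn.1) (F.nW1 _ nt hn.2.1).2

/-- an element of `T M` with square `u2` that centralises `v1, v2` lies in `g r F0` -/
theorem ZZ.Q12s (h : F.ZZ F.u1 g g' r r' d1 d2 η1 η2) {s : G}
    (hs : s ∈ F.T ⊔ closure ({g, r, F.u1} : Set G)) (c1 : F.v1 * s = s * F.v1) (c2 : F.v2 * s = s * F.v2)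
    (e : s * s = F.u2) : (g * r)⁻¹ * s ∈ F.F0 := by
  have gr := mul_mem (F.Q12g g r) (F.Q12r g r)
  have fin : s ∈ closure ({g, r, F.u1} : Set G) → (g * r)⁻¹ * s ∈ F.F0 := fun k => by
    refine h.zasM (mul_mem (inv_mem gr) k) ?_
    rw [ZA.mm (h.zac (h.MR (inv_mem gr)) (h.MR k)), e, ← mul_inv_rev, ZA.mm h.gr, h.gg, h.rr, F.HNu2,
      inv_mul_cancel]
  have hn : closure ({g, r, F.u1} : Set G) ≤ 𝐍(F.T) := fun _ k => (h.Q12NN (mem_sup_right k)).1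
  rw [← SetLike.mem_coe, coe_mul_of_right_le_normalizer_left _ _ hn, Set.mem_mul] at hs
  obtain ⟨τ, hτ, m, hm, rfl⟩ := hs
  have k : ∀ {v}, v ∈ closure ({F.v1, F.v2, F.u1} : Set G) → v * (τ * m) = τ * m * v → v * τ = τ * v :=
    fun {v} hv c => by
      rw [mul_assoc, ← h.zaC hm v hv, ← mul_assoc, ← mul_assoc] at c
      exact mul_right_cancel c
  have τZ : τ ∈ F.ZT := by
    refine (F.cenT hτ).1 ?_
    rw [F.T_eq]
    refine B2.cent_gen ?_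
    rintro y (rfl | rfl | rfl | rfl)
    · exact (mem_centralizer_singleton_iff.1 (F.TC hτ)).symm
    · exact k (subset_closure (by simp)) c1
    · exact k (subset_closure (by simp)) c2
    · exact ((F.cenT F.b2_uT).2 F.b2_uZ τ hτ).symm
  rcases F.memZT.1 τZ with q | q
  · exact fin (mul_mem (h.zaF q) hm)
  · exfalso
    have i := h.inv (h.MR (mul_mem (h.zaF q) hm))
    refine F.u2_ne F.hu1 ?_
    rw [← e]
    calc τ * m * (τ * m) = F.t * (F.t * τ * m) * F.t * (F.t * τ * m) := by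
          simp only [mul_assoc, F.b2_tt]
      _ = 1 := by rw [i, inv_mul_cancel]

theorem ZZ.qκ (h : F.ZZ F.u1 g g' r r' d1 d2 η1 η2) (d : F.dl ≠ 1) : ∃ κ, κ * F.t = F.t * κ ∧ κ * F.v1 * κ⁻¹ = F.v2 ∧ κ * F.v2 * κ⁻¹ = F.v1 ∧
    κ * F.u1 * κ⁻¹ = F.u2 ∧ κ * F.u2 * κ⁻¹ = F.u1 ∧ (g * r)⁻¹ * (κ * r * κ⁻¹) ∈ F.F0 := by
  obtain ⟨y, s, h1, h2⟩ := h.Q12x d
  obtain ⟨κ, s, h1, h2⟩ := HB2 (le_sup_left.trans le_normalizer) s h1 h2
  refine ⟨κ, B2.comm_of_cj s.t, h1, h2, s.u1, s.u2, h.Q12s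
    (conj_mem_of_mem_normalizer s.m (mem_sup_right (F.Q12r g r))) ?_ ?_ ?_⟩
  · rw [← h2]; exact B2.comm_cj κ (h.rT _ (subset_closure (by simp)))
  · rw [← h1]; exact B2.comm_cj κ (h.rT _ (subset_closure (by simp)))
  · rw [← B2.cj_mul, h.rr, s.u1]

theorem ZZ.Q12sh (h : F.ZZ F.u1 g g' r r' d1 d2 η1 η2) {w e e' : G}
    (hw : w ∈ closure ({F.v1, F.v2, F.u1} : Set G)) (he : e ∈ closure ({g, r, F.u1} : Set G))
    (hf : e' * e⁻¹ ∈ F.F0) : IsConj (w * (F.t * e)) (w * (F.t * e')) := by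
  obtain ⟨m, hm, q⟩ := h.Q12sq hf
  refine isConj_iff.2 ⟨m, ?_⟩
  rw [B2.cj_mul, B2.cj_mul, B2.cj_of_comm (h.zaC hm w hw).symm, h.zat (h.MR hm), q,
    B2.cj_of_comm (h.zac (h.MR hm) (h.MR he))]
  group

theorem ZZ.qcv (h : F.ZZ F.u1 g g' r r' d1 d2 η1 η2) (d : F.dl ≠ 1) {f : G} (hf : f ∈ F.F0) :
    (∃ s, s * (F.t * r) * s⁻¹ = F.v2 * (f * (F.t * r))) ∧ ∃ s, s * F.u1 * s⁻¹ = F.v2 * F.u1 := by
  constructor
  · obtain ⟨κ, κt, -, -, -, -, κr⟩ := h.qκ d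
    have gM := F.Q12g g r
    have rM := F.Q12r g r
    have gr := mul_mem gM rM
    have r'F := h.Q12cs.2.1
    have cm : ∀ {x y}, x ∈ closure ({g, r, F.u1} : Set G) → y ∈ closure ({g, r, F.u1} : Set G) → x * y = y * x :=
      fun hx hy => h.zac (h.MR hx) (h.MR hy)
    have sM : κ * r * κ⁻¹ ∈ closure ({g, r, F.u1} : Set G) := (mul_mem_cancel_left (inv_mem gr)).1 (h.zaF κr)
    have A : IsConj (F.t * r) (1 * (F.t * (κ * r * κ⁻¹))) :=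
      isConj_iff.2 ⟨κ, by rw [B2.cj_mul, B2.cj_of_comm κt, one_mul]⟩
    generalize κ * r * κ⁻¹ = s at κr sM A
    have B : IsConj (1 * (F.t * s)) (1 * (F.t * (F.z * r'))) := by
      refine h.Q12sh (one_mem _) sM ?_
      have : F.z * r' * s⁻¹ = F.z * (((g * r)⁻¹ * r') * ((g * r)⁻¹ * s)⁻¹) := by
        rw [cm (inv_mem gr) h.zar, cm (inv_mem gr) sM]; group
      rw [this]
      exact mul_mem F.Q12z (mul_mem r'F (inv_mem κr))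
    have C : IsConj (1 * (F.t * (F.z * r'))) (F.v2 * (F.t * r')) := by
      refine isConj_iff.2 ⟨η2, ?_⟩
      rw [one_mul, ← mul_assoc F.t, ← F.zt, mul_assoc F.z, B2.cj_mul, B2.cj_mul, B2.cj_of_comm h.η2t,
        B2.cj_of_comm h.η2r, ← h.zaM.1, B2.cj_mul, h.η2g, h.d22]
    have D : IsConj (F.v2 * (F.t * r')) (F.v2 * (F.t * (g⁻¹ * r'))) := by
      refine isConj_iff.2 ⟨d1⁻¹, ?_⟩
      have c := h.zaC gM F.v1 (subset_closure (by simp))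
      rw [B2.cj_mul, B2.cj_mul, h.zat (inv_mem h.zad), B2.cj_of_comm (h.zac (inv_mem h.zad) (h.MR h.zar)),
        inv_inv, h.c1, ← mul_inv_rev, h.d11, ← h.tg]
      calc F.v2 * g * F.v1 * (F.t * F.v1⁻¹ * r') = F.v2 * g * (F.v1 * F.t) * F.v1⁻¹ * r' := by group
        _ = F.v2 * (g * (F.t * r')) := by rw [← F.tv1]; group
        _ = _ := by simp only [mul_assoc, F.b2_tt]
    have E : IsConj (F.v2 * (F.t * (g⁻¹ * r'))) (F.v2 * (F.t * (f * r))) := by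
      refine h.Q12sh (subset_closure (by simp)) (mul_mem (inv_mem gM) h.zar) ?_
      have : f * r * (g⁻¹ * r')⁻¹ = f * ((g * r)⁻¹ * r')⁻¹ := by
        rw [mul_assoc, cm rM (inv_mem (mul_mem (inv_mem gM) h.zar))]; group
      rw [this]
      exact mul_mem hf (inv_mem r'F)
    have := isConj_iff.1 (A.trans (B.trans (C.trans (D.trans E))))
    rwa [← mul_assoc F.t f, ← EA_F0t hf, mul_assoc f] at this
  · refine ⟨F.v1 * F.y2, ?_⟩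
    rw [HNcj, ← F.HNu1, B2.cj_mul F.y2, F.y2z, B2.cj_of_comm F.y2u, B2.cj_mul, B2.cj_of_comm F.u2v1.symm,
      EA_inv F.v11, F.v121, ← mul_assoc, F.B1zv2]

end Fr

end H25.A6
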