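import Mathlib
import Cfsg.Agent.Lib.A6S.Q3

/-! A conjugate of `⟨g, d, u⟩` in `qM` has the same squares. -/

set_option autoImplicit false

namespace H25.A6

open Subgroup H69 H36.SW H25.A7

variable {G : Type*} [Group G] [Finite G]

theorem q14_two {D M : Subgroup G} {s : G} (hs : s ∈ D) (sM : s ∉ M)
    (hm : ∀ a ∈ D, a ∉ M → a * s ∈ M) : Nat.card D = Nat.card (D ⊓ M : Subgroup G) * 2 := by
  have i2 : (M.subgroupOf D).index = 2 := by
    refine index_eq_two_iff.2 ⟨⟨s, hs⟩, fun b => ?_⟩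
    by_cases hb : (b : G) ∈ M
    · exact Or.inr ⟨hb, fun h => sM ((M.mul_mem_cancel_left hb).1 h)⟩
    · exact Or.inl ⟨hm _ b.2 hb, hb⟩
  rw [← (M.subgroupOf D).card_mul_index, i2, inf_comm, ← subgroupOf_map_subtype,
    card_map_of_injective D.subtype_injective]

theorem q14_idx {H K : Subgroup G} (hle : H ≤ K) : (H.subgroupOf K).index * Nat.card H = Nat.card K := by
  rw [← Nat.card_congr (subgroupOfEquivOfLe hle).toEquiv]
  exact (H.subgroupOf K).index_mul_card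

theorem q14_lt {H K : Subgroup G} (hle : H ≤ K) {x : G} (hx : x ∈ K) (nx : x ∉ H) :
    2 ≤ (H.subgroupOf K).index := by
  have h0 : (H.subgroupOf K).index ≠ 0 := index_ne_zero_of_finite
  have h1 : (H.subgroupOf K).index ≠ 1 := fun h => nx (by
    have : (⟨x, hx⟩ : K) ∈ H.subgroupOf K := by rw [index_eq_one.1 h]; exact mem_top _
    exact this)
  omega

theorem q14_three {H K : Subgroup G} (hle : H ≤ K) {x y : G} (hx : x ∈ K) (hy : y ∈ K) (nx : x ∉ H) (ny : y ∉ H)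
    (nxy : x * y ∉ H) : 3 * Nat.card H ≤ Nat.card K := by
  rw [← q14_idx hle]
  refine Nat.mul_le_mul_right _ ?_
  have h1 := q14_lt hle hx nx
  have h2 : (H.subgroupOf K).index ≠ 2 := fun h =>
    nxy ((mul_mem_iff_of_index_two h (a := ⟨x, hx⟩) (b := ⟨y, hy⟩)).2 (iff_of_false nx ny))
  omega

/-- the elements of `E` fixed by `s` modulo `V` -/
def q14_fix (E V : Subgroup G) (s : G) (hE : E ≤ 𝐂(V)) : Subgroup G where
  carrier := {e | e ∈ E ∧ s * e * s⁻¹ * e⁻¹ ∈ V}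
  one_mem' := ⟨one_mem _, by simp⟩
  mul_mem' := by
    rintro e f ⟨he, h1⟩ ⟨hf, h2⟩
    refine ⟨mul_mem he hf, ?_⟩
    have k := mem_centralizer_iff.1 (hE he) _ h2
    have : s * (e * f) * s⁻¹ * (e * f)⁻¹ = (s * e * s⁻¹ * e⁻¹) * ((e * (s * f * s⁻¹ * f⁻¹)) * e⁻¹) := by group
    rw [this, ← k, mul_inv_cancel_right]
    exact mul_mem h1 h2
  inv_mem' := by
    rintro e ⟨he, h1⟩
    refine ⟨inv_mem he, ?_⟩
    have k := mem_centralizer_iff.1 (hE he) _ (inv_mem h1)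
    have : s * e⁻¹ * s⁻¹ * e⁻¹⁻¹ = e⁻¹ * ((s * e * s⁻¹ * e⁻¹)⁻¹ * e) := by group
    rw [this, k, inv_mul_cancel_left]
    exact inv_mem h1

theorem q14_mem {E V : Subgroup G} {s : G} {hE : E ≤ 𝐂(V)} {e : G} :
    e ∈ q14_fix E V s hE ↔ e ∈ E ∧ s * e * s⁻¹ * e⁻¹ ∈ V := Iff.rfl

theorem q14_end {B : Subgroup G} {g u c v : G} (ab : ∀ x ∈ B, ∀ y ∈ B, x * y = y * x)
    (gu : g * u = u * g) (vu : v * u = u * v) (vg : v * g ≠ g * v) (cu : c * u ≠ u * c)
    (t1 : c ∉ B → g ∉ B → c * g ∈ B) (t2 : c ∉ B → v ∉ B → c * v ∈ B) (t3 : v ∉ B → u ∉ B → v * u ∈ B)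
    (t4 : g ∉ B → u ∉ B → g * u ∈ B) (t5 : v ∉ B → g ∉ B → v * g ∈ B) : False := by
  by_cases hu : u ∈ B
  · have hc : c ∉ B := fun hc => cu (ab c hc u hu)
    have k : ∀ x, x * u = u * x → c * x ∉ B := fun x e hx => cu (by
      have := ab _ hx u hu
      rw [mul_assoc, e, ← mul_assoc, ← mul_assoc] at this
      exact mul_right_cancel this)
    by_cases hg : g ∈ B
    · exact k v vu (t2 hc fun hv => vg (ab v hv g hg))
    · exact k g gu (t1 hc hg)
  by_cases hg : g ∈ B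
  · have := ab _ (t3 (fun hv => vg (ab v hv g hg)) hu) g hg
    rw [mul_assoc, ← gu, ← mul_assoc, ← mul_assoc] at this
    exact vg (mul_right_cancel this)
  have hgu := t4 hg hu
  have hv : v ∉ B := fun hv => vg (by
    have := ab v hv _ hgu
    rw [mul_assoc g, ← vu, ← mul_assoc, ← mul_assoc] at this
    exact mul_right_cancel this)
  have := ab _ (t5 hv hg) _ hgu
  apply vg
  have e1 : g * u * (v * g) = g * v * (g * u) := by
    rw [mul_assoc g u, ← mul_assoc u, ← vu, mul_assoc v, ← gu, ← mul_assoc]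
  rw [e1] at this
  exact mul_right_cancel this

namespace Fr
variable {F : Fr G} {g g' r r' d1 d2 η1 η2 a b : G}

theorem QC.iso (h : F.QC g g' r r' d1 d2 η1 η2 a b) {y : G} (hy : F.qK g d1 ^ᶜ y ≤ F.qM g r d1 a b) : y ∈ 𝐍(F.V1) := by
  have zz := h.zz
  have gK1 : g ∈ F.qK g d1 := subset_closure (by simp)
  have dK1 : d1 ∈ F.qK g d1 := subset_closure (by simp)
  by_cases hD : F.qK g d1 ^ᶜ y ≤ F.qE g r d1 a b
  · have k : ∀ x ∈ F.qK g d1, y * (x * x) * y⁻¹ ∈ F.V1 := fun x hx => by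
      have m := hD (cj_mem y hx)
      have := (h.comm m m).2
      rwa [show y * x * y⁻¹ * (y * x * y⁻¹) = y * (x * x) * y⁻¹ by group] at this
    have k1 := k g gK1
    have k2 := k d1 dK1
    rw [zz.gg] at k1
    rw [zz.d11] at k2
    refine mem_normalizer_of_cj_le fun x hx => ?_
    obtain ⟨w, hw, rfl⟩ := mem_cj'.1 hx
    rcases F.memV1.1 hw with rfl | rfl | rfl | rfl
    · simp
    · exact k1
    · exact k2
    · rw [show y * (F.z * F.v1) * y⁻¹ = (y * F.z * y⁻¹) * (y * F.v1 * y⁻¹) by group]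
      exact mul_mem k1 k2
  exfalso
  obtain ⟨x, hx, nx⟩ := SetLike.not_le_iff_exists.1 hD
  obtain ⟨-, -, -, nE, -, -, cP, -⟩ := h.nrm
  obtain ⟨-, cK, cE, -⟩ := h.card
  have hE : F.qE g r d1 a b ≤ 𝐂(F.V1) := fun e he => cP (h.memP.2 (Or.inl he))
  have vN : F.v2 ∈ 𝐍(F.qE g r d1 a b) := nE (subset_closure (by simp))
  have vi : F.v2⁻¹ = F.v2 := inv_eq_of_mul_eq_one_left F.v22
  have K1R : F.qK g d1 ≤ F.R g r d1 := closure_mono (by
    intro s hs; simp only [Set.mem_insert_iff, Set.mem_singleton_iff] at hs ⊢; tauto)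
  have KR : F.K4 g d1 ≤ F.R g r d1 := closure_mono (by
    intro s hs; simp only [Set.mem_insert_iff, Set.mem_singleton_iff] at hs ⊢; tauto)
  have Rc : ∀ p ∈ F.R g r d1, ∀ q ∈ F.R g r d1, p * q = q * p := fun p hp q hq =>
    mem_centralizer_iff.1 (zz.ab hq) p hp
  have Dab : ∀ p ∈ F.qK g d1 ^ᶜ y, ∀ q ∈ F.qK g d1 ^ᶜ y, p * q = q * p := fun p hp q hq => by
    obtain ⟨p, hp', rfl⟩ := mem_cj'.1 hp
    obtain ⟨q, hq', rfl⟩ := mem_cj'.1 hq
    calc _ = y * (p * q) * y⁻¹ := by group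
      _ = _ := by rw [Rc p (K1R hp') q (K1R hq')]; group
  have cD : Nat.card (F.qK g d1 ^ᶜ y : Subgroup G) = 32 := by rw [card_cj, cK]
  generalize F.qK g d1 ^ᶜ y = D at hy hx Dab cD
  have hp : x * F.v2 ∈ F.qE g r d1 a b := (h.memM.1 (hy hx)).resolve_left nx
  have c0 := q14_two hx nx fun e he ne => by
    have h1 := (h.memM.1 (hy he)).resolve_left ne
    have h2 := (mem_normalizer_iff.1 vN _).1 hp
    have : e * x = e * F.v2 * (F.v2 * (x * F.v2) * F.v2⁻¹) := by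
      rw [mul_assoc F.v2, mul_inv_cancel_right, mul_assoc, ← mul_assoc F.v2, F.v22, one_mul]
    rw [this]
    exact mul_mem h1 h2
  have act : ∀ e, x * e = e * x → F.v2 * e * F.v2⁻¹ = (x * F.v2)⁻¹ * e * (x * F.v2) := fun e k => by
    calc _ = F.v2⁻¹ * e * F.v2 := by rw [vi]
      _ = F.v2⁻¹ * x⁻¹ * (x * e) * F.v2 := by group
      _ = _ := by rw [k]; group
  have gE : g ∈ F.qE g r d1 a b := subset_closure (by simp)
  have dE : d1 ∈ F.qE g r d1 a b := subset_closure (by simp)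
  have bE : b ∈ F.qE g r d1 a b := subset_closure (by simp)
  have uE : F.u1 ∈ F.qE g r d1 a b := subset_closure (by simp)
  have vE : F.t * r ∈ F.qE g r d1 a b := subset_closure (by simp)
  have gK : g ∈ F.K4 g d1 := subset_closure (by simp)
  have dK : d1 ∈ F.K4 g d1 := subset_closure (by simp)
  have zV : F.z ∈ F.V1 := subset_closure (by simp)
  have v1V : F.v1 ∈ F.V1 := subset_closure (by simp)
  have v1K : F.v1 ∈ F.K4 g d1 := zz.d11 ▸ mul_mem dK dK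
  have v1E : F.v1 ∈ F.qE g r d1 a b := zz.d11 ▸ mul_mem dE dE
  have VK : F.V1 ≤ F.K4 g d1 := fun w hw => h.memK.2 ⟨w, hw, 0, 0, by simp⟩
  set M := q14_fix (F.qE g r d1 a b) F.V1 F.v2 hE with hM
  have ME : M ≤ F.qE g r d1 a b := fun e he => he.1
  have cm : ∀ e ∈ F.qE g r d1 a b, F.v2 * e = e * F.v2 → e ∈ M := fun e he k =>
    q14_mem.2 ⟨he, by rw [k]; simp⟩
  have gv : F.v2 * g = g * F.v2 := mem_centralizer_iff.1 zz.gT _ (subset_closure (by simp))
  have rv : F.v2 * r = r * F.v2 := mem_centralizer_iff.1 zz.rT _ (subset_closure (by simp))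
  have ug : F.u1 * g = g * F.u1 := mem_centralizer_iff.1 zz.gT _ (subset_closure (by simp))
  have ur : F.u1 * r = r * F.u1 := mem_centralizer_iff.1 zz.rT _ (subset_closure (by simp))
  have gM := cm g gE gv
  have uM := cm _ uE F.u1v2.symm
  have vM := cm _ vE (by rw [← mul_assoc, ← F.tv2, mul_assoc, rv, mul_assoc])
  obtain ⟨c, hc⟩ : ∃ c, c = F.v2 * b * F.v2⁻¹ * b⁻¹ := ⟨_, rfl⟩
  have cE' : c ∈ F.qE g r d1 a b := hc ▸ mul_mem ((mem_normalizer_iff.1 vN _).1 bE) (inv_mem bE)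
  have cM : c ∈ M := q14_mem.2 ⟨cE', by
    have : F.v2 * c * F.v2⁻¹ = c⁻¹ := by
      rw [hc]
      calc _ = (F.v2 * F.v2) * b * F.v2⁻¹ * b⁻¹ * F.v2⁻¹ := by group
        _ = b * F.v2⁻¹⁻¹ * b⁻¹ * F.v2⁻¹ := by rw [F.v22, one_mul, inv_inv]; nth_rw 1 [vi]
        _ = _ := by group
    rw [this, ← mul_inv_rev]
    exact inv_mem (h.comm cE' cE').2⟩
  obtain ⟨k, kK, hk⟩ : ∃ k ∈ F.K4 g d1, c = k * a := ⟨_, h.vb, by rw [hc, vi]; group⟩
  have cK' : c ∉ F.K4 g d1 := fun m => by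
    have aK : a ∈ F.K4 g d1 := (Subgroup.mul_mem_cancel_left _ kK).1 (hk ▸ m)
    have := (h.ind (i := 1) (j := 0) (l := 0) (m := 0) (n := 0) (p := 0) (by simpa using aK)).1
    exact absurd this (by decide)
  have dv : F.v2 * d1⁻¹ * F.v2⁻¹ = g * F.v1 * d1⁻¹ := by
    calc _ = F.v2⁻¹ * (d1⁻¹ * F.v2 * d1) * d1⁻¹ := by rw [vi]; group
      _ = _ := by rw [zz.c1]; group
  have g1 : g * g ≠ 1 := by rw [zz.gg]; exact F.z1
  have n1 : d1⁻¹ ∉ M := fun m => by
    have := (q14_mem.1 m).2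
    rw [dv, inv_inv, inv_mul_cancel_right] at this
    exact g1 (F.sqW1 (F.X1W1 (F.V1X1 ((Subgroup.mul_mem_cancel_right _ v1V).1 this))))
  have n2 : b ∉ M := fun m => cK' (VK (hc ▸ (q14_mem.1 m).2))
  have n3 : d1⁻¹ * b ∉ M := fun m => by
    have := VK (q14_mem.1 m).2
    rw [show F.v2 * (d1⁻¹ * b) * F.v2⁻¹ * (d1⁻¹ * b)⁻¹ =
      (F.v2 * d1⁻¹ * F.v2⁻¹) * (F.v2 * b * F.v2⁻¹ * b⁻¹) * d1 by group, dv, ← hc] at this
    exact cK' ((Subgroup.mul_mem_cancel_left _ (mul_mem (mul_mem gK v1K) (inv_mem dK))).1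
      ((Subgroup.mul_mem_cancel_right _ dK).1 this))
  have cM3 := q14_three ME (inv_mem dE) bE n1 n2 n3
  have D0M : D ⊓ F.qE g r d1 a b ≤ M := fun e he => q14_mem.2 ⟨he.2, by
    rw [act e (Dab x hx e he.1)]
    simpa using (h.comm (inv_mem hp) he.2).1⟩
  have v1M : F.v1 ∈ M := q14_mem.2 ⟨v1E, by
    rw [vi, inv_eq_of_mul_eq_one_left F.v11, F.hz']; exact zV⟩
  have v1D : F.v1 ∉ D ⊓ F.qE g r d1 a b := fun m => by
    have k1 := act _ (Dab x hx _ m.1)
    rw [mul_assoc (x * F.v2)⁻¹, mem_centralizer_iff.1 (hE hp) _ v1V, inv_mul_cancel_left,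
      mul_inv_eq_iff_eq_mul] at k1
    exact F.B1nc k1.symm
  set B := (D ⊓ F.qE g r d1 a b) ⊔ zpowers F.v1 with hB
  have BM : B ≤ M := sup_le D0M (zpowers_le.2 v1M)
  have cB : 32 ≤ Nat.card B := by
    have i1 := q14_idx (le_sup_left : D ⊓ F.qE g r d1 a b ≤ B)
    have i2 := q14_lt (le_sup_left : D ⊓ F.qE g r d1 a b ≤ B) (mem_sup_right (mem_zpowers _)) v1D
    have i3 : Nat.card (D ⊓ F.qE g r d1 a b : Subgroup G) = 16 := by omega
    rw [← i1, i3]
    exact Nat.mul_le_mul_right 16 i2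
  have ab : ∀ p ∈ B, ∀ q ∈ B, p * q = q * p := by
    have a1 : B ≤ 𝐂((D ⊓ F.qE g r d1 a b : Subgroup G)) :=
      sup_le (fun p hp => mem_centralizer_iff.2 fun q hq => Dab q hq.1 p hp.1)
        (zpowers_le.2 (mem_centralizer_iff.2 fun q hq => (mem_centralizer_iff.1 (hE hq.2) _ v1V).symm))
    intro p hp q hq
    have : B ≤ centralizer {q} := sup_le
      (fun s hs => mem_centralizer_singleton_iff.2 (mem_centralizer_iff.1 (a1 hq) s hs))
      (zpowers_le.2 (mem_centralizer_singleton_iff.2 (mem_centralizer_iff.1 (hE (ME (BM hq))) _ v1V)))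
    exact mem_centralizer_singleton_iff.1 (this hp)
  have tri : ∀ p ∈ M, ∀ q ∈ M, p ∉ B → q ∉ B → p * q ∈ B := fun p hp q hq np nq => by
    by_contra n
    have := q14_three BM hp hq np nq n
    omega
  refine q14_end (g := g) (u := F.u1) (c := c) (v := F.t * r) ab ug.symm ?_ ?_ ?_ (tri _ cM _ gM) (tri _ cM _ vM)
    (tri _ vM _ uM) (tri _ gM _ uM) (tri _ vM _ gM)
  · rw [mul_assoc, ← ur, ← mul_assoc, F.tu1, mul_assoc]
  · intro e
    rw [mul_assoc, ← zz.gr, ← mul_assoc, ← mul_assoc] at e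
    have e1 := mul_right_cancel e
    have e2 := zz.tg
    rw [e1, mul_assoc, F.tt, mul_one] at e2
    exact g1 (by nth_rw 1 [e2]; exact inv_mul_cancel g)
  · intro e
    have e1 : a * F.u1 = F.u2 * a := by rw [← h.au]; group
    rw [hk, mul_assoc, e1, ← mul_assoc, ← mul_assoc, Rc k (KR kK) _ (zz.XR F.u2X1)] at e
    have e2 := mul_right_cancel (mul_right_cancel e)
    rw [F.u2_eq F.hu1] at e2
    exact F.z1 (mul_right_cancel (e2.trans (one_mul _).symm))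

end Fr

end H25.A6
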