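import Mathlib
import Cfsg.Agent.Lib.A6S.Q1

/-! From `QA` to `QB`. -/

set_option autoImplicit false

namespace H25.A6

open Subgroup H69 H36.SW H25.A7

variable {G : Type*} [Group G] [Finite G]

namespace Fr
variable {F : Fr G} {g g' r r' d1 d2 η1 η2 a b : G}

theorem ZZ.Q2same {u0 : G} (h : F.ZZ u0 g g' r r' d1 d2 η1 η2) {x y : G} (hx : x ∈ F.R g r d1)
    (hy : y ∈ F.R g r d1) (e : y * y = x * x) : ∃ w ∈ F.X1, y = x * w := by
  refine ⟨x⁻¹ * y, (h.sq (mul_mem (inv_mem hx) hy)).2.1 ?_, by group⟩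
  rw [ZA.mm (h.zac (inv_mem hx) hy), e]; group

theorem QA.Q2cj (h : F.QA g g' r r' d1 d2 η1 η2 a b) {x : G} (hx : x ∈ F.R g r d1) :
    a * x * a⁻¹ ∈ F.R g r d1 := (mem_normalizer_iff.1 h.aR x).1 hx

omit [Finite G] in
theorem QA.Q2V (h : F.QA g g' r r' d1 d2 η1 η2 a b) {x : G} (hx : x ∈ F.V1) : a * x * a⁻¹ = x := by
  rw [← h.aV x hx, mul_inv_cancel_right]

theorem QA.Q2N (h : F.QA g g' r r' d1 d2 η1 η2 a b) {w : G} (hw : w ∈ F.X1) :
    (w ∈ F.V1 ∧ w * (a * w * a⁻¹) = 1) ∨ w * (a * w * a⁻¹) = F.z := by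
  have ww : w * w = 1 := F.sqW1 (F.X1W1 hw)
  rcases ZD.Xmem F hw with c | c
  · exact .inl ⟨c, by rw [h.Q2V c, ww]⟩
  · right
    have e := h.Q2V c
    rw [B2.cj_mul, h.au, F.u2_eq F.hu1, ← mul_assoc, mul_left_inj] at e
    rw [eq_mul_inv_of_mul_eq e, ← mul_assoc, ww, one_mul, EA_inv F.zz]

theorem QA.Q2r (h : F.QA g g' r r' d1 d2 η1 η2 a b) : ∃ w ∈ F.X1, a * r * a⁻¹ = r * g * w := by
  have z := h.zz
  refine z.Q2same (mul_mem z.zaR z.zaG) (h.Q2cj z.zaR) ?_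
  rw [← B2.cj_mul, z.rr, h.au, ZA.mm z.gr.symm, z.rr, z.gg, F.u2_eq F.hu1, F.zu1]

omit [Finite G] in
theorem Q2P (F : Fr G) (g r d a b : G) : F.qP g r d (a * F.t) (b * F.t) = F.qP g r d a b := by
  have key : ∀ a b : G, F.qP g r d (a * F.t) (b * F.t) ≤ F.qP g r d a b := fun a b => by
    refine (closure_le _).2 ?_
    have ht : F.t ∈ F.qP g r d a b := subset_closure (by simp)
    rintro x (rfl | rfl | rfl | rfl | rfl | rfl)
    · exact subset_closure (by simp)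
    · exact subset_closure (by simp)
    · exact mul_mem (subset_closure (by simp)) ht
    · exact mul_mem (subset_closure (by simp)) ht
    · exact ht
    · exact subset_closure (by simp)
  refine le_antisymm (key a b) ?_
  have := key (a * F.t) (b * F.t)
  rwa [mul_assoc, mul_assoc, F.tt, mul_one, mul_one] at this

theorem QA.Q2t (h : F.QA g g' r r' d1 d2 η1 η2 a b) : F.QA g g' r r' d1 d2 η1 η2 (a * F.t) (b * F.t) := by
  have two : ∀ x : G, a * F.t * x * (a * F.t)⁻¹ = a * (F.t * x * F.t⁻¹) * a⁻¹ := fun x => by group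
  refine ⟨h.zz, h.d, mul_mem h.aV (centralizer_anti F.V1X1 (ZD.tX F)), mul_mem h.aR h.zz.zatN, ?_, ?_, ?_, ?_, ?_, ?_⟩
  · rw [two, mul_inv_cancel_right, h.aT]
  · rw [two, B2.cj_of_comm F.tu1, h.au]
  · rw [B2.cj_mul, h.ηa, B2.cj_of_comm h.zz.η1t]
  · rw [Q2P]; exact h.isP
  · rw [Q2P]; exact h.ηP
  · rw [Q2P]; exact h.vP

theorem QA.Q2A (h : F.QA g g' r r' d1 d2 η1 η2 a b) :
    ∃ a b, F.QA g g' r r' d1 d2 η1 η2 a b ∧ (r * g)⁻¹ * (a * r * a⁻¹) ∈ F.V1 := by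
  have z := h.zz
  obtain ⟨w, hw, e⟩ := h.Q2r
  rcases ZD.Xmem F hw with c | c
  · exact ⟨a, b, h, by rw [e, inv_mul_cancel_left]; exact c⟩
  · refine ⟨_, _, h.Q2t, ?_⟩
    have s : r * g * w * (r * g * w) = F.u1 * F.z := by
      rw [ZA.mm (z.zac (mul_mem z.zaR z.zaG) (z.XR hw)), ZA.mm z.gr.symm, z.rr, z.gg, F.sqW1 (F.X1W1 hw), mul_one]
    have i : (r * g * w)⁻¹ = r * g * (w * F.u1 * F.z) := by
      refine inv_eq_of_mul_eq_one_right ?_
      calc _ = r * g * w * (r * g * w) * (F.u1 * F.z) := by group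
        _ = 1 := by rw [s, ZA.mm F.zu1.symm, F.u11, F.zz, mul_one]
    rw [show a * F.t * r * (a * F.t)⁻¹ = a * (F.t * r * F.t⁻¹) * a⁻¹ by group, EA_inv F.tt, z.tr,
      show a * r⁻¹ * a⁻¹ = (a * r * a⁻¹)⁻¹ by group, e, i, inv_mul_cancel_left]
    exact mul_mem c F.b2_zV

theorem QA.Q2B (h : F.QA g g' r r' d1 d2 η1 η2 a b) (ar : (r * g)⁻¹ * (a * r * a⁻¹) ∈ F.V1) :
    F.QB g g' r r' d1 d2 η1 η2 a b := by
  have z := h.zz
  have two : ∀ x : G, a * a * x * (a * a)⁻¹ = a * (a * x * a⁻¹) * a⁻¹ := fun x => by group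
  obtain ⟨y, hy, ey⟩ := z.Q2same z.zaG (h.Q2cj z.zaG) (by rw [← B2.cj_mul, z.gg, h.Q2V F.b2_zV])
  obtain ⟨y', hy', ey'⟩ := z.Q2same z.zad (h.Q2cj z.zad) (by rw [← B2.cj_mul, z.d11, h.Q2V F.b2_vV])
  have nt : a * a * F.t * (a * a)⁻¹ = F.t * (F.z * y) := by
    rw [two, h.aT, B2.cj_mul, h.aT, ey, mul_assoc, ← mul_assoc g, z.gg]
  have zy : F.z * y ∈ F.X1 := mul_mem F.b2_zX hy
  obtain ⟨q, hq, o, ho, oo, e⟩ := z.SP' (mul_mem h.aR h.aR) (z.XR zy) nt (F.sqW1 (F.X1W1 zy)) (mul_mem h.aV h.aV)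
  have aP : P2 a := P2.of_mem h.isP (subset_closure (by simp))
  have o1 : o = 1 := (P2.of_mem (ZD.isQ z) hq).odd_eq_one (e ▸ aP.mul aP rfl) (ho q hq) oo
  rw [o1, mul_one] at e
  have nd : a * a * d1 * (a * a)⁻¹ = d1 * (y' * (a * y' * a⁻¹)) := by
    rw [two, ey', B2.cj_mul, ey', mul_assoc d1]
  have nR : a * a ∈ F.R g r d1 := by
    rw [← e] at hq
    refine (ZD.memQ z hq).resolve_right ?_
    rintro ⟨m, hm, em⟩
    rw [em, show m * F.t * d1 * (m * F.t)⁻¹ = m * (F.t * d1 * F.t⁻¹) * m⁻¹ by group, EA_inv F.tt, z.td1,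
      B2.cj_of_comm (z.zac hm (inv_mem z.zad))] at nd
    have : y' * (a * y' * a⁻¹) = F.v1 := by
      rw [← EA_inv F.v11, ← z.d11, mul_inv_rev, eq_inv_mul_iff_mul_eq, ← nd]
    rcases h.Q2N hy' with ⟨-, c⟩ | c
    · exact F.b2_v1 (this.symm.trans c)
    · exact F.b2_vz (this.symm.trans c)
  have yV : y' ∈ F.V1 := by
    rw [B2.cj_of_comm (z.zac nR z.zad), left_eq_mul] at nd
    rcases h.Q2N hy' with ⟨c, -⟩ | c
    · exact c
    · exact absurd (c.symm.trans nd) F.z1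
  have yz : y = F.z := by
    obtain ⟨w, hw, ew⟩ : ∃ w ∈ F.V1, a * r * a⁻¹ = r * g * w := ⟨_, ar, by group⟩
    have c := B2.cj_of_comm (z.zac nR z.zaR)
    have wR := z.XR (F.V1X1 hw)
    rw [two, ew, B2.cj_mul, B2.cj_mul, ew, ey, h.Q2V hw] at c
    have c' : r * (F.z * y) = r := by
      calc _ = r * (g * g * y) * (w * w) := by rw [z.gg, F.sqW1 (F.X1W1 (F.V1X1 hw)), mul_one]
        _ = r * g * (g * y * w) * w := by group
        _ = _ := by rw [z.zac (mul_mem z.zaG (z.XR hy)) wR, ← mul_assoc (r * g), c]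
    rw [eq_inv_of_mul_eq_one_right (mul_eq_left.1 c'), EA_inv F.zz]
  have gK : g ∈ F.K4 g d1 := subset_closure (by simp)
  have dK : d1 ∈ F.K4 g d1 := subset_closure (by simp)
  have VK : F.V1 ≤ F.K4 g d1 := by
    refine (closure_le _).2 ?_
    rintro x (rfl | rfl)
    · exact z.gg ▸ mul_mem gK gK
    · exact z.d11 ▸ mul_mem dK dK
  refine { h with ag := by rw [ey, yz], aK := ZA.nrm ?_, ar := ar, aa := ?_ }
  · rintro x (rfl | rfl)
    · rw [ey, yz]; exact mul_mem gK (VK F.b2_zV)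
    · rw [ey']; exact mul_mem dK (VK yV)
  · rw [z.zat nR, yz, F.zz, mul_right_inj] at nt
    rcases h.Q2N ((z.sq nR).2.1 nt) with ⟨c, -⟩ | c
    · exact c
    · rw [show a * (a * a) * a⁻¹ = a * a by group, nt] at c
      exact absurd c.symm F.z1

theorem QA.qb (h : F.QA g g' r r' d1 d2 η1 η2 a b) : ∃ a b, F.QB g g' r r' d1 d2 η1 η2 a b := by
  obtain ⟨a, b, h', ar⟩ := h.Q2A
  exact ⟨a, b, h'.Q2B ar⟩

end Fr

end H25.A6
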