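import Mathlib
import Cfsg.Agent.Lib.A6S.Q1
import Cfsg.Agent.Lib.A6S.Y5

/-! From `QB` to `QC`. -/

set_option autoImplicit false

namespace H25.A6

open Subgroup H69 H36.SW H25.A7

variable {G : Type*} [Group G] [Finite G]

namespace Q2cH

open Y5H (phi fin0 fin2 Cw gK dK kV sqV)

variable {F : Fr G} {g g' r r' d1 d2 η1 η2 a b : G}

/-- the elements that centralise `t`, `r`, `u` modulo `K` -/
def C0 (F : Fr G) (g r d : G) : Subgroup G :=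
  Cw (F.K4 g d) F.t ⊓ (Cw (F.K4 g d) r ⊓ Cw (F.K4 g d) F.u1)

section zz
variable (h : F.ZZ F.u1 g g' r r' d1 d2 η1 η2)
include h

theorem uR : F.u1 ∈ F.R g r d1 := subset_closure (by simp)

theorem KR : F.K4 g d1 ≤ F.R g r d1 := by
  refine (closure_le _).2 ?_
  rintro _ (rfl | rfl)
  exacts [h.zaG, h.zad]

theorem VK : F.V1 ≤ F.K4 g d1 := by
  refine (closure_le _).2 ?_
  rintro _ (rfl | rfl)
  · rw [← h.gg]; exact mul_mem (gK F) (gK F)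
  · rw [← h.d11]; exact mul_mem (dK F) (dK F)

theorem sqK {x : G} (hx : x ∈ F.K4 g d1) (e : x * x = 1) : x ∈ F.V1 := by
  have VR : F.V1 ≤ F.R g r d1 := (VK h).trans (KR h)
  have P1 : F.V1 ⊔ zpowers g ≤ F.R g r d1 := sup_le VR (zpowers_le.2 h.zaG)
  have : F.K4 g d1 ≤ F.V1 ⊔ zpowers g ⊔ zpowers d1 := by
    refine (closure_le _).2 ?_
    rintro _ (rfl | rfl)
    exacts [mem_sup_left (mem_sup_right (mem_zpowers _)), mem_sup_right (mem_zpowers _)]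
  obtain ⟨p, hp, j, rfl⟩ := ZA.adj (h.zaN P1 h.zad) (h.d11 ▸ mem_sup_left (ZC.vV F)) (this hx)
  obtain ⟨w, hw, i, rfl⟩ := ZA.adj (h.zaN VR h.zaG) (h.gg ▸ ZC.zV F) hp
  have q := h.zasq (F.V1X1 hw) i j 0
  simp only [Fin.val_zero, pow_zero, mul_one] at q
  obtain ⟨rfl, rfl, -⟩ := h.zaone (i := i) (j := j) (k := 0)
    (by rw [Fin.val_zero, pow_zero, mul_one, ← q, e])
  simpa using hw

theorem unK : F.u1 ∉ F.K4 g d1 := fun k => ZC.uV F F.hu1 (sqK h k F.u11)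

theorem psi {n y : G} (h1 : n ∈ 𝐍(F.K4 g d1)) (h2 : n ∈ 𝐂(F.V1)) (hy : y ∈ F.K4 g d1) :
    ∃ φ ∈ F.V1, n * y * n⁻¹ = y * φ := by
  have m := (mem_normalizer_iff.1 h1 y).1 hy
  have q : y * y ∈ F.V1 := sqK h (mul_mem hy hy) (F.sqW1 (F.X1W1 (h.sq (KR h hy)).1))
  refine ⟨y⁻¹ * (n * y * n⁻¹), sqK h (mul_mem (inv_mem hy) m) ?_, by group⟩
  rw [ZA.mm (h.zac (KR h (inv_mem hy)) (KR h m)), conj_mul, ← h2 _ q]
  group

theorem uc {x : G} (hx : x ∈ F.K4 g d1) : F.u1 * x = x * F.u1 := h.zac (uR h) (KR h hx)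

theorem memR {x : G} (hx : x ∈ F.R g r d1) (h2 : x * x ∈ F.K4 g d1) :
    x ∈ F.K4 g d1 ∨ x * F.u1 ∈ F.K4 g d1 := by
  obtain ⟨w, hw, i, j, k, rfl⟩ := h.memR.1 hx
  rw [h.zasq hw] at h2
  have h3 := (mul_mem_cancel_left (mul_mem (pow_mem (VK h (ZC.vV F)) (j : ℕ))
    (pow_mem (VK h (ZC.zV F)) (i : ℕ)))).1 h2
  have k0 : k = 0 := by
    fin_cases k
    · rfl
    · exact absurd (by simpa using h3) (unK h)
  subst k0
  rw [Fin.val_zero, pow_zero, mul_one, mul_assoc]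
  have m := mul_mem (pow_mem (gK F (d1 := d1)) (i : ℕ)) (pow_mem (dK F (g := g)) (j : ℕ))
  rcases ZD.Xmem F hw with e | e
  · exact Or.inl (mul_mem (VK h e) m)
  · right
    rw [mul_assoc, ← uc h m, ← mul_assoc]
    exact mul_mem (VK h e) m

theorem sd : F.v2 * d1 * F.v2 = (g * d1)⁻¹ := by
  have c := h.zac h.zaG h.zad
  have d4 : d1 * d1 * (d1 * d1) = 1 := by rw [h.d11, F.v11]
  have e : F.v2 * d1⁻¹ * F.v2 = g * F.v1 * d1⁻¹ := by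
    calc _ = F.v2 * (d1⁻¹ * F.v2 * d1) * d1⁻¹ := by group
      _ = F.v2 * F.v2 * g * F.v1 * d1⁻¹ := by rw [h.c1]; group
      _ = _ := by rw [F.v22, one_mul]
  rw [ZA.ci F.v22, ← h.d11, ← mul_assoc g, mul_inv_cancel_right] at e
  rw [← e, inv_inv]

theorem sg : F.v2 * g * F.v2 = g := by
  rw [h.gT F.v2 (subset_closure (by simp)), mul_assoc, F.v22, mul_one]

theorem sr : F.v2 * r = r * F.v2 := h.rT F.v2 (subset_closure (by simp))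

theorem ηK : η1 ∈ 𝐍(F.K4 g d1) := ZA.nrm (by
  rintro _ (rfl | rfl)
  · rw [h.η1g]; exact dK F
  · rw [h.η1d]; exact inv_mem (mul_mem (gK F) (dK F)))

theorem sK : F.v2 ∈ 𝐍(F.K4 g d1) := ZA.nrm (by
  rintro _ (rfl | rfl) <;> rw [B1.iv' F.v22]
  · rw [sg h]; exact gK F
  · rw [sd h]; exact inv_mem (mul_mem (gK F) (dK F)))

theorem uK : F.u1 ∈ 𝐍(F.K4 g d1) := h.zaN (KR h) (uR h)

theorem tV : F.t ∈ 𝐂(F.V1) := centralizer_le F.V1X1 (ZD.tX F)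

theorem RV : F.R g r d1 ≤ 𝐂(F.V1) := h.ab.trans (centralizer_le ((VK h).trans (KR h)))

omit h in
theorem c0_of {x : G} (hx : x ∈ 𝐍(F.K4 g d1)) (h1 : x * F.t = F.t * x) (h2 : x * r = r * x)
    (h3 : x * F.u1 = F.u1 * x) : x ∈ C0 F g r d1 :=
  ⟨⟨hx, by rw [h1]; simp⟩, ⟨hx, by rw [h2]; simp⟩, ⟨hx, by rw [h3]; simp⟩⟩

theorem ηC : η1 ∈ C0 F g r d1 := c0_of (ηK h) h.η1t h.η1r h.η1u

theorem sC : F.v2 ∈ C0 F g r d1 := c0_of (sK h) F.tv2.symm (sr h) F.u1v2.symm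

theorem cq {x : G} (hx : x ∈ C0 F g r d1) (hq : x ∈ F.R g r d1 ⊔ zpowers F.t) :
    x ∈ F.K4 g d1 ∨ x * F.u1 ∈ F.K4 g d1 := by
  rcases ZD.memQ h hq with e | ⟨e, he, rfl⟩
  · refine memR h e ?_
    have := hx.1.2
    rwa [h.zat e, inv_mul_cancel_left] at this
  · exfalso
    have := hx.2.1.2
    have e1 : e * F.t * r * (e * F.t)⁻¹ = r⁻¹ := by
      calc _ = e * (F.t * r * F.t⁻¹) * e⁻¹ := by group
        _ = _ := by rw [B1.iv' F.tt, h.tr, h.zac he (inv_mem h.zaR)]; group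
    rw [e1, ← mul_inv_rev, h.rr] at this
    exact unK h (inv_mem_iff.1 this)

theorem cq' {x : G} (hx : x ∈ C0 F g r d1) (hq : x ∈ F.R g r d1 ⊔ zpowers F.t) :
    ∃ w, (w = 1 ∨ w = F.u1) ∧ x * w⁻¹ ∈ F.K4 g d1 := by
  rcases cq h hx hq with k | k
  · exact ⟨1, Or.inl rfl, by simpa using k⟩
  · exact ⟨F.u1, Or.inr rfl, by rwa [B1.iv' F.u11]⟩

theorem wc {w x : G} (hw : w = 1 ∨ w = F.u1) (hx : x ∈ C0 F g r d1) :
    x * w * x⁻¹ * w⁻¹ ∈ F.K4 g d1 := by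
  rcases hw with rfl | rfl
  · simp
  · have := (mem_normalizer_iff.1 (uK h) _).1 hx.2.2.2
    convert this using 1; group

local notation "κ" => MulAut.conj

theorem θ3 : κ η1 (g * d1)⁻¹ = g := by
  have e1 : κ η1 g = d1 := h.η1g
  have e2 : κ η1 d1 = (g * d1)⁻¹ := h.η1d
  rw [map_inv, map_mul, e1, e2]; group

theorem σ3 : κ F.v2 g = g ∧ κ F.v2 d1 = (g * d1)⁻¹ ∧ κ F.v2 (g * d1)⁻¹ = d1 := by
  have e1 : κ F.v2 g = g := by rw [MulAut.conj_apply, B1.iv' F.v22, sg h]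
  have e2 : κ F.v2 d1 = (g * d1)⁻¹ := by rw [MulAut.conj_apply, B1.iv' F.v22, sd h]
  refine ⟨e1, e2, ?_⟩
  rw [map_inv, map_mul, e1, e2, h.zac h.zaG h.zad]; group

end zz

omit [Finite G] in
theorem aP : a ∈ F.qP g r d1 a b := subset_closure (by simp)
omit [Finite G] in
theorem bP : b ∈ F.qP g r d1 a b := subset_closure (by simp)
omit [Finite G] in
theorem tP : F.t ∈ F.qP g r d1 a b := subset_closure (by simp)
omit [Finite G] in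
theorem rP : r ∈ F.qP g r d1 a b := subset_closure (by simp)

theorem uP (h : F.ZZ F.u1 g g' r r' d1 d2 η1 η2) : F.u1 ∈ F.qP g r d1 a b := h.rr ▸ mul_mem rP rP

theorem QP (h : F.ZZ F.u1 g g' r r' d1 d2 η1 η2) : F.R g r d1 ⊔ zpowers F.t ≤ F.qP g r d1 a b := by
  refine sup_le ((closure_le _).2 ?_) (zpowers_le.2 tP)
  rintro _ (rfl | rfl | rfl | rfl)
  exacts [subset_closure (by simp), subset_closure (by simp), rP, uP h]

variable (h : F.QB g g' r r' d1 d2 η1 η2 a b)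
include h

theorem bT : b * F.t * b⁻¹ = F.t * d1 := by
  rw [← h.ηa, ← h.zz.η1g]
  calc _ = η1 * (a * (η1⁻¹ * F.t * η1) * a⁻¹) * η1⁻¹ := by group
    _ = η1 * (F.t * g) * η1⁻¹ := by rw [mul_assoc η1⁻¹, ← h.zz.η1t, inv_mul_cancel_left, h.aT]
    _ = _ := by rw [← mul_assoc, h.zz.η1t]; group

theorem bK : b ∈ 𝐍(F.K4 g d1) := h.ηa ▸ mul_mem (mul_mem (ηK h.zz) h.aK) (inv_mem (ηK h.zz))

theorem bR : b ∈ 𝐍(F.R g r d1) := h.ηa ▸ mul_mem (mul_mem h.zz.ηN h.aR) (inv_mem h.zz.ηN)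

theorem bV : b ∈ 𝐂(F.V1) := by
  have n := (ZC.SP1 h.zz (ZC.eta h.zz).1).2
  intro v hv
  have := h.aV _ ((mem_normalizer_iff.1 (inv_mem n) v).1 hv)
  rw [← h.ηa]
  calc v * (η1 * a * η1⁻¹) = η1 * (η1⁻¹ * v * η1⁻¹⁻¹ * a) * η1⁻¹ := by group
    _ = _ := by rw [this]; group

theorem au' : a * F.u1 * a⁻¹ = F.u1 * F.z := by rw [h.au, F.u2_eq F.hu1, F.zu1]

theorem aC : a ∈ C0 F g r d1 := by
  refine ⟨⟨h.aK, by rw [h.aT, inv_mul_cancel_left]; exact gK F⟩, ⟨h.aK, ?_⟩,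
    ⟨h.aK, by rw [au' h, inv_mul_cancel_left]; exact VK h.zz (ZC.zV F)⟩⟩
  have := mul_mem (gK F (g := g) (d1 := d1)) (VK h.zz h.ar)
  convert this using 1; group

theorem bC : b ∈ C0 F g r d1 := h.ηa ▸ mul_mem (mul_mem (ηC h.zz) (aC h)) (inv_mem (ηC h.zz))

theorem PV : F.qP g r d1 a b ≤ 𝐂(F.V1) := by
  refine (closure_le _).2 ?_
  rintro _ (rfl | rfl | rfl | rfl | rfl | rfl)
  exacts [RV h.zz h.zz.zaG, RV h.zz h.zz.zad, h.aV, bV h, tV h.zz, RV h.zz h.zz.zaR]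

theorem Pt : F.qP g r d1 a b ≤ Cw (F.R g r d1) F.t := by
  have k : ∀ x ∈ F.R g r d1, x ∈ Cw (F.R g r d1) F.t := fun x hx =>
    ⟨le_normalizer hx, by rw [h.zz.zat hx, inv_mul_cancel_left]; exact mul_mem hx hx⟩
  refine (closure_le _).2 ?_
  rintro _ (rfl | rfl | rfl | rfl | rfl | rfl)
  · exact k _ h.zz.zaG
  · exact k _ h.zz.zad
  · exact ⟨h.aR, by rw [h.aT, inv_mul_cancel_left]; exact h.zz.zaG⟩
  · exact ⟨bR h, by rw [bT h, inv_mul_cancel_left]; exact h.zz.zad⟩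
  · exact ⟨h.zz.zatN, by simp⟩
  · exact k _ h.zz.zaR

theorem inQ {x e : G} (hx : x ∈ F.qP g r d1 a b) (he : e ∈ F.V1) (h1 : x * F.t * x⁻¹ = F.t * e) :
    x ∈ F.R g r d1 ⊔ zpowers F.t := by
  obtain ⟨q, hq, o, -, ho, rfl⟩ := h.zz.SP' (Pt h hx).1 (KR h.zz (VK h.zz he)) h1
    (F.sqW1 (F.X1W1 (F.V1X1 he))) (PV h hx)
  rw [(P2.of_mem h.isP ((mul_mem_cancel_left (QP h.zz hq)).1 hx)).eq_one ho, mul_one]
  exact hq

theorem triv {m x : G} (hm : m ∈ 𝐍(F.qP g r d1 a b)) (c1 : g * m = m * g) (c2 : d1 * m = m * d1)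
    (c3 : r * m = m * r) (c4 : m * F.t = F.t * m) (hx : x ∈ F.qP g r d1 a b) (hx' : x ∈ C0 F g r d1) :
    m * x * m⁻¹ * x⁻¹ ∈ F.K4 g d1 := by
  have c5 : F.u1 * m = m * F.u1 := by rw [← h.zz.rr, mul_assoc, c3, ← mul_assoc, c3, mul_assoc]
  have cR : m ∈ 𝐂(F.R g r d1) := ZA.cen (by
    rintro _ (rfl | rfl | rfl | rfl)
    exacts [c1, c2, c3, c5])
  obtain ⟨q, hq, o, oc, ho, rfl⟩ := h.zz.SP' (centralizer_le_normalizer _ cR) (one_mem _) (by rw [c4]; simp)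
    (mul_one 1) (centralizer_le ((VK h.zz).trans (KR h.zz)) cR)
  have on : o ∈ 𝐍(F.qP g r d1 a b) := (mul_mem_cancel_left (le_normalizer (QP h.zz hq))).1 hm
  have e1 := oc F.t (mem_sup_right (mem_zpowers _))
  have oP : o ∈ 𝐂(F.qP g r d1 a b) := odd_cent (ZD.isQ h.zz) ho oc fun y hy => by
    refine inQ h (mul_mem (inv_mem hy) ((mem_normalizer_iff.1 on y).1 hy)) (one_mem _) ?_
    have e2 := oc (y * F.t * y⁻¹) (by
      have := mul_mem (mem_sup_right (mem_zpowers F.t) : F.t ∈ F.R g r d1 ⊔ zpowers F.t)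
        (mem_sup_left (Pt h hy).2)
      rwa [mul_inv_cancel_left] at this)
    calc _ = y⁻¹ * (o * y * (o⁻¹ * (F.t * o)) * y⁻¹) * o⁻¹ * y := by group
      _ = y⁻¹ * (o * (y * F.t * y⁻¹)) * o⁻¹ * y := by rw [e1]; group
      _ = _ := by rw [← e2]; group
  have oR : o ∈ 𝐂(F.R g r d1) := centralizer_le (le_sup_left : F.R g r d1 ≤ _) oc
  have qR : q ∈ 𝐂(F.R g r d1) := (mul_mem_cancel_right oR).1 cR
  have qt : q * F.t = F.t * q := by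
    apply mul_right_cancel (b := o)
    rw [mul_assoc, e1, ← mul_assoc, c4, mul_assoc]
  have qC : q ∈ C0 F g r d1 := c0_of (centralizer_le_normalizer _ (centralizer_le (KR h.zz) qR)) qt
    (qR r h.zz.zaR).symm (qR _ (uR h.zz)).symm
  obtain ⟨w, hw, k⟩ := cq' h.zz qC hq
  have e : q * o * x * (q * o)⁻¹ * x⁻¹ = q * w⁻¹ * ((x * w * x⁻¹ * w⁻¹)⁻¹ * (x * (q * w⁻¹)⁻¹ * x⁻¹)) := by
    rw [mul_assoc q o x, ← oP x hx]; group
  rw [e]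
  exact mul_mem k (mul_mem (inv_mem (wc h.zz hw hx')) ((mem_normalizer_iff.1 hx'.1.1 _).1 (inv_mem k)))

theorem step1 : ∃ a b, F.QB g g' r r' d1 d2 η1 η2 a b ∧ a * b * (η1 * b * η1⁻¹) ∈ F.K4 g d1 := by
  have cP : η1 * b * η1⁻¹ ∈ F.qP g r d1 a b := (mem_normalizer_iff.1 h.ηP b).1 bP
  have cC : η1 * b * η1⁻¹ ∈ C0 F g r d1 := mul_mem (mul_mem (ηC h.zz) (bC h)) (inv_mem (ηC h.zz))
  have cT : η1 * b * η1⁻¹ * F.t * (η1 * b * η1⁻¹)⁻¹ = F.t * (g * d1)⁻¹ := by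
    rw [← h.zz.η1d]
    calc _ = η1 * (b * (η1⁻¹ * F.t * η1) * b⁻¹) * η1⁻¹ := by group
      _ = η1 * (F.t * d1) * η1⁻¹ := by rw [mul_assoc η1⁻¹, ← h.zz.η1t, inv_mul_cancel_left, bT h]
      _ = _ := by rw [← mul_assoc, h.zz.η1t]; group
  have eK := inv_mem (mul_mem (gK F (g := g) (d1 := d1)) (dK F))
  obtain ⟨φ, hφ, e1⟩ := psi h.zz h.aK h.aV (dK F)
  obtain ⟨φ', hφ', e2⟩ := psi h.zz (mul_mem h.aK (bK h)) (mul_mem h.aV (bV h)) eK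
  have q := inQ h (mul_mem (mul_mem aP bP) cP) (mul_mem hφ hφ') (by
    calc _ = a * b * (η1 * b * η1⁻¹ * F.t * (η1 * b * η1⁻¹)⁻¹) * (a * b)⁻¹ := by group
      _ = a * (b * F.t * b⁻¹) * a⁻¹ * (a * b * (g * d1)⁻¹ * (a * b)⁻¹) := by rw [cT]; group
      _ = a * F.t * a⁻¹ * (a * d1 * a⁻¹) * ((g * d1)⁻¹ * φ') := by rw [bT h, e2]; group
      _ = F.t * (g * d1) * (φ * (g * d1)⁻¹) * φ' := by rw [h.aT, e1]; group
      _ = _ := by rw [h.zz.zac (KR h.zz (VK h.zz hφ)) (KR h.zz eK)]; group)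
  rcases cq h.zz (mul_mem (mul_mem (aC h) (bC h)) cC) q with k | k
  · exact ⟨a, b, h, k⟩
  have wη : η1 * F.u1 = F.u1 * η1 := h.zz.η1u
  have eP : F.qP g r d1 (a * F.u1) (b * F.u1) = F.qP g r d1 a b := by
    refine le_antisymm ((closure_le _).2 ?_) ((closure_le _).2 ?_) <;> rintro _ (rfl | rfl | rfl | rfl | rfl | rfl)
    exacts [subset_closure (by simp), subset_closure (by simp), mul_mem aP (uP h.zz), mul_mem bP (uP h.zz), tP, rP,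
      subset_closure (by simp), subset_closure (by simp), (mul_mem_cancel_right (uP h.zz)).1 aP,
      (mul_mem_cancel_right (uP h.zz)).1 bP, tP, rP]
  have cj : ∀ x, F.u1 * x = x * F.u1 → a * F.u1 * x * (a * F.u1)⁻¹ = a * x * a⁻¹ := fun x hx => by
    rw [mul_assoc a, hx]; group
  refine ⟨a * F.u1, b * F.u1, ⟨⟨h.zz, h.d, mul_mem h.aV (RV h.zz (uR h.zz)),
    mul_mem h.aR (le_normalizer (uR h.zz)), ?_, ?_, ?_, eP ▸ h.isP, eP ▸ h.ηP, eP ▸ h.vP⟩, ?_,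
    mul_mem h.aK (uK h.zz), ?_, ?_⟩, ?_⟩
  · rw [cj _ F.tu1.symm, h.aT]
  · rw [cj _ rfl, h.au]
  · rw [← h.ηa, mul_assoc _ _ F.u1, (Commute.inv_left wη).eq]; group
  · rw [cj _ (uc h.zz (gK F)), h.ag]
  · rw [cj _ (h.zz.zac (uR h.zz) h.zz.zaR)]; exact h.ar
  · have e : a * F.u1 * (a * F.u1) = a * F.u1 * a⁻¹ * (a * a) * F.u1 := by group
    have c := h.zz.zac (uR h.zz) (KR h.zz (VK h.zz (mul_mem (ZC.zV F) h.aa)))
    rw [e, au' h, mul_assoc F.u1, c, mul_assoc, F.u11, mul_one]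
    exact mul_mem (ZC.zV F) h.aa
  · rw [← B1.iv' F.u11, ← h.ηa] at k
    rw [← h.ηa]
    exact fin0 ((F.K4 g d1).subgroupOf 𝐍(F.K4 g d1)) (A := ⟨a, h.aK⟩) (E := ⟨η1, ηK h.zz⟩)
      (W := ⟨F.u1, uK h.zz⟩) k (Subtype.ext F.u11) (wc h.zz (Or.inr rfl) (aC h)) (Subtype.ext wη)

local notation "κ" => MulAut.conj

theorem αgd {φ1 φ2 : G} (h1 : φ1 ∈ F.V1) (h2 : φ2 ∈ F.V1) (e1 : κ a g = g * φ1) (e2 : κ a d1 = d1 * φ2) :
    κ a (g * d1)⁻¹ = (g * d1)⁻¹ * (φ1 * φ2) := by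
  have VR := (VK h.zz).trans (KR h.zz)
  have m := mul_mem h1 h2
  rw [map_inv, map_mul, e1, e2, ← h.zz.zac (VR m) (inv_mem (mul_mem h.zz.zaG h.zz.zad)), ← B1.iv' (sqV m),
    mul_assoc g, ← mul_assoc φ1, h.zz.zac (VR h1) h.zz.zad]
  group

theorem βg {φ1 φ2 : G} (h1 : φ1 ∈ F.V1) (h2 : φ2 ∈ F.V1) (e1 : κ a g = g * φ1) (e2 : κ a d1 = d1 * φ2) :
    κ b g = g * κ η1 (φ1 * φ2) := by
  have βθ : ∀ x, κ b (κ η1 x) = κ η1 (κ a x) := fun x => by rw [← h.ηa]; simp only [MulAut.conj_apply]; group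
  have := βθ (g * d1)⁻¹
  rwa [αgd h h1 h2 e1 e2, map_mul, θ3 h.zz] at this

theorem step2 (abc : a * b * (η1 * b * η1⁻¹) ∈ F.K4 g d1) :
    (a⁻¹ * (F.v2 * a * F.v2) ∈ F.K4 g d1 ∨ a⁻¹ * (F.v2 * a * F.v2) * F.u1 ∈ F.K4 g d1) ∧
      κ a d1 = d1 * (F.z * F.v1) := by
  have h1 := ZC.zV F
  have e1 : κ a g = g * F.z := h.ag
  obtain ⟨φ2, h2, e2⟩ := psi h.zz h.aK h.aV (dK F)
  change κ a d1 = _ at e2
  have n := (ZC.SP1 h.zz (ZC.eta h.zz).1).2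
  have θV : ∀ {φ}, φ ∈ F.V1 → κ η1 φ ∈ F.V1 := fun hφ => (mem_normalizer_iff.1 n _).1 hφ
  have βθ : ∀ x, κ b (κ η1 x) = κ η1 (κ a x) := fun x => by rw [← h.ηa]; simp only [MulAut.conj_apply]; group
  have γθ : ∀ x, κ (η1 * b * η1⁻¹) (κ η1 x) = κ η1 (κ b x) := fun x => by simp only [MulAut.conj_apply]; group
  have θd : κ η1 d1 = (g * d1)⁻¹ := h.zz.η1d
  have γg : κ (η1 * b * η1⁻¹) g = g * κ η1 (κ η1 φ2) := by
    have b1 := βθ d1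
    rw [e2, map_mul, θd] at b1
    have := γθ (g * d1)⁻¹
    rwa [b1, map_mul (κ η1), θ3 h.zz] at this
  have E1 : F.z * κ η1 (F.z * φ2) * κ η1 (κ η1 φ2) = 1 := by
    have := ZC.kfix (h.zz.zac (KR h.zz abc) h.zz.zaG)
    rw [map_mul, map_mul, MulAut.mul_apply, MulAut.mul_apply, γg, map_mul, βg h h1 h2 e1 e2, kV (bV h) (θV (θV h2)),
      map_mul, map_mul, e1, kV h.aV (θV (θV h2)), kV h.aV (θV (mul_mem h1 h2)), mul_assoc, mul_assoc,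
      mul_eq_left, ← mul_assoc] at this
    exact this
  have sP : F.v2 * a * F.v2 ∈ F.qP g r d1 a b := by
    have := (mem_normalizer_iff.1 h.vP a).1 aP
    rwa [B1.iv' F.v22] at this
  have q := inQ h (mul_mem (inv_mem aP) sP) (one_mem _) (by
    calc _ = a⁻¹ * (F.v2 * (a * (F.v2 * F.t * F.v2⁻¹) * a⁻¹) * F.v2⁻¹) * a := by group
      _ = a⁻¹ * (F.v2 * F.t * F.v2⁻¹ * κ F.v2 g) * a := by
        rw [← F.tv2, mul_inv_cancel_right, h.aT, ← mul_assoc F.v2, ← F.tv2, MulAut.conj_apply]; group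
      _ = _ := by rw [(σ3 h.zz).1, ← F.tv2, mul_inv_cancel_right, ← h.aT]; group)
  have k := cq h.zz (mul_mem (inv_mem (aC h)) (mul_mem (mul_mem (sC h.zz) (aC h)) (sC h.zz))) q
  have rR : a⁻¹ * (F.v2 * a * F.v2) ∈ F.R g r d1 := by
    rcases k with k | k
    · exact KR h.zz k
    · exact (mul_mem_cancel_right (uR h.zz)).1 (KR h.zz k)
  have σα : ∀ x, κ F.v2 (κ a (κ F.v2 x)) = κ a (κ (a⁻¹ * (F.v2 * a * F.v2)) x) := fun x => by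
    simp only [MulAut.conj_apply]; group
  have s1 := σα g
  have s2 := σα d1
  rw [(σ3 h.zz).1, e1, map_mul, (σ3 h.zz).1] at s1
  rw [(σ3 h.zz).2.1, αgd h h1 h2 e1 e2, map_mul, (σ3 h.zz).2.2] at s2
  have P := phi (κ η1) (κ F.v2) F.zz F.v11 F.zv1.symm F.z1 F.b2_v1
    (fun e => F.b2_vz (by rw [← B1.iv' F.zz]; exact eq_inv_of_mul_eq_one_right e)) (ZC.eta h.zz).2.1
    (ZC.eta h.zz).2.2.1 (ZC.kfix F.B1zv2.symm) F.b2_v2v (F.memV1.1 h1) (F.memV1.1 h2) E1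
  rw [ZC.kfix (h.zz.zac rR h.zz.zaG), e1, mul_right_inj] at s1
  rw [ZC.kfix (h.zz.zac rR h.zz.zad), e2, mul_right_inj] at s2
  rcases (P (Or.inl ⟨by rw [s1, sqV h1], by rw [s2, sqV h2]⟩)).1 with ⟨e, -⟩ | ⟨-, e⟩
  · exact absurd e F.z1
  · exact ⟨k, e ▸ e2⟩

theorem step4 (abc : a * b * (η1 * b * η1⁻¹) ∈ F.K4 g d1)
    (k0 : a⁻¹ * (F.v2 * a * F.v2) ∈ F.K4 g d1 ∨ a⁻¹ * (F.v2 * a * F.v2) * F.u1 ∈ F.K4 g d1) :
    F.v2 * a * F.v2 * a⁻¹ ∈ F.K4 g d1 ∧ F.v2 * b * F.v2 * (a * b)⁻¹ ∈ F.K4 g d1 ∧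
      a⁻¹ * b⁻¹ * a * b ∈ F.K4 g d1 := by
  have aa : a * a ∈ F.K4 g d1 := VK h.zz h.aa
  have θg : κ η1 g = d1 := h.zz.η1g
  have θd : κ η1 d1 = (g * d1)⁻¹ := h.zz.η1d
  have cu : Commute η1 F.u1 := h.zz.η1u
  have cr : Commute η1 r := h.zz.η1r
  have ct : Commute η1 F.t := h.zz.η1t
  have su : Commute F.v2 r := sr h.zz
  have st : Commute F.v2 F.t := F.tv2.symm
  have e3 := triv h (mul_mem (mul_mem h.ηP h.ηP) h.ηP)
    (ZC.of_kfix (by simp only [map_mul, MulAut.mul_apply, θg, θd, θ3 h.zz])).symm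
    (ZC.of_kfix (by simp only [map_mul, MulAut.mul_apply, θg, θd, θ3 h.zz])).symm
    ((cr.mul_left cr).mul_left cr).symm.eq ((ct.mul_left ct).mul_left ct).eq aP (aC h)
  have m : ∀ x ∈ F.qP g r d1 a b, x ∈ C0 F g r d1 →
      F.v2 * η1 * F.v2 * η1 * (η1⁻¹ * (F.v2 * x * F.v2) * η1) * (F.v2 * η1 * F.v2 * η1)⁻¹ *
      (η1⁻¹ * (F.v2 * x * F.v2) * η1)⁻¹ ∈ F.K4 g d1 := fun x hx hx' => by
    refine triv h (mul_mem (mul_mem (mul_mem h.vP h.ηP) h.vP) h.ηP)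
      (ZC.of_kfix (by simp only [map_mul, MulAut.mul_apply, θg, θd, θ3 h.zz, σ3 h.zz])).symm
      (ZC.of_kfix (by simp only [map_mul, MulAut.mul_apply, θg, θd, θ3 h.zz, σ3 h.zz])).symm
      (((su.mul_left cr).mul_left su).mul_left cr).symm.eq (((st.mul_left ct).mul_left st).mul_left ct).eq ?_
      (mul_mem (mul_mem (inv_mem (ηC h.zz)) (mul_mem (mul_mem (sC h.zz) hx') (sC h.zz))) (ηC h.zz))
    have := (mem_normalizer_iff.1 (inv_mem h.ηP) _).1 ((mem_normalizer_iff.1 h.vP x).1 hx)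
    rwa [B1.iv' F.v22, inv_inv] at this
  have m1 := m a aP (aC h)
  have m2 := m b bP (bC h)
  obtain ⟨w, hw, wK, ww, wη, k⟩ : ∃ w, (w = 1 ∨ w = F.u1) ∧ w ∈ 𝐍(F.K4 g d1) ∧ w * w = 1 ∧
      η1 * w = w * η1 ∧ (a * w)⁻¹ * (F.v2 * a * F.v2) ∈ F.K4 g d1 := by
    rcases k0 with k | k
    · exact ⟨1, by simp, one_mem _, by simp, by simp, by rwa [mul_one]⟩
    · refine ⟨F.u1, by simp, uK h.zz, F.u11, cu, ?_⟩
      have rR := (mul_mem_cancel_right (uR h.zz)).1 (KR h.zz k)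
      rwa [mul_inv_rev, B1.iv' F.u11, mul_assoc, h.zz.zac (uR h.zz) rR]
  have wa := wc h.zz hw (aC h)
  rw [← h.ηa] at abc m2 ⊢
  exact fin2 ((F.K4 g d1).subgroupOf 𝐍(F.K4 g d1)) (A := ⟨a, h.aK⟩) (E := ⟨η1, ηK h.zz⟩) (S := ⟨F.v2, sK h.zz⟩)
    (W := ⟨w, wK⟩) aa (Subtype.ext F.v22) abc e3 m1 m2 k (Subtype.ext ww) wa (Subtype.ext wη)

end Q2cH

namespace Fr
variable {F : Fr G} {g g' r r' d1 d2 η1 η2 a b : G}

open Q2cH in
theorem QB.qc (h : F.QB g g' r r' d1 d2 η1 η2 a b) : ∃ a b, F.QC g g' r r' d1 d2 η1 η2 a b := by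
  obtain ⟨a, b, h, abc⟩ := step1 h
  obtain ⟨k0, e2⟩ := step2 h abc
  obtain ⟨va, vb, y⟩ := step4 h abc k0
  have e1 : MulAut.conj a g = g * F.z := h.ag
  refine ⟨a, b, h, e2.trans (mul_assoc _ _ _).symm, ?_, abc, va, vb⟩
  have bg : MulAut.conj b g = g * (F.z * F.v1) := by
    rw [βg h (ZC.zV F) (mul_mem (ZC.zV F) (ZC.vV F)) e1 e2, ← mul_assoc F.z, F.zz, one_mul, (ZC.eta h.zz).2.2.1]
  have e : a * b * F.t * (a * b)⁻¹ = b * a * F.t * (b * a)⁻¹ := by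
    calc _ = a * (b * F.t * b⁻¹) * a⁻¹ := by group
      _ = a * F.t * a⁻¹ * MulAut.conj a d1 := by rw [bT h, MulAut.conj_apply]; group
      _ = F.t * (g * d1) * (F.z * F.v1) := by rw [e2, h.aT]; group
      _ = b * F.t * b⁻¹ * MulAut.conj b g := by rw [bg, bT h, h.zz.zac h.zz.zaG h.zz.zad]; group
      _ = b * (a * F.t * a⁻¹) * b⁻¹ := by rw [h.aT, MulAut.conj_apply]; group
      _ = _ := by group
  have yt : a⁻¹ * b⁻¹ * a * b * F.t = F.t * (a⁻¹ * b⁻¹ * a * b) := by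
    calc _ = (b * a)⁻¹ * (a * b * F.t * (a * b)⁻¹) * (a * b) := by group
      _ = _ := by rw [e]; group
  have i := h.zz.inv (KR h.zz y)
  rw [← yt, mul_assoc, F.tt, mul_one, eq_inv_iff_mul_eq_one] at i
  have yV := sqK h.zz y i
  have := mul_mem h.aV (bV h) _ yV
  have e' : a * b * a⁻¹ * b⁻¹ = a⁻¹ * b⁻¹ * a * b := by
    calc _ = a * b * (a⁻¹ * b⁻¹ * a * b) * (a * b)⁻¹ := by group
      _ = _ := by rw [← this, mul_inv_cancel_right]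
  rwa [e']

end Fr

end H25.A6
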