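import Mathlib
import Cfsg.Agent.Lib.A6S.Q3

/-! `R` is the only abelian subgroup of order at least 64 of `qS`. -/

set_option autoImplicit false
set_option linter.unusedSectionVars false
set_option linter.unusedSimpArgs false

namespace H25.A6

open Subgroup H69 H36.SW H25.A7

variable {G : Type*} [Group G] [Finite G]

theorem q4_fib {B H : Subgroup G} {ι : Type*} [Finite ι] (f : B → ι)
    (h : ∀ x y : B, f x = f y → (x : G)⁻¹ * y ∈ H) : Nat.card B ≤ Nat.card ι * Nat.card (B ⊓ H : Subgroup G) := by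
  classical
  rw [← Nat.card_prod]
  obtain ⟨s, hs⟩ : ∃ s : ι → B, ∀ x, f (s (f x)) = f x :=
    ⟨Function.invFun f, fun x => Function.invFun_eq ⟨x, rfl⟩⟩
  refine Nat.card_le_card_of_injective (fun x => (f x, ⟨(s (f x) : G)⁻¹ * x,
    B.mul_mem (B.inv_mem (s (f x)).2) x.2, h _ _ (hs x)⟩)) fun x y e => ?_
  obtain ⟨e1, e2⟩ := Prod.mk.inj e
  have e3 : (s (f x) : G)⁻¹ * x = (s (f y) : G)⁻¹ * y := congrArg Subtype.val e2
  rw [e1, mul_right_inj] at e3
  exact Subtype.ext e3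

theorem q4_lst {B H : Subgroup G} (f : G → G) (l : List G) (h1 : ∀ x ∈ B, f x ∈ l)
    (h2 : ∀ x ∈ B, ∀ y ∈ B, f x = f y → x⁻¹ * y ∈ H) : Nat.card B ≤ l.length * Nat.card (B ⊓ H : Subgroup G) := by
  choose i hi using fun x : B => List.mem_iff_get.1 (h1 x x.2)
  simpa using q4_fib i fun x y e => h2 x x.2 y y.2 (by rw [← hi x, ← hi y, e])

theorem q4_two {B H : Subgroup G} {s : G} (h : ∀ x ∈ B, x ∈ H ∨ x * s ∈ H) :
    Nat.card B ≤ 2 * Nat.card (B ⊓ H : Subgroup G) := by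
  have := q4_fib (B := B) (H := H) (fun x => (x : G)⁻¹ ∈ H) fun x y e => by
    by_cases k : (x : G)⁻¹ ∈ H
    · simpa using mul_mem k (inv_mem (e ▸ k : (y : G)⁻¹ ∈ H))
    · have k' : (y : G)⁻¹ ∉ H := fun k' => k (e ▸ k')
      simpa [mul_assoc] using mul_mem ((h _ (inv_mem x.2)).resolve_left k)
        (inv_mem ((h _ (inv_mem y.2)).resolve_left k'))
  simpa using this

namespace Fr
variable {F : Fr G} {g g' r r' d1 d2 η1 η2 a b : G}

theorem q4_mv (F : Fr G) {c x s s' y : G} (cV : c ∈ 𝐂(F.V1)) (sV : s ∈ F.V1) (cu : c * F.u1 * c⁻¹ = s * F.u1)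
    (cx : c * x * c⁻¹ = x * s') (hy : y ∈ F.X1) (e : c * (x * y) * c⁻¹ = x * y) : s' = 1 ∨ s' * s = 1 := by
  rw [B2.cj_mul, cx, mul_assoc x, mul_right_inj] at e
  rcases ZD.Xmem F hy with k | k
  · rw [conj_eq_of_mem_centralizer cV k] at e
    exact Or.inl (mul_eq_right.1 e)
  · have e2 := conj_eq_of_mem_centralizer cV k
    rw [B2.cj_mul, cu, ← mul_assoc, mul_left_inj] at e2
    have ss := F.sqW1 (F.X1W1 (F.V1X1 sV))
    rw [eq_mul_inv_of_mul_eq e2, inv_eq_of_mul_eq_one_right ss,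
      comm_of_sq (fun _ => F.sqW1) (F.X1W1 hy) (F.X1W1 (F.V1X1 sV)), ← mul_assoc] at e
    exact Or.inr (mul_eq_right.1 e)

theorem QC.abel (h : F.QC g g' r r' d1 d2 η1 η2 a b) {B : Subgroup G} (hB : B ≤ F.qS g r d1 a b) (ab : B ≤ 𝐂(B)) (hc : 64 ≤ Nat.card B) : B = F.R g r d1 := by
  have hz := h.zz
  obtain ⟨-, -, -, -, nV, nR, PV, -, SV, SX⟩ := h.nrm
  obtain ⟨bV, -, bR, -, bu, -, bg, -, -⟩ := h.bV
  have cm : ∀ x ∈ B, ∀ y ∈ B, x * y = y * x := fun x hx y hy => ab hy x hx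
  have cW : ∀ x ∈ F.X1, ∀ y ∈ F.X1, x * y = y * x := fun x hx y hy => hz.zac (hz.XR hx) (hz.XR hy)
  have c8 : Nat.card F.X1 = 8 := by
    rw [F.cardX1, (F.cardF0.resolve_left fun k => F.hu1 k.1).2]
  have c4 : Nat.card F.V1 ≤ 4 := by
    have := q4_lst (B := F.V1) (H := ⊥) id [1, F.z, F.v1, F.z * F.v1] (fun x hx => by simpa using F.memV1.1 hx)
      fun x _ y _ e => by rw [show x = y from e]; simp
    simpa using this
  have su : ∀ x ∈ F.qS g r d1 a b, x * F.u1 * x⁻¹ * F.u1 ∈ F.V1 := fun x hx =>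
    (ZD.Xmem F ((hz.sq (conj_mem_of_mem_normalizer (nR hx) (hz.XR F.b2_uX))).2.1 (cjsq F.u11 _))).resolve_left
      fun k => F.b2_uV F.hu1 (by simpa [mul_assoc] using conj_mem_of_mem_normalizer' (nV hx) k)
  have cX : ∀ x ∈ F.qS g r d1 a b, x ∈ 𝐂(F.V1) → F.u1 * x = x * F.u1 → x ∈ F.qQ g r d1 := fun x hx h1 h2 => by
    rw [← SX]
    refine ⟨hx, ZA.cen ?_⟩
    rintro _ (rfl | rfl | rfl)
    exacts [h1 _ F.b2_zV, h1 _ F.b2_vV, h2]
  have fQ : ∀ x ∈ B, x ∈ F.qP g r d1 a b → ∀ y ∈ B, y ∈ F.qP g r d1 a b →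
      x * F.u1 * x⁻¹ * F.u1 = y * F.u1 * y⁻¹ * F.u1 → x⁻¹ * y ∈ F.qQ g r d1 := fun x hx hx' y hy hy' e => by
    refine cX _ (hB (mul_mem (inv_mem hx) hy)) (PV (mul_mem (inv_mem hx') hy')) ?_
    rw [mul_left_inj] at e
    calc F.u1 * (x⁻¹ * y) = x⁻¹ * (x * F.u1 * x⁻¹) * y := by group
      _ = _ := by rw [e]; group
  have A : Nat.card B ≤ 2 * Nat.card (B ⊓ F.qP g r d1 a b : Subgroup G) := q4_two fun x hx => h.memS'.1 (hB hx)
  have Bq : Nat.card B ≤ 4 * Nat.card (B ⊓ F.qQ g r d1 : Subgroup G) := by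
    by_cases k : B ≤ F.qP g r d1 a b
    · exact q4_lst (fun x => x * F.u1 * x⁻¹ * F.u1) [1, F.z, F.v1, F.z * F.v1]
        (fun x hx => by simpa using F.memV1.1 (su x (hB hx))) fun x hx y hy e => fQ x hx (k hx) y hy (k hy) e
    · obtain ⟨x0, h0, n0⟩ := SetLike.not_le_iff_exists.1 k
      have p0 := PV ((h.memS'.1 (hB h0)).resolve_left n0)
      have z0 : F.z * x0 = x0 * F.z := by
        have := p0 _ F.b2_zV
        rwa [← mul_assoc, mul_assoc x0, ← F.B1zv2, ← mul_assoc, mul_left_inj] at this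
      have := q4_lst (B := B ⊓ F.qP g r d1 a b) (H := F.qQ g r d1) (fun x => x * F.u1 * x⁻¹ * F.u1) [1, F.z]
        (fun y hy => by
          have wy := su y (hB hy.1)
          have wx := su x0 (hB h0)
          have c : x0 * (y * F.u1 * y⁻¹ * F.u1) * x0⁻¹ = y * F.u1 * y⁻¹ * F.u1 := by
            have e1 := conj_eq_of_mem_centralizer (PV hy.2) wx
            have e2 := cW _ (F.V1X1 wy) _ (F.V1X1 wx)
            have e3 : x0 * y * F.u1 * (x0 * y)⁻¹ = y * (x0 * F.u1 * x0⁻¹ * F.u1) * y⁻¹ * (y * F.u1 * y⁻¹) := by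
              rw [cm _ h0 _ hy.1, ← B2.cj_mul, mul_assoc _ F.u1 F.u1, F.u11]; group
            have e4 : x0 * F.u1 * x0⁻¹ = F.u1 * (x0 * F.u1 * x0⁻¹ * F.u1) := by
              rw [← cW _ (F.V1X1 wx) _ F.b2_uX, mul_assoc _ F.u1 F.u1, F.u11, mul_one]
            calc _ = x0 * y * F.u1 * (x0 * y)⁻¹ * (x0 * F.u1 * x0⁻¹) := by group
              _ = (x0 * F.u1 * x0⁻¹ * F.u1) * ((y * F.u1 * y⁻¹ * F.u1) * (x0 * F.u1 * x0⁻¹ * F.u1)) := by
                rw [e3, e1]; nth_rewrite 2 [e4]; group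
              _ = _ := by rw [e2, ← mul_assoc, F.sqW1 (F.X1W1 (F.V1X1 wx)), one_mul]
          have nv : ¬ (F.v1 * x0 = x0 * F.v1) := fun k => n0 (by
            rw [← SV]
            refine ⟨hB h0, ZA.cen ?_⟩
            rintro _ (rfl | rfl)
            exacts [z0, k])
          rcases F.memV1.1 wy with k | k | k | k
          · simp [k]
          · simp [k]
          · rw [k] at c; exact (nv (B2.comm_of_cj c).symm).elim
          · rw [k, B2.cj_mul, B2.cj_of_comm z0.symm, mul_right_inj] at c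
            exact (nv (B2.comm_of_cj c).symm).elim)
        fun x hx y hy e => fQ x hx.1 hx.2 y hy.1 hy.2 e
      have l := card_le_of_le (inf_le_inf_right (F.qQ g r d1) (inf_le_left : B ⊓ F.qP g r d1 a b ≤ B))
      simp only [List.length_cons, List.length_nil] at this
      omega
  have XB : F.X1 ≤ B → B ≤ F.qQ g r d1 := fun k x hx => by
    rw [← SX]
    exact ⟨hB hx, centralizer_anti k (ab hx)⟩
  have C : B ⊓ F.qQ g r d1 ≤ F.R g r d1 := fun x hx => by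
    refine (ZD.memQ hz hx.2).resolve_right ?_
    rintro ⟨e, he, rfl⟩
    have DX : B ⊓ F.qQ g r d1 ⊓ F.R g r d1 ≤ F.X1 := fun y hy => (hz.sq hy.2).2.1 (by
      have e1 := cm _ hy.1.1 _ hx.1
      rw [← mul_assoc, hz.zac hy.2 he, mul_assoc, mul_assoc, mul_right_inj, hz.ze_ti hy.2, mul_right_inj] at e1
      nth_rewrite 1 [← e1]
      exact inv_mul_cancel _)
    have t2 : Nat.card (B ⊓ F.qQ g r d1 : Subgroup G) ≤
        2 * Nat.card (B ⊓ F.qQ g r d1 ⊓ F.R g r d1 : Subgroup G) := q4_two (s := F.t) fun y hy =>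
      (ZD.memQ hz hy.2).imp_right fun ⟨e, he, k⟩ => by rwa [k, mul_assoc, F.tt, mul_one]
    have eq := eq_of_le_of_card_ge DX (by omega)
    have BQ := XB (eq ▸ inf_le_left.trans inf_le_left)
    rw [eq, inf_eq_left.2 BQ] at t2
    omega
  by_contra ne
  have nQ : ¬ B ≤ F.qQ g r d1 := fun k =>
    ne (eq_of_le_of_card_ge ((le_inf le_rfl k).trans C) (by rw [h.card.1]; exact hc))
  have QD : Nat.card (B ⊓ F.qQ g r d1 : Subgroup G) ≤ Nat.card (B ⊓ F.R g r d1 : Subgroup G) :=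
    card_le_of_le (le_inf inf_le_left C)
  have sqe : ∀ x ∈ B ⊓ F.R g r d1, ∀ y ∈ B ⊓ F.R g r d1, x * x = y * y → x⁻¹ * y ∈ F.X1 := fun x hx y hy e =>
    (hz.sq (mul_mem (inv_mem hx.2) hy.2)).2.1 (by
      rw [ZA.mm (hz.zac (inv_mem hx.2) hy.2), ← e]; group)
  have d4 : Nat.card (B ⊓ F.R g r d1 ⊓ F.X1 : Subgroup G) ≤ 4 := by
    have dv := card_dvd_of_le (inf_le_right : B ⊓ F.R g r d1 ⊓ F.X1 ≤ F.X1)
    have n8 : Nat.card (B ⊓ F.R g r d1 ⊓ F.X1 : Subgroup G) < 8 := lt_of_not_ge fun k => nQ (XB (by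
      rw [← eq_of_le_of_card_ge (inf_le_right : B ⊓ F.R g r d1 ⊓ F.X1 ≤ F.X1) (by omega)]
      exact inf_le_left.trans inf_le_left))
    rw [c8] at dv
    generalize Nat.card (B ⊓ F.R g r d1 ⊓ F.X1 : Subgroup G) = n at dv n8
    interval_cases n <;> omega
  have d16 : Nat.card (B ⊓ F.R g r d1 : Subgroup G) ≤ 16 := by
    have := q4_fib (B := B ⊓ F.R g r d1) (H := F.X1) (ι := (B ⊓ F.R g r d1 ⊓ F.X1 : Subgroup G))
      (fun x => ⟨x * x, mul_mem x.2 x.2, (hz.sq x.2.2).1⟩) fun x y e => sqe x x.2 y y.2 (congrArg Subtype.val e)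
    nlinarith
  have E : ∀ x ∈ B, x ∈ F.X1 → x ∈ F.V1 := fun x hx hX => (ZD.Xmem F hX).resolve_right fun k => by
    have l : B ⊓ F.qP g r d1 a b ≤ B ⊓ F.qQ g r d1 := fun y hy => ⟨hy.1, cX y (hB hy.1) (PV hy.2) (by
      have e1 := PV hy.2 _ k
      rwa [mul_assoc, ← mul_assoc y, ← cm _ hx _ hy.1, mul_assoc, mul_right_inj] at e1)⟩
    have := card_le_of_le l
    omega
  have sV : ∀ x ∈ B ⊓ F.R g r d1, x * x ∈ F.V1 := fun x hx => E _ (mul_mem hx.1 hx.1) (hz.sq hx.2).1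
  obtain ⟨e1, h1, s1⟩ : ∃ e ∈ B ⊓ F.R g r d1, e * e = F.z := by
    by_contra! k
    have := q4_lst (B := B ⊓ F.R g r d1) (H := F.X1) (fun x => x * x) [1, F.v1, F.z * F.v1]
      (fun x hx => by have := F.memV1.1 (sV x hx); have := k x hx; simp only [List.mem_cons]; tauto) sqe
    simp only [List.length_cons, List.length_nil] at this
    omega
  obtain ⟨e2, h2, s2⟩ : ∃ e ∈ B ⊓ F.R g r d1, e * e = F.v1 := by
    by_contra! k
    have := q4_lst (B := B ⊓ F.R g r d1) (H := F.X1) (fun x => x * x) [1, F.z, F.z * F.v1]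
      (fun x hx => by have := F.memV1.1 (sV x hx); have := k x hx; simp only [List.mem_cons]; tauto) sqe
    simp only [List.length_cons, List.length_nil] at this
    omega
  have BP : B ≤ F.qP g r d1 a b := fun x hx => by
    rw [← SV]
    refine ⟨hB hx, ZA.cen ?_⟩
    rintro _ (rfl | rfl)
    exacts [cm _ (s1 ▸ mul_mem h1.1 h1.1) _ hx, cm _ (s2 ▸ mul_mem h2.1 h2.1) _ hx]
  have y1 : g⁻¹ * e1 ∈ F.X1 := (hz.sq (mul_mem (inv_mem hz.zaG) h1.2)).2.1 (by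
    rw [ZA.mm (hz.zac (inv_mem hz.zaG) h1.2), s1, ← mul_inv_rev, hz.gg, inv_mul_cancel])
  have y2 : d1⁻¹ * e2 ∈ F.X1 := (hz.sq (mul_mem (inv_mem hz.zad) h2.2)).2.1 (by
    rw [ZA.mm (hz.zac (inv_mem hz.zad) h2.2), s2, ← mul_inv_rev, hz.d11, inv_mul_cancel])
  have KR : F.K4 g d1 ≤ F.R g r d1 := (closure_le _).2 (Set.pair_subset hz.zaG hz.zad)
  have AN : F.AA g d1 a b ≤ 𝐍(F.R g r d1) := (closure_le _).2 (by
    rintro _ (rfl | rfl | rfl | rfl)
    exacts [le_normalizer hz.zaG, le_normalizer hz.zad, h.aR, bR])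
  have AH : ∀ x ∈ F.qA g d1 a b, x ∈ F.AA g d1 a b ⊔ F.R g r d1 := fun x hx =>
    (h.memA1.1 hx).elim mem_sup_left fun k =>
      (mul_mem_cancel_right (mem_sup_right (hz.XR F.b2_uX))).1 (mem_sup_left k)
  have rH : r ∈ F.AA g d1 a b ⊔ F.R g r d1 := mem_sup_right hz.zaR
  have t2 : Nat.card B ≤ 2 * Nat.card (B ⊓ (F.AA g d1 a b ⊔ F.R g r d1) : Subgroup G) :=
    q4_two (s := F.t) fun x hx => by
      rcases h.memP.1 (BP hx) with k | k <;> rcases h.memE.1 k with k | k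
      · exact Or.inl (AH _ k)
      · exact Or.inr ((mul_mem_cancel_right rH).1 (by rw [mul_assoc]; exact AH _ k))
      · exact Or.inr (AH _ k)
      · rw [mul_assoc, ← mul_assoc F.t, F.tt, one_mul] at k
        exact Or.inl ((mul_mem_cancel_right rH).1 (AH _ k))
  have zv := cW _ F.b2_zX _ F.b2_vX
  have zv1 : F.z * F.v1 ≠ 1 := fun k => F.b2_vz (by
    rw [eq_inv_of_mul_eq_one_right k, inv_eq_of_mul_eq_one_right F.zz])
  have au : a * F.u1 * a⁻¹ = F.z * F.u1 := by rw [h.au, F.u2_eq F.hu1]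
  have l : B ⊓ (F.AA g d1 a b ⊔ F.R g r d1) ≤ B ⊓ F.R g r d1 := fun x hx => ⟨hx.1, by
    obtain ⟨p, hp, e, he, rfl⟩ := (mem_sup_of_le_normalizer_right AN).1 hx.2
    obtain ⟨y, hy, i, j, rfl⟩ := h.memA.1 hp
    rw [mul_assoc y] at hx hp ⊢
    have cN : a ^ (i : ℕ) * b ^ (j : ℕ) ∈ 𝐍(F.R g r d1) := mul_mem (pow_mem h.aR _) (pow_mem bR _)
    have fx : ∀ s ∈ B ⊓ F.R g r d1, a ^ (i : ℕ) * b ^ (j : ℕ) * s * (a ^ (i : ℕ) * b ^ (j : ℕ))⁻¹ = s := fun s hs => by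
      have k1 := B2.cj_of_comm (cm _ hx.1 _ hs.1)
      have k2 := B2.cj_of_comm (hz.zac (KR hy) (conj_mem_of_mem_normalizer cN hs.2))
      generalize a ^ (i : ℕ) * b ^ (j : ℕ) = c at k1 k2 ⊢
      calc _ = y * (c * (e * s * e⁻¹) * c⁻¹) * y⁻¹ := by rw [B2.cj_of_comm (hz.zac he hs.2), k2]
        _ = y * c * e * s * (y * c * e)⁻¹ := by group
        _ = s := k1
    have f1 := fx e1 h1
    have f2 := fx e2 h2
    rw [← mul_inv_cancel_left g e1] at f1
    rw [← mul_inv_cancel_left d1 e2] at f2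
    fin_cases i <;> fin_cases j <;>
      simp only [Fin.zero_eta, Fin.val_zero, pow_zero, mul_one, Fin.mk_one, Fin.val_one, pow_one, one_mul] at f1 f2 ⊢
    · exact mul_mem (KR hy) he
    · rcases F.q4_mv bV F.b2_vV (bu.trans F.u1v1) (bg.trans (mul_assoc _ _ _)) y1 f1 with k | k
      · exact (zv1 k).elim
      · rw [mul_assoc, F.v11, mul_one] at k; exact (F.z1 k).elim
    · rcases F.q4_mv h.aV F.b2_zV au (h.ad.trans (mul_assoc _ _ _)) y2 f2 with k | k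
      · exact (zv1 k).elim
      · rw [zv, mul_assoc, F.zz, mul_one] at k; exact (F.b2_v1 k).elim
    · have k1 : a * b * F.u1 * (a * b)⁻¹ = F.z * F.v1 * F.u1 := by
        calc _ = a * (b * F.u1 * b⁻¹) * a⁻¹ := by group
          _ = _ := by rw [bu, B2.cj_mul, au, conj_eq_of_mem_centralizer h.aV F.b2_vV, mul_assoc, F.u1v1, mul_assoc]
      have k2 : a * b * g * (a * b)⁻¹ = g * F.v1 := by
        calc _ = a * (b * g * b⁻¹) * a⁻¹ := by group
          _ = _ := by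
            rw [bg, B2.cj_mul, B2.cj_mul, h.ag, conj_eq_of_mem_centralizer h.aV F.b2_vV,
              conj_eq_of_mem_centralizer h.aV F.b2_zV, mul_assoc g, F.zz, mul_one]
      rcases F.q4_mv (mul_mem h.aV bV) (mul_mem F.b2_zV F.b2_vV) k1 k2 y1 f1 with k | k
      · exact (F.b2_v1 k).elim
      · rw [zv, ← mul_assoc, F.v11, one_mul] at k; exact (F.z1 k).elim⟩
  have := card_le_of_le l
  omega

end Fr

end H25.A6
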