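import Mathlib
import Cfsg.Agent.Lib.A6S.Q4
import Cfsg.Agent.Lib.A6S.Q1

/-! `qS` is a Sylow subgroup; `u1` is not conjugate to `z`. -/

set_option autoImplicit false

namespace H25.A6

open Subgroup H69 H36.SW H25.A7

variable {G : Type*} [Group G] [Finite G]

namespace Fr
variable {F : Fr G} {g g' r r' d1 d2 η1 η2 a b : G}

theorem QC.q5_QP (h : F.QC g g' r r' d1 d2 η1 η2 a b) : F.qQ g r d1 ≤ F.qP g r d1 a b := fun x hx =>
  h.memP'.2 ⟨x, hx, 0, 0, by simp⟩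

theorem QC.q5_PS (h : F.QC g g' r r' d1 d2 η1 η2 a b) : F.qP g r d1 a b ≤ F.qS g r d1 a b := fun _ hx =>
  h.memS'.2 (.inl hx)

theorem QC.q5_PV (h : F.QC g g' r r' d1 d2 η1 η2 a b) : F.qP g r d1 a b ≤ 𝐂(F.V1) := h.nrm.2.2.2.2.2.2.1

theorem QC.q5_SQ (h : F.QC g g' r r' d1 d2 η1 η2 a b) {x : G} (hx : x ∈ F.qS g r d1 a b) (c : x ∈ 𝐂(F.X1)) :
    x ∈ F.qQ g r d1 := by
  rw [← h.nrm.2.2.2.2.2.2.2.2.2]
  exact ⟨hx, c⟩

theorem QC.q5_p (h : F.QC g g' r r' d1 d2 η1 η2 a b) {w : G} (hw : w ∈ F.V1) :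
    ∃ p ∈ F.qP g r d1 a b, ZC.Pt (F.R g r d1) F.t p w := by
  have ha : a ∈ F.qP g r d1 a b := subset_closure (by simp)
  have hb : b ∈ F.qP g r d1 a b := subset_closure (by simp)
  have pa : ZC.Pt (F.R g r d1) F.t a F.z := ⟨h.aR, g, h.zz.zaG, h.aT, h.zz.gg⟩
  have pb : ZC.Pt (F.R g r d1) F.t b F.v1 := ⟨h.bV.2.2.1, d1, h.zz.zad, h.bV.2.2.2.1, h.zz.d11⟩
  rcases F.memV1.1 hw with rfl | rfl | rfl | rfl
  · exact ⟨1, one_mem _, ZC.Pt.one (one_mem _) (by rw [one_mul, mul_one])⟩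
  · exact ⟨a, ha, pa⟩
  · exact ⟨b, hb, pb⟩
  · exact ⟨a * b, mul_mem ha hb, h.zz.q1_mul h.aV F.b2_vV pa pb⟩

theorem QC.full (h : F.QC g g' r r' d1 d2 η1 η2 a b) {n : G} (hn : n ∈ 𝐍(F.qQ g r d1)) (hV : n ∈ 𝐂(F.V1)) :
    ∃ p ∈ F.qP g r d1 a b, ∃ o ∈ 𝐂(F.qQ g r d1), Odd (orderOf o) ∧ n = p * o := by
  obtain ⟨w, hw, q⟩ := h.zz.q1_ex (n := n) ⟨(h.zz.qNQ hn).1, hn, hV⟩
  obtain ⟨p, hp, p1⟩ := h.q5_p hw
  have pV := h.q5_PV hp
  obtain ⟨x, hx, o, ho, od, e3⟩ := h.zz.q1_SP (mul_mem pV hV)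
    ((h.zz.q1_mul pV hw p1 q).cg (F.sqW1 (F.X1W1 (F.V1X1 hw))))
  exact ⟨p⁻¹ * x, mul_mem (inv_mem hp) (h.q5_QP hx), o, ho, od, by rw [mul_assoc, ← e3, inv_mul_cancel_left]⟩

theorem QC.q5_nR (h : F.QC g g' r r' d1 d2 η1 η2 a b) {S : Subgroup G} (h1 : F.qQ g r d1 ≤ S)
    (h2 : S ≤ F.qS g r d1 a b) {n : G} (hn : n ∈ 𝐍(S)) : n ∈ 𝐍(F.R g r d1) := by
  refine mem_normalizer_of_cj_le (h.abel ?_ ?_ ?_).le
  · rintro _ ⟨x, hx, rfl⟩
    exact h2 (ZC.cm hn (h1 (mem_sup_left hx)))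
  · rw [← cj_centralizer]
    exact cj_mono n h.zz.ab
  · rw [card_cj, h.card.1]

theorem QC.q5_nQ (h : F.QC g g' r r' d1 d2 η1 η2 a b) {S : Subgroup G} (h1 : F.qQ g r d1 ≤ S)
    (h2 : S ≤ F.qS g r d1 a b) {n : G} (hn : n ∈ 𝐍(S)) : n ∈ 𝐍(F.qQ g r d1) :=
  mem_normalizer_fintype fun x hx => h.q5_SQ (h2 (ZC.cm hn (h1 hx))) fun w hw => by
    have := ZD.QX h.zz hx _ (h.zz.q1_X (h.q5_nR h1 h2 (inv_mem hn)) hw)
    calc w * (n * x * n⁻¹) = n * (n⁻¹ * w * n⁻¹⁻¹ * x) * n⁻¹ := by group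
      _ = _ := by rw [this]; group

theorem QC.q5_Sz (h : F.QC g g' r r' d1 d2 η1 η2 a b) {x : G} (hx : x ∈ F.qS g r d1 a b) : F.z * x = x * F.z := by
  rcases h.memS'.1 hx with e | e
  · exact h.q5_PV e _ F.b2_zV
  · have := h.q5_PV e _ F.b2_zV
    rw [mul_assoc, ← F.B1zv2, ← mul_assoc, ← mul_assoc] at this
    exact mul_right_cancel this

theorem QC.q5_gen (h : F.QC g g' r r' d1 d2 η1 η2 a b) {S P : Subgroup G} (h1 : F.qQ g r d1 ≤ S)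
    (h2 : S ≤ F.qS g r d1 a b) (h3 : F.v2 ∈ S) (hP : IsPGroup 2 P) (SP : S ≤ P) (PN : P ≤ 𝐍(S))
    (hk : ∀ p ∈ F.qP g r d1 a b, ∀ o ∈ 𝐂(F.qQ g r d1), p * o ∈ P → p ∈ S) : P ≤ S := by
  have key : ∀ m ∈ P, m * F.z = F.z * m → m * F.v1 = F.v1 * m → m ∈ S := fun m hm hz hv => by
    obtain ⟨p, hp, o, ho, od, rfl⟩ := h.full (h.q5_nQ h1 h2 (PN hm))
      (B2.cent_gen (by rintro _ (rfl | rfl); exacts [hz.symm, hv.symm]))
    have pS := hk p hp o ho hm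
    rw [(P2.of_mem hP ((mul_mem_cancel_left (SP pS)).1 hm)).eq_one od, mul_one]
    exact pS
  intro n hn
  have nS := PN hn
  have nV := (h.zz.qNQ (h.q5_nQ h1 h2 nS)).2.2
  have c : n * F.z * n⁻¹ * F.v2 = F.v2 * (n * F.z * n⁻¹) := by
    have := h.q5_Sz (h2 (ZC.cm (inv_mem nS) h3))
    calc n * F.z * n⁻¹ * F.v2 = n * (F.z * (n⁻¹ * F.v2 * n⁻¹⁻¹)) * n⁻¹ := by group
      _ = _ := by rw [this]; group
  have hz : n * F.z = F.z * n := by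
    refine B2.comm_of_cj ?_
    rcases F.memV1.1 (ZC.cm nV F.b2_zV) with e | e | e | e
    · exact absurd (conj_eq_one_iff.1 e) F.z1
    · exact e
    · exact absurd (e ▸ c) F.B1nc
    · rw [e, ← mul_assoc, ← F.B1zv2, mul_assoc, mul_assoc, mul_right_inj] at c
      exact absurd c F.B1nc
  rcases F.b2_pure hz nV with c | ⟨c, -⟩
  · exact key n hn hz c
  · exact (mul_mem_cancel_right h3).1 (key _ (mul_mem hn (SP h3)) (Commute.mul_left hz F.B1zv2.symm) c)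

theorem QC.syl (h : F.QC g g' r r' d1 d2 η1 η2 a b) : IsSylowIn 2 (F.qS g r d1 a b) ⊤ :=
  isSylowIn_of_normalizer le_top ⟨le_inf le_top le_normalizer, h.isPS, fun _ h1 h2 hP =>
    le_antisymm (h.q5_gen (h.q5_QP.trans h.q5_PS) le_rfl (subset_closure (by simp)) hP h1
      (h2.trans inf_le_right) fun _ hp _ _ _ => h.q5_PS hp) h1⟩

omit [Finite G] in
theorem q5_t (A : Subgroup G) : F.t ∈ A ⊔ closure {F.t, F.v2} := mem_sup_right (subset_closure (by simp))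

omit [Finite G] in
theorem q5_v (A : Subgroup G) : F.v2 ∈ A ⊔ closure {F.t, F.v2} := mem_sup_right (subset_closure (by simp))

theorem QC.q5_cen (h : F.QC g g' r r' d1 d2 η1 η2 a b) :
    F.R g r d1 ⊔ closure {F.t, F.v2} ≤ centralizer {F.u1} :=
  sup_le (fun _ hx => mem_centralizer_singleton_iff.2 (h.zz.zac hx (h.zz.XR F.b2_uX))) ((closure_le _).2 (by
    rintro _ (rfl | rfl)
    exacts [mem_centralizer_singleton_iff.2 F.tu1, mem_centralizer_singleton_iff.2 F.u1v2.symm]))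

theorem QC.sylu (h : F.QC g g' r r' d1 d2 η1 η2 a b) : IsSylowIn 2 (F.R g r d1 ⊔ closure {F.t, F.v2}) (centralizer {F.u1}) := by
  have QS : F.qQ g r d1 ≤ F.R g r d1 ⊔ closure {F.t, F.v2} := sup_le le_sup_left (zpowers_le_of_mem (q5_t _))
  have Q := h.q5_QP.trans h.q5_PS
  refine isSylowIn_of_normalizer h.q5_cen ⟨le_inf h.q5_cen le_normalizer, h.zz.isP, fun P h1 h2 hP =>
    le_antisymm (h.q5_gen QS (sup_le (le_sup_left.trans Q) ((closure_le _).2 ?_)) (q5_v _) hP h1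
      (h2.trans inf_le_right) fun p hp o ho hm => QS (h.q5_SQ (h.q5_PS hp) (B2.cent_gen ?_))) h1⟩
  · rintro _ (rfl | rfl)
    exacts [Q (ZA.zr _ _), subset_closure (by simp)]
  · have hu := mem_centralizer_singleton_iff.1 (h2 hm).1
    rw [mul_assoc, ← ho _ (mem_sup_left (h.zz.XR F.b2_uX)), ← mul_assoc, ← mul_assoc, mul_left_inj] at hu
    rintro _ (rfl | rfl | rfl)
    exacts [h.q5_PV hp _ F.b2_zV, h.q5_PV hp _ F.b2_vV, hu.symm]

theorem QC.q5_card (h : F.QC g g' r r' d1 d2 η1 η2 a b) :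
    Nat.card (F.R g r d1 ⊔ closure {F.t, F.v2} : Subgroup G) = 256 := by
  have c2 : Nat.card (F.R g r d1 ⊔ zpowers F.t : Subgroup G) = 128 := by
    rw [card_adj h.zz.zatN (by rw [F.tt]; exact one_mem _)
      fun k => by simpa using h.zz.indS (a := 1) (b := 0) (by simpa using k), h.card.1]
  rw [Set.insert_eq, Subgroup.closure_union, ← zpowers_eq_closure, ← zpowers_eq_closure, ← sup_assoc,
    card_adj (cj_eq_self_iff.1 (by
      rw [cj_sup, cj_zpowers, cj_eq_of_mem_normalizer h.zz.v2N, B2.cj_of_comm F.tv2.symm])) (by rw [F.v22]; exact one_mem _)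
      fun k => F.B1nc (ZD.QX h.zz k _ F.b2_vX), c2]

theorem QC.uz (h : F.QC g g' r r' d1 d2 η1 η2 a b) (s : G) : s * F.u1 * s⁻¹ ∉ F.V1 := by
  intro hs
  have nz : ∀ s : G, s * F.u1 * s⁻¹ ≠ F.z := fun s e => by
    have c : F.qS g r d1 a b ≤ centralizer {F.z} := fun _ hx =>
      mem_centralizer_singleton_iff.2 (h.q5_Sz hx).symm
    have := (h.sylu.cj s).card_le h.isPS (by rwa [cj_centralizer_singleton, e])
    rw [card_cj, h.q5_card, h.card.2.2.2.2.2] at this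
    omega
  rcases F.memV1.1 hs with e | e | e | e
  · exact F.hu1 (conj_eq_one_iff.1 e)
  · exact nz _ e
  · exact nz (F.y1⁻¹ * s) (B2.cj_inj' (g := F.y1) (by rw [F.y1z, ← e]; group))
  · exact nz (F.y1 * s) (by rw [← F.y1z', ← e]; group)

end Fr

end H25.A6
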