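import Mathlib
import Cfsg.Agent.Lib.A6S.Q3
import Cfsg.Agent.Lib.A6S.Q1

/-! Classes of involutions in the cosets of `qE`. -/

set_option autoImplicit false
set_option linter.unusedSectionVars false

namespace H25.A6

open Subgroup H69 H36.SW H25.A7

universe u
variable {G : Type u} [Group G] [Finite G]

namespace Q8
open ZC

theorem gen {E V : Subgroup G} (hc : ∀ x ∈ E, ∀ y ∈ E, x * y * x⁻¹ * y⁻¹ ∈ V ∧ x * x ∈ V) :
    ∃ (M : Type u) (_ : CommGroup M) (f : E →* M), (∀ x, f x = 1 ↔ (x : G) ∈ V) ∧ ∀ x, f x * f x = 1 := by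
  have hn : (V.subgroupOf E).Normal := ⟨fun n hn x => by
    have := mul_mem (hc _ x.2 _ n.2).1 (mem_subgroupOf.1 hn)
    rw [inv_mul_cancel_right] at this
    exact this⟩
  have k : ∀ x : E, QuotientGroup.mk' (V.subgroupOf E) x = 1 ↔ (x : G) ∈ V := fun x =>
    (QuotientGroup.eq_one_iff x).trans mem_subgroupOf
  refine ⟨E ⧸ V.subgroupOf E, { (inferInstance : Group (E ⧸ V.subgroupOf E)) with mul_comm := fun x y => ?_ },
    QuotientGroup.mk' _, k, fun x => ?_⟩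
  · obtain ⟨x, rfl⟩ := QuotientGroup.mk'_surjective _ x
    obtain ⟨y, rfl⟩ := QuotientGroup.mk'_surjective _ y
    have := (k (x * y * x⁻¹ * y⁻¹)).2 (hc _ x.2 _ y.2).1
    rwa [map_mul, map_mul, map_mul, map_inv, map_inv, mul_inv_eq_one, mul_inv_eq_iff_eq_mul] at this
  · exact (map_mul _ x x).symm.trans ((k _).2 (hc _ x.2 _ x.2).2)

section
variable {E V : Subgroup G} {M : Type u} [CommGroup M] {s : G}

/-- conjugation by `s` -/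
def cjh (hs : s ∈ 𝐍(E)) : E →* E :=
  MonoidHom.mk' (fun x => ⟨s * x * s⁻¹, cm hs x.2⟩) fun _ _ => Subtype.ext conj_mul.symm

/-- the commutator map -/
def D (f : E →* M) (hs : s ∈ 𝐍(E)) : E →* M := f.comp (cjh hs) * f

theorem D_eq (f : E →* M) (hs : s ∈ 𝐍(E)) {x : E} (y : E) (e : s * x * s⁻¹ = y) : D f hs x = f y * f x := by
  rw [← show cjh hs x = y from Subtype.ext e]; rfl

theorem D_inv (f : E →* M) (hs : s ∈ 𝐍(E)) {x : E} (e : s * x * s⁻¹ = (x : G)⁻¹) : D f hs x = 1 := by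
  rw [D_eq f hs x⁻¹ e, map_inv, inv_mul_cancel]

theorem D_inv' (f : E →* M) (hs : s ∈ 𝐍(E)) (s2 : s * s = 1) {x : E} (e : s * x * (s * x) = 1) :
    D f hs x = 1 :=
  D_inv f hs (by rw [inv_eq_of_mul_eq_one_right s2, eq_inv_iff_mul_eq_one, mul_assoc, e])

theorem D_mul {f : E →* M} (h2 : ∀ x, f x * f x = 1) (hs : s ∈ 𝐍(E)) {x : E} (c : E)
    (e : s * x * s⁻¹ = c * x) : D f hs x = f c := by
  rw [D_eq f hs (c * x) e, map_mul, mul_assoc, h2, mul_one]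

theorem D_fix {f : E →* M} (h2 : ∀ x, f x * f x = 1) (hs : s ∈ 𝐍(E)) {x : E} (e : s * x = x * s) :
    D f hs x = 1 := by
  rw [D_eq f hs x (by rw [e, mul_inv_cancel_right]), h2]

theorem D_V {f : E →* M} (h1 : ∀ x, f x = 1 ↔ (x : G) ∈ V) (hs : s ∈ 𝐍(E)) (hV : s ∈ 𝐍(V)) {x : E}
    (e : (x : G) ∈ V) : D f hs x = 1 := by
  rw [D_eq f hs (cjh hs x) rfl, (h1 x).2 e, (h1 _).2 (cm hV e), mul_one]

theorem D_comp {f : E →* M} (h2 : ∀ x, f x * f x = 1) {s' : G} (hs : s ∈ 𝐍(E)) (hs' : s' ∈ 𝐍(E)) {x : E} (y : E)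
    (e : s' * x * s'⁻¹ = y) : D f (mul_mem hs hs') x = D f hs y * D f hs' x := by
  rw [D_eq f hs' y e, D_eq f hs (cjh hs y) rfl, D_eq f _ (cjh hs y) (by
    show _ = s * y * s⁻¹
    rw [← e]; group), mul_assoc, ← mul_assoc (f y), h2, one_mul]

theorem red {f : E →* M} (h1 : ∀ x, f x = 1 ↔ (x : G) ∈ V) (h2 : ∀ x, f x * f x = 1) (hs : s ∈ 𝐍(E))
    (s2 : s * s = 1) (p y y0 : E) (e : f y = D f hs p * f y0) :
    ∃ w ∈ V, p * (s * y) * (p : G)⁻¹ = s * y0 * w := by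
  refine ⟨_, (h1 (y0⁻¹ * (cjh hs p * y * p⁻¹))).1 ?_, ?_⟩
  · rw [map_mul, map_mul, map_mul, map_inv, map_inv, e, D_eq f hs (cjh hs p) rfl]
    calc _ = (f y0)⁻¹ * f y0 * (f (cjh hs p) * f (cjh hs p)) * (f p * (f p)⁻¹) := by ac_rfl
      _ = 1 := by rw [h2, inv_mul_cancel, mul_inv_cancel, mul_one, mul_one]
  · show _ = s * y0 * ((y0 : G)⁻¹ * (s * p * s⁻¹ * y * (p : G)⁻¹))
    rw [mul_assoc s, mul_inv_cancel_left, inv_eq_of_mul_eq_one_right s2]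
    calc _ = s * s * (p * (s * y) * (p : G)⁻¹) := by rw [s2, one_mul]
      _ = _ := by group

theorem pw {x : M} (h : x * x = 1) (a b : Fin 2) : x ^ ((a + b : Fin 2) : ℕ) = x ^ (a : ℕ) * x ^ (b : ℕ) := by
  fin_cases a <;> fin_cases b <;> simp [h]

end

variable {F : Fr G} {g g' r r' d1 d2 η1 η2 a b : G}

theorem fin (F : Fr G) {s w : G} (s2 : s * s = 1) (hz : s * F.z = F.z * s) (hv : F.v1 * s * F.v1 = s * F.z)
    (hw : w ∈ F.V1) (e : s * w * (s * w) = 1) : ∃ p ∈ F.V1, s * w = p * s * p⁻¹ := by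
  rcases F.memV1.1 hw with rfl | rfl | rfl | rfl
  · exact ⟨1, one_mem _, by simp⟩
  · exact ⟨_, vV F, by rw [inv_eq_of_mul_eq_one_right F.v11, hv]⟩
  · refine (F.z1 ?_).elim
    rwa [mul_assoc, ← mul_assoc F.v1, hv, ← mul_assoc, s2, one_mul] at e
  · refine (F.z1 ?_).elim
    calc F.z = s * s * (F.z * F.z) * F.z := by rw [s2, F.zz]; group
      _ = s * (F.z * (F.v1 * s * F.v1) * F.z) := by rw [hv, ← mul_assoc F.z, ← hz]; group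
      _ = 1 := by rw [← e, mul_assoc F.z, mul_assoc _ F.v1, ← F.zv1]; group

variable (h : F.QC g g' r r' d1 d2 η1 η2 a b)
include h

theorem KE : F.K4 g d1 ≤ F.qE g r d1 a b := closure_mono (by rintro _ (rfl | rfl) <;> simp)
theorem KR : F.K4 g d1 ≤ F.R g r d1 := closure_mono (by rintro _ (rfl | rfl) <;> simp)
theorem VK : F.V1 ≤ F.K4 g d1 := fun w hw => h.memK.2 ⟨w, hw, 0, 0, by simp⟩
theorem gK : g ∈ F.K4 g d1 := subset_closure (by simp)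
theorem dK : d1 ∈ F.K4 g d1 := subset_closure (by simp)
theorem uR : F.u1 ∈ F.R g r d1 := subset_closure (by simp)
theorem tS : F.t ∈ F.qS g r d1 a b := subset_closure (by simp)
theorem vS : F.v2 ∈ F.qS g r d1 a b := subset_closure (by simp)
theorem tN : F.t ∈ 𝐍(F.qE g r d1 a b) := h.nrm.2.2.2.1 (tS h)
theorem vN : F.v2 ∈ 𝐍(F.qE g r d1 a b) := h.nrm.2.2.2.1 (vS h)

/-- the generators of `qE` -/
def eg : F.qE g r d1 a b := ⟨g, KE h (gK h)⟩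
/-- the generators of `qE` -/
def ed : F.qE g r d1 a b := ⟨d1, KE h (dK h)⟩
/-- the generators of `qE` -/
def ek : F.qE g r d1 a b := ⟨_, KE h h.vb⟩
/-- the generators of `qE` -/
def ea0 (_ : F.QC g g' r r' d1 d2 η1 η2 a b) : F.qE g r d1 a b := ⟨a, subset_closure (by simp)⟩
/-- the generators of `qE` -/
def ea : F.qE g r d1 a b := ek h * ea0 h
/-- the generators of `qE` -/
def eb (_ : F.QC g g' r r' d1 d2 η1 η2 a b) : F.qE g r d1 a b := ⟨b, subset_closure (by simp)⟩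
/-- the generators of `qE` -/
def eu (_ : F.QC g g' r r' d1 d2 η1 η2 a b) : F.qE g r d1 a b := ⟨F.u1, subset_closure (by simp)⟩
/-- the generators of `qE` -/
def ev (_ : F.QC g g' r r' d1 d2 η1 η2 a b) : F.qE g r d1 a b := ⟨F.t * r, subset_closure (by simp)⟩

theorem ea_pow (l : Fin 2) : ea h ^ (l : ℕ) = ek h ^ (l : ℕ) * ea0 h ^ (l : ℕ) := by
  fin_cases l <;> simp [ea]

theorem nf (y : F.qE g r d1 a b) : ∃ w : F.qE g r d1 a b, (w : G) ∈ F.V1 ∧ ∃ i j l m n p : Fin 2,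
    y = w * eg h ^ (i : ℕ) * ed h ^ (j : ℕ) * ea h ^ (l : ℕ) * eb h ^ (m : ℕ) * eu h ^ (n : ℕ) * ev h ^ (p : ℕ) := by
  obtain ⟨w, hw, i, j, l, m, n, p, e⟩ := h.memE'.1 y.2
  obtain ⟨w', hw', i', j', e'⟩ := h.memK.1 (mul_mem (h.memK.2 ⟨w, hw, i, j, rfl⟩) (inv_mem (pow_mem h.vb l)))
  refine ⟨⟨w', KE h (VK h hw')⟩, hw', i', j', l, m, n, p, Subtype.ext ?_⟩
  rw [ea_pow, e]
  show _ = w' * g ^ (i' : ℕ) * d1 ^ (j' : ℕ) * ((F.v2 * b * F.v2 * (a * b)⁻¹) ^ (l : ℕ) * a ^ (l : ℕ)) * b ^ (m : ℕ) *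
    F.u1 ^ (n : ℕ) * (F.t * r) ^ (p : ℕ)
  rw [← e', ← mul_assoc _ (_ ^ _) (a ^ _), inv_mul_cancel_right]

theorem ind {M : Type u} [CommGroup M] {f : F.qE g r d1 a b →* M} (h1 : ∀ x, f x = 1 ↔ (x : G) ∈ F.V1)
    {i j l n : Fin 2} (e : f (eg h) ^ (i : ℕ) * f (ed h) ^ (j : ℕ) * f (ea h) ^ (l : ℕ) * f (eu h) ^ (n : ℕ) = 1) :
    i = 0 ∧ j = 0 ∧ l = 0 ∧ n = 0 := by
  simp only [← map_pow, ← map_mul] at e
  rw [h1, ea_pow] at e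
  change g ^ (i : ℕ) * d1 ^ (j : ℕ) * ((F.v2 * b * F.v2 * (a * b)⁻¹) ^ (l : ℕ) * a ^ (l : ℕ)) *
    F.u1 ^ (n : ℕ) ∈ _ at e
  have k := VK h e
  rw [← mul_assoc, mul_assoc _ (a ^ _), mul_mem_cancel_left (mul_mem (mul_mem (pow_mem (gK h) _) (pow_mem (dK h) _))
    (pow_mem h.vb _))] at k
  obtain ⟨rfl, -, rfl, -⟩ := h.ind (i := l) (j := 0) (l := n) (m := 0) (n := 0) (p := 0) (by simpa using k)
  have e2 := h.zz.zasq (one_mem F.X1) i j 0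
  simp only [Fin.val_zero, pow_zero, mul_one, one_mul] at e e2
  rw [F.sqW1 (F.X1W1 (F.V1X1 e))] at e2
  obtain ⟨rfl, rfl, -⟩ := h.zz.zaone (i := i) (j := j) (k := 0) (by simpa using e2.symm)
  exact ⟨rfl, rfl, rfl, rfl⟩

theorem v2d : F.v2 * d1 * F.v2⁻¹ = (g * d1)⁻¹ := by
  have c := h.zz.c1
  rw [← h.zz.d11] at c
  have e : F.v2 * d1⁻¹ * F.v2⁻¹ = g * d1 := by
    calc F.v2 * d1⁻¹ * F.v2⁻¹ = F.v2⁻¹ * (d1⁻¹ * F.v2 * d1) * d1⁻¹ := by rw [F.b2_v2i]; group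
      _ = _ := by rw [c]; group
  rw [← e]; group

theorem v2b : F.v2 * eb h * F.v2⁻¹ = (ea h * eb h : F.qE g r d1 a b) := by
  show F.v2 * b * F.v2⁻¹ = F.v2 * b * F.v2 * (a * b)⁻¹ * a * b
  rw [F.b2_v2i]; group

theorem v2a : F.v2 * ea h * F.v2⁻¹ = (ea h : G)⁻¹ := by
  show F.v2 * (F.v2 * b * F.v2 * (a * b)⁻¹ * a) * F.v2⁻¹ = (F.v2 * b * F.v2 * (a * b)⁻¹ * a)⁻¹
  calc _ = F.v2 * F.v2 * b * F.v2 * b⁻¹ * F.v2⁻¹ := by group
    _ = b * F.v2⁻¹ * b⁻¹ * F.v2⁻¹ := by rw [F.v22, one_mul, F.b2_v2i]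
    _ = _ := by group

theorem v2v : F.v2 * (F.t * r) = F.t * r * F.v2 := by
  rw [← mul_assoc, ← F.tv2, mul_assoc, h.zz.zav (subset_closure (by simp)), mul_assoc]

theorem vX : F.t * r ∈ 𝐂(F.X1) := mul_mem (ZD.tX F) (centralizer_anti h.zz.XR (h.zz.ab h.zz.zaR))

theorem vv : F.t * r * (F.t * r) = 1 := by rw [← mul_assoc, h.zz.tr, inv_mul_cancel]

section
variable {M : Type u} [CommGroup M] {f : F.qE g r d1 a b →* M} (h1 : ∀ x, f x = 1 ↔ (x : G) ∈ F.V1)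
  (h2 : ∀ x, f x * f x = 1)
include h2

theorem tR {x : F.qE g r d1 a b} (hx : (x : G) ∈ F.R g r d1) : D f (tN h) x = 1 :=
  D_inv f _ (by rw [inv_eq_of_mul_eq_one_right F.tt, h.zz.inv hx])

theorem ta0 : D f (tN h) (ea0 h) = f (eg h) := D_mul h2 _ _ (by
  show F.t * a * F.t⁻¹ = g * a
  calc _ = F.t⁻¹ * (a * F.t * a⁻¹) * a := by rw [inv_eq_of_mul_eq_one_right F.tt]; group
    _ = _ := by rw [h.aT]; group)

theorem ta : D f (tN h) (ea h) = f (eg h) := by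
  rw [ea, map_mul, tR h h2 (KR h h.vb), one_mul, ta0 h h2]

theorem tb : D f (tN h) (eb h) = f (ed h) := D_mul h2 _ _ (by
  show F.t * b * F.t⁻¹ = d1 * b
  calc _ = F.t⁻¹ * (b * F.t * b⁻¹) * b := by rw [inv_eq_of_mul_eq_one_right F.tt]; group
    _ = _ := by rw [h.bV.2.2.2.1]; group)

theorem tv : D f (tN h) (ev h) = f (eu h) := D_mul h2 _ _ (by
  show F.t * (F.t * r) * F.t⁻¹ = F.u1 * (F.t * r)
  rw [← mul_assoc, F.tt, one_mul, inv_eq_of_mul_eq_one_right F.tt, ← h.zz.rr]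
  calc r * F.t = r * (r * F.t * r) := by rw [h.zz.ze_ti h.zz.zaR, inv_mul_cancel_right, h.zz.ze_ti h.zz.zaR]
    _ = _ := by group)

theorem vd : D f (vN h) (ed h) = f (eg h) := by
  rw [D_eq f _ (eg h * ed h)⁻¹ (v2d h), map_inv, map_mul, mul_inv, inv_eq_of_mul_eq_one_right (h2 _),
    inv_mul_cancel_right]

include h1

theorem Dt (w : F.qE g r d1 a b) (hw : (w : G) ∈ F.V1) (i j l m n p : ℕ) :
    D f (tN h) (w * eg h ^ i * ed h ^ j * ea h ^ l * eb h ^ m * eu h ^ n * ev h ^ p) =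
      f (eg h) ^ l * f (ed h) ^ m * f (ea h) ^ ((0 : Fin 2) : ℕ) * f (eu h) ^ p := by
  simp only [map_mul, map_pow, tR h h2 (KR h (VK h hw)), tR h h2 (x := eg h) h.zz.zaG, tR h h2 (x := ed h) h.zz.zad,
    tR h h2 (x := eu h) (uR h), ta h h2, tb h h2, tv h h2, one_pow, mul_one, one_mul, Fin.val_zero, pow_zero]

theorem Dv (w : F.qE g r d1 a b) (hw : (w : G) ∈ F.V1) (i j l m n p : ℕ) :
    D f (vN h) (w * eg h ^ i * ed h ^ j * ea h ^ l * eb h ^ m * eu h ^ n * ev h ^ p) =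
      f (eg h) ^ j * f (ed h) ^ ((0 : Fin 2) : ℕ) * f (ea h) ^ m * f (eu h) ^ ((0 : Fin 2) : ℕ) := by
  have zg : F.v2 * g = g * F.v2 := h.zz.zav (subset_closure (by simp))
  simp only [map_mul, map_pow, D_V h1 (vN h) (h.nrm.2.2.2.2.1 (vS h)) hw,
    D_fix h2 (vN h) (x := eg h) zg, vd h h2, D_inv f (vN h) (v2a h),
    D_mul h2 (vN h) (ea h) (v2b h), D_fix h2 (vN h) (x := eu h) F.u1v2.symm, D_fix h2 (vN h) (x := ev h) (v2v h),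
    one_pow, mul_one, one_mul, Fin.val_zero, pow_zero]

theorem Ds (w : F.qE g r d1 a b) (hw : (w : G) ∈ F.V1) (i n : ℕ) (j l m p : Fin 2) :
    D f (mul_mem (tN h) (vN h)) (w * eg h ^ i * ed h ^ (j : ℕ) * ea h ^ (l : ℕ) * eb h ^ (m : ℕ) * eu h ^ n *
      ev h ^ (p : ℕ)) =
      f (eg h) ^ ((j + l + m : Fin 2) : ℕ) * f (ed h) ^ (m : ℕ) * f (ea h) ^ (m : ℕ) * f (eu h) ^ (p : ℕ) := by
  have zg : F.v2 * g = g * F.v2 := h.zz.zav (subset_closure (by simp))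
  have sg : D f (mul_mem (tN h) (vN h)) (eg h) = 1 := by
    rw [D_comp h2 (tN h) (vN h) (eg h) (mul_inv_eq_iff_eq_mul.2 zg), tR h h2 h.zz.zaG, D_fix h2 _ zg, mul_one]
  have sd : D f (mul_mem (tN h) (vN h)) (ed h) = f (eg h) := by
    rw [D_comp h2 (tN h) (vN h) (eg h * ed h)⁻¹ (v2d h), tR h h2 (inv_mem (mul_mem h.zz.zaG h.zz.zad)), vd h h2, one_mul]
  have sa : D f (mul_mem (tN h) (vN h)) (ea h) = f (eg h) := by
    rw [D_comp h2 (tN h) (vN h) (ea h)⁻¹ (v2a h), map_inv, ta h h2, D_inv f _ (v2a h), mul_one,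
      inv_eq_of_mul_eq_one_right (h2 _)]
  have sb : D f (mul_mem (tN h) (vN h)) (eb h) = f (eg h) * f (ed h) * f (ea h) := by
    rw [D_comp h2 (tN h) (vN h) (ea h * eb h) (v2b h), map_mul, ta h h2, tb h h2, D_mul h2 (vN h) (ea h) (v2b h)]
  have su : D f (mul_mem (tN h) (vN h)) (eu h) = 1 := by
    rw [D_comp h2 (tN h) (vN h) (eu h) (mul_inv_eq_iff_eq_mul.2 F.u1v2.symm), tR h h2 (uR h), D_fix h2 _ F.u1v2.symm, mul_one]
  have sv : D f (mul_mem (tN h) (vN h)) (ev h) = f (eu h) := by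
    rw [D_comp h2 (tN h) (vN h) (ev h) (mul_inv_eq_iff_eq_mul.2 (v2v h)), tv h h2, D_fix h2 _ (v2v h), mul_one]
  simp only [map_mul, map_pow, sg, sd, sa, sb, su, sv, D_V h1 (mul_mem (tN h) (vN h))
    (h.nrm.2.2.2.2.1 (mul_mem (tS h) (vS h))) hw, one_pow, mul_one, one_mul, pw (h2 _), mul_pow, mul_assoc]

end

end Q8

namespace Fr
variable {F : Fr G} {g g' r r' d1 d2 η1 η2 a b : G}

open Q8 ZC

theorem QC.clt (h : F.QC g g' r r' d1 d2 η1 η2 a b) {y : G} (hy : y ∈ F.qE g r d1 a b) (e : F.t * y * (F.t * y) = 1) :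
    ∃ p ∈ F.qE g r d1 a b, F.t * y = p * F.t * p⁻¹ := by
  obtain ⟨M, _, f, h1, h2⟩ := gen (E := F.qE g r d1 a b) (V := F.V1) fun _ hx _ hy => h.comm hx hy
  obtain ⟨w, hw, i, j, l, m, n, p, e1⟩ := nf h ⟨y, hy⟩
  have k := D_inv' f (tN h) F.tt (x := ⟨y, hy⟩) e
  rw [e1, Dt h h1 h2 w hw] at k
  obtain ⟨rfl, rfl, -, rfl⟩ := Q8.ind h h1 k
  obtain ⟨w', hw', e2⟩ := red h1 h2 (tN h) F.tt
    (1 * eg h ^ 0 * ed h ^ 0 * ea h ^ (i : ℕ) * eb h ^ (j : ℕ) * eu h ^ 0 * ev h ^ (n : ℕ)) ⟨y, hy⟩ 1 (by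
      rw [Dt h h1 h2 1 (one_mem _), e1]
      simp only [map_mul, map_pow, (h1 w).2 hw, Fin.val_zero, pow_zero, mul_one, one_mul, map_one])
  generalize 1 * eg h ^ 0 * ed h ^ 0 * ea h ^ (i : ℕ) * eb h ^ (j : ℕ) * eu h ^ 0 * ev h ^ (n : ℕ) = q at e2
  obtain ⟨c, hc, rfl⟩ : ∃ c ∈ F.K4 g d1, c * c = w' := by
    rcases F.memV1.1 hw' with rfl | rfl | rfl | rfl
    · exact ⟨1, one_mem _, mul_one _⟩
    · exact ⟨g, gK h, h.zz.gg⟩
    · exact ⟨d1, dK h, h.zz.d11⟩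
    · exact ⟨_, mul_mem (gK h) (dK h), by rw [ZA.mm (h.zz.zac h.zz.zaG h.zz.zad), h.zz.gg, h.zz.d11]⟩
  refine ⟨(q : G)⁻¹ * c, mul_mem (inv_mem q.2) (KE h hc), ?_⟩
  rw [OneMemClass.coe_one, mul_one, ← h.zz.zat (KR h hc)] at e2
  calc F.t * y = (q : G)⁻¹ * (q * (F.t * y) * (q : G)⁻¹) * q := by group
    _ = _ := by rw [e2]; group

theorem QC.cls (h : F.QC g g' r r' d1 d2 η1 η2 a b) {y : G} (hy : y ∈ F.qE g r d1 a b) (e : F.t * F.v2 * y * (F.t * F.v2 * y) = 1) :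
    ∃ p ∈ F.qE g r d1 a b, F.t * F.v2 * y = p * (F.t * F.v2) * p⁻¹ := by
  obtain ⟨M, _, f, h1, h2⟩ := gen (E := F.qE g r d1 a b) (V := F.V1) fun _ hx _ hy => h.comm hx hy
  obtain ⟨w, hw, i, j, l, m, n, p, e1⟩ := nf h ⟨y, hy⟩
  have s2 : F.t * F.v2 * (F.t * F.v2) = 1 := by rw [ZA.mm F.tv2, F.tt, F.v22, mul_one]
  have k := D_inv' f (mul_mem (tN h) (vN h)) s2 (x := ⟨y, hy⟩) e
  rw [e1, Ds h h1 h2 w hw] at k
  obtain ⟨k1, rfl, -, rfl⟩ := Q8.ind h h1 k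
  obtain rfl : j = l := (by decide : ∀ j l : Fin 2, j + l + 0 = 0 → j = l) j l k1
  obtain ⟨w', hw', e2⟩ := red h1 h2 (mul_mem (tN h) (vN h)) s2
    (1 * eg h ^ 0 * ed h ^ ((i + j : Fin 2) : ℕ) * ea h ^ ((0 : Fin 2) : ℕ) * eb h ^ (j : ℕ) * eu h ^ 0 *
      ev h ^ (n : ℕ)) ⟨y, hy⟩ 1 (by
      rw [Ds h h1 h2 1 (one_mem _), e1, (by decide : ∀ i j : Fin 2, i + j + 0 + j = i) i j]
      simp only [map_mul, map_pow, (h1 w).2 hw, Fin.val_zero, pow_zero, mul_one, one_mul, map_one])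
  generalize 1 * eg h ^ 0 * ed h ^ ((i + j : Fin 2) : ℕ) * ea h ^ ((0 : Fin 2) : ℕ) * eb h ^ (j : ℕ) * eu h ^ 0 *
      ev h ^ (n : ℕ) = q at e2
  rw [OneMemClass.coe_one, mul_one] at e2
  obtain ⟨c, hc, e3⟩ := Q8.fin F s2 (by rw [mul_assoc, ← F.B1zv2, ← mul_assoc, ← F.zt, mul_assoc])
    (by rw [← mul_assoc, ← F.tv1, mul_assoc F.t, mul_assoc F.t, F.v121, F.B1zv2, mul_assoc]) hw'
    (e2 ▸ cjsq e q)
  refine ⟨(q : G)⁻¹ * c, mul_mem (inv_mem q.2) (KE h (VK h hc)), ?_⟩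
  calc F.t * F.v2 * y = (q : G)⁻¹ * (q * (F.t * F.v2 * y) * (q : G)⁻¹) * q := by group
    _ = _ := by rw [e2, e3]; group

theorem QC.clv (h : F.QC g g' r r' d1 d2 η1 η2 a b) {y : G} (hy : y ∈ F.qE g r d1 a b) (e : F.v2 * y * (F.v2 * y) = 1) :
    ∃ p ∈ F.qE g r d1 a b, ∃ w, (w = 1 ∨ w = F.u1 ∨ w = (F.t * r) ∨ w = F.u1 * (F.t * r)) ∧ F.v2 * y = p * (F.v2 * w) * p⁻¹ := by
  obtain ⟨M, _, f, h1, h2⟩ := gen (E := F.qE g r d1 a b) (V := F.V1) fun _ hx _ hy => h.comm hx hy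
  obtain ⟨w, hw, i, j, l, m, n, p, e1⟩ := nf h ⟨y, hy⟩
  have k := D_inv' f (vN h) F.v22 (x := ⟨y, hy⟩) e
  rw [e1, Dv h h1 h2 w hw] at k
  obtain ⟨rfl, -, rfl, -⟩ := Q8.ind h h1 k
  obtain ⟨w', hw', e2⟩ := red h1 h2 (vN h) F.v22
    (1 * eg h ^ 0 * ed h ^ (i : ℕ) * ea h ^ 0 * eb h ^ (l : ℕ) * eu h ^ 0 * ev h ^ 0) ⟨y, hy⟩
    (eu h ^ (n : ℕ) * ev h ^ (p : ℕ)) (by
      rw [Dv h h1 h2 1 (one_mem _), e1]
      simp only [map_mul, map_pow, (h1 w).2 hw, Fin.val_zero, pow_zero, mul_one, one_mul, mul_assoc])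
  generalize 1 * eg h ^ 0 * ed h ^ (i : ℕ) * ea h ^ 0 * eb h ^ (l : ℕ) * eu h ^ 0 * ev h ^ 0 = q at e2
  change _ = F.v2 * (F.u1 ^ (n : ℕ) * (F.t * r) ^ (p : ℕ)) * w' at e2
  have uv : Commute F.u1 (F.t * r) := vX h _ (subset_closure (by simp))
  have c1 : Commute (F.u1 ^ (n : ℕ) * (F.t * r) ^ (p : ℕ)) F.v1 :=
    (Commute.pow_left F.u1v1 _).mul_left (Commute.pow_left (vX h _ (F.V1X1 (vV F))).symm _)
  have c2 : Commute (F.u1 ^ (n : ℕ) * (F.t * r) ^ (p : ℕ)) F.v2 :=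
    (Commute.pow_left F.u1v2 _).mul_left (Commute.pow_left (v2v h).symm _)
  have c3 : Commute (F.u1 ^ (n : ℕ) * (F.t * r) ^ (p : ℕ)) F.z :=
    (Commute.pow_left F.zu1.symm _).mul_left (Commute.pow_left (vX h _ (F.V1X1 (zV F))).symm _)
  have c4 : F.u1 ^ (n : ℕ) * (F.t * r) ^ (p : ℕ) * (F.u1 ^ (n : ℕ) * (F.t * r) ^ (p : ℕ)) = 1 := by
    rw [ZA.mm (uv.pow_pow _ _).eq, ZA.sq2 F.u11, ZA.sq2 (vv h), one_pow, one_pow, mul_one]
  have c5 : F.u1 ^ (n : ℕ) * (F.t * r) ^ (p : ℕ) = 1 ∨ F.u1 ^ (n : ℕ) * (F.t * r) ^ (p : ℕ) = F.u1 ∨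
      F.u1 ^ (n : ℕ) * (F.t * r) ^ (p : ℕ) = F.t * r ∨ F.u1 ^ (n : ℕ) * (F.t * r) ^ (p : ℕ) = F.u1 * (F.t * r) := by
    fin_cases n <;> fin_cases p <;> simp
  generalize F.u1 ^ (n : ℕ) * (F.t * r) ^ (p : ℕ) = x at e2 c1 c2 c3 c4 c5
  obtain ⟨c, hc, e3⟩ := Q8.fin F (s := F.v2 * x) (by rw [ZA.mm c2.eq.symm, F.v22, c4, mul_one])
    (by rw [mul_assoc, c3.eq, ← mul_assoc, ← F.B1zv2, mul_assoc])
    (by rw [← mul_assoc, mul_assoc _ x, c1.eq, ← mul_assoc, F.v121, F.B1zv2, mul_assoc, ← c3.eq, mul_assoc]) hw'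
    (e2 ▸ cjsq e q)
  refine ⟨(q : G)⁻¹ * c, mul_mem (inv_mem q.2) (KE h (VK h hc)), x, c5, ?_⟩
  calc F.v2 * y = (q : G)⁻¹ * (q * (F.v2 * y) * (q : G)⁻¹) * q := by group
    _ = _ := by rw [e2, e3]; group

theorem QC.cEt (h : F.QC g g' r r' d1 d2 η1 η2 a b) : F.qE g r d1 a b ⊓ centralizer {F.t} = F.X1 := by
  refine le_antisymm ?_ (le_inf ((closure_le _).2 ?_) fun x hx =>
    mem_centralizer_singleton_iff.2 (ZD.tX F x hx))
  · rintro y ⟨hy, c⟩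
    obtain ⟨M, _, f, h1, h2⟩ := gen (E := F.qE g r d1 a b) (V := F.V1) fun _ hx _ hy => h.comm hx hy
    obtain ⟨w, hw, i, j, l, m, n, p, e1⟩ := nf h ⟨y, hy⟩
    have c' := mem_centralizer_singleton_iff.1 c
    have k := D_fix h2 (tN h) (x := ⟨y, hy⟩) c'.symm
    rw [e1, Dt h h1 h2 w hw] at k
    obtain ⟨rfl, rfl, -, rfl⟩ := Q8.ind h h1 k
    have yR : y ∈ F.R g r d1 := by
      have := congrArg Subtype.val e1
      simp only [Fin.val_zero, pow_zero, mul_one] at this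
      rw [show y = _ from this]
      exact mul_mem (mul_mem (mul_mem (KR h (VK h hw)) (pow_mem h.zz.zaG _)) (pow_mem h.zz.zad _))
        (pow_mem (uR h) _)
    have := h.zz.inv yR
    rw [← c', mul_assoc, F.tt, mul_one] at this
    exact (h.zz.sq yR).2.1 (eq_inv_iff_mul_eq_one.1 this)
  · rintro _ (rfl | rfl | rfl)
    exacts [KE h (VK h (zV F)), KE h (VK h (vV F)), (eu h).2]

end Fr

end H25.A6
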