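import Mathlib
import Cfsg.Agent.Lib.A6S.Q5
import Cfsg.Agent.Lib.A6S.Q8
import Cfsg.Agent.Lib.A6S.HT

/-! `t ∉ E` and `qM` is a Sylow subgroup of `E`. -/

set_option autoImplicit false

namespace H25.A6

open Subgroup H69 H36.SW H25.A7

variable {G : Type*} [Group G] [Finite G]

namespace Fr
variable {F : Fr G} {g g' r r' d1 d2 η1 η2 a b : G}

theorem QC.q6_MS (h : F.QC g g' r r' d1 d2 η1 η2 a b) : F.qM g r d1 a b ≤ F.qS g r d1 a b := by
  have mt : F.t ∈ F.qS g r d1 a b := subset_closure (by simp)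
  have mr : r ∈ F.qS g r d1 a b := subset_closure (by simp)
  refine (closure_le _).2 ?_
  rintro _ (rfl | rfl | rfl | rfl | rfl | rfl | rfl)
  exacts [subset_closure (by simp), subset_closure (by simp), subset_closure (by simp), subset_closure (by simp),
    h.zz.rr ▸ mul_mem mr mr, mul_mem mt mr, subset_closure (by simp)]

theorem QC.q6_EM (h : F.QC g g' r r' d1 d2 η1 η2 a b) : F.qE g r d1 a b ≤ F.qM g r d1 a b :=
  fun _ hx => h.memM.2 (.inl hx)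

theorem QC.q6_XM (h : F.QC g g' r r' d1 d2 η1 η2 a b) : F.X1 ≤ F.qM g r d1 a b := by
  have mg : g ∈ F.qM g r d1 a b := subset_closure (by simp)
  have md : d1 ∈ F.qM g r d1 a b := subset_closure (by simp)
  refine (closure_le _).2 ?_
  rintro _ (rfl | rfl | rfl)
  exacts [h.zz.gg ▸ mul_mem mg mg, h.zz.d11 ▸ mul_mem md md, subset_closure (by simp)]

theorem QC.q6_sq (h : F.QC g g' r r' d1 d2 η1 η2 a b) {e : G} (he : e ∈ F.R g r d1) (hm : e ∈ F.qM g r d1 a b) :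
    e * e ∈ F.V1 := by
  have mg : g ∈ F.qM g r d1 a b := subset_closure (by simp)
  have md : d1 ∈ F.qM g r d1 a b := subset_closure (by simp)
  obtain ⟨w, hw, i, j, k, rfl⟩ := h.zz.memR.1 he
  rw [mul_mem_cancel_left (mul_mem (mul_mem (h.q6_XM hw) (pow_mem mg _)) (pow_mem md _))] at hm
  rw [h.zz.zasq hw]
  fin_cases k
  · simpa using mul_mem (pow_mem F.b2_vV _) (pow_mem F.b2_zV _)
  · exact absurd (by simpa using hm) h.nmem.2.1

theorem QC.q6_u (h : F.QC g g' r r' d1 d2 η1 η2 a b) {y : G} (hy : y * F.u1 * y⁻¹ ∈ F.qS g r d1 a b) :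
    y * F.u1 * y⁻¹ ∈ F.qM g r d1 a b := by
  have c : F.CA := h.zz.cs.elim (fun k => absurd k.1 F.hu1) fun k => k.2.2.2
  have ss : y * F.u1 * y⁻¹ * (y * F.u1 * y⁻¹) = 1 := by rw [← B2.cj_mul, F.u11, mul_one, mul_inv_cancel]
  have no : ¬ F.Om (y * F.u1 * y⁻¹) := fun o => c.n1 ((F.b2_om y).1 o)
  generalize y * F.u1 * y⁻¹ = s at hy ss no
  have si : s⁻¹ = s := inv_eq_of_mul_eq_one_right ss
  have ti : F.t⁻¹ = F.t := inv_eq_of_mul_eq_one_right F.tt
  refine (h.memS''.1 hy).resolve_right fun k => no ?_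
  rcases h.memM.1 k with k | k
  · have k' := inv_mem k
    rw [mul_inv_rev, si, ti] at k'
    obtain ⟨p, -, e⟩ := h.clt k' (by rw [F.b2_tt, ss])
    rw [F.b2_tt] at e
    exact ⟨p, e.symm⟩
  · have k' := inv_mem k
    rw [mul_inv_rev, mul_inv_rev, si, ti, F.b2_v2i] at k'
    have e0 : F.t * F.v2 * (F.v2 * (F.t * s)) = s := by
      rw [mul_assoc, ← mul_assoc F.v2, F.v22, one_mul, F.b2_tt]
    obtain ⟨p, -, e⟩ := h.cls k' (by rw [e0, ss])
    rw [e0] at e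
    refine ⟨p * d2⁻¹, ?_⟩
    rw [e]
    conv_lhs => rw [← h.zz.ze_r0]
    group

theorem QC.rE (h : F.QC g g' r r' d1 d2 η1 η2 a b) : r ∉ F.E ∧ F.t ∉ F.E := by
  refine F.trG h.syl h.q6_MS (subset_closure (by simp)) h.nmem.1 (fun _ hs => h.memS''.1 hs) h.zz.zaP h.zz.zaR
    (fun _ hx => mem_centralizer_singleton_iff.2 (h.zz.zac hx h.zz.zaR)) (fun y hy hm => ?_) fun y m hs => ?_
  · have e := h.abel hy (by rw [← cj_centralizer]; exact cj_mono y h.zz.ab) (by rw [card_cj, h.card.1])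
    have := h.q6_sq (e ▸ cj_mem y h.zz.zaR) hm
    rw [← B2.cj_mul, h.zz.rr] at this
    exact h.uz y this
  · rw [h.zz.rr] at hs ⊢
    have u2 : F.u1 ^ 2 = 1 := by rw [pow_two, F.u11]
    rcases Nat.even_or_odd' m with ⟨k, rfl | rfl⟩
    · rw [pow_mul, u2, one_pow, mul_one, mul_inv_cancel]
      exact one_mem _
    · rw [pow_succ, pow_mul, u2, one_pow, one_mul] at hs ⊢
      exact h.q6_u hs

theorem QC.q6_ME (h : F.QC g g' r r' d1 d2 η1 η2 a b) : F.qM g r d1 a b ≤ F.E := by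
  have ti : F.t⁻¹ = F.t := inv_eq_of_mul_eq_one_right F.tt
  have gE : g ∈ F.E := by
    have := F.comm_mem F.t a
    rwa [ti, mul_assoc, mul_assoc, ← mul_assoc a, h.aT, F.b2_tt] at this
  have dE : d1 ∈ F.E := h.zz.η1g ▸ F.En.conj_mem g gE η1
  have KE : F.K4 g d1 ≤ F.E := (closure_le _).2 (by rintro _ (rfl | rfl); exacts [gE, dE])
  have aE : a ∈ F.E := by
    have k := KE h.ηb
    have e : a * b * (η1 * b * η1⁻¹) =
        a * (η1 * a * η1⁻¹ * a⁻¹) * a⁻¹ * (a * a) * (η1 * b * η1⁻¹ * b⁻¹) * (η1 * a * η1⁻¹ * a⁻¹) * a := by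
      rw [h.ηa]; group
    rwa [e, mul_mem_cancel_left (mul_mem (mul_mem (mul_mem (F.En.conj_mem _ (F.comm_mem η1 a) a) (F.sq_mem a))
      (F.comm_mem η1 b)) (F.comm_mem η1 a))] at k
  have vE : F.t * r ∈ F.E := by
    have := F.En.conj_mem _ ((F.top r).resolve_left h.rE.1) F.t
    rwa [← mul_assoc, mul_inv_cancel_right] at this
  refine (closure_le _).2 ?_
  rintro _ (rfl | rfl | rfl | rfl | rfl | rfl | rfl)
  exacts [gE, dE, aE, h.ηa ▸ F.En.conj_mem _ aE η1, h.zz.rr ▸ F.sq_mem r, vE, F.v2E]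

theorem QC.ME (h : F.QC g g' r r' d1 d2 η1 η2 a b) : F.qS g r d1 a b ⊓ F.E = F.qM g r d1 a b :=
  le_antisymm (fun _ hs => (h.memS''.1 hs.1).resolve_right fun k =>
    h.rE.2 ((mul_mem_cancel_left hs.2).1 (h.q6_ME k))) (le_inf h.q6_MS h.q6_ME)

theorem QC.sylM (h : F.QC g g' r r' d1 d2 η1 η2 a b) : IsSylowIn 2 (F.qM g r d1 a b) F.E :=
  h.ME ▸ F.sylE h.syl

theorem QC.sylE (h : F.QC g g' r r' d1 d2 η1 η2 a b) : IsSylowIn 2 (F.qE g r d1 a b) (𝐂(F.V1) ⊓ F.E) := by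
  have hN := h.nrm.2.2.2.2.1
  have s1 : IsSylowIn 2 (F.qS g r d1 a b ⊓ (𝐂(F.V1) ⊓ F.E)) (𝐂(F.V1) ⊓ F.E) := by
    refine (h.syl.mono hN le_top).inf_normal (inf_le_left.trans (centralizer_le_normalizer _)) ?_
    intro n hn
    refine mem_normalizer_fintype fun x hx => ⟨fun w hw => ?_, F.En.conj_mem _ hx.2 n⟩
    have := B2.comm_cj n (hx.1 _ (conj_mem_of_mem_normalizer (inv_mem hn) hw))
    simpa [mul_assoc] using this
  have e : F.qS g r d1 a b ⊓ (𝐂(F.V1) ⊓ F.E) = F.qE g r d1 a b := by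
    rw [← inf_assoc, h.nrm.2.2.2.2.2.2.2.2.1]
    exact le_antisymm (fun _ hs => (h.memP.1 hs.1).resolve_right fun k =>
      h.rE.2 ((mul_mem_cancel_left hs.2).1 (h.q6_ME (h.q6_EM k))))
      (le_inf (fun _ hx => h.memP.2 (.inl hx)) (h.q6_EM.trans h.q6_ME))
  exact e ▸ s1

end Fr

end H25.A6
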