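import Mathlib
import Cfsg.Agent.Lib.A6S.QD

/-! Odd elements of `C(t) ∩ C(z)` centralise the 2-subgroups of `C(t) ∩ C(z)` they normalise. -/

set_option autoImplicit false
set_option linter.unusedSectionVars false

namespace H25.A6

open Subgroup H69 H36.SW H25.A7

variable {G : Type*} [Group G] [Finite G]

namespace Fr
variable {F : Fr G} {g g' r r' d1 d2 η1 η2 a b : G}

theorem q7_sq (o x : G) : o * o * x * (o * o)⁻¹ = o * (o * x * o⁻¹) * o⁻¹ := by group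

theorem q7_odd2 {o : G} (ho : Odd (orderOf o)) : Odd (orderOf (o * o)) := by
  rw [← pow_two]
  exact Odd.of_dvd_nat ho (orderOf_pow_dvd 2)

theorem q7_half {o : G} (ho : Odd (orderOf o)) {P : Subgroup G} (h : o * o ∈ 𝐂(P)) : o ∈ 𝐂(P) :=
  mem_centralizer_iff_commute.2 fun x hx =>
    (B2.odd_comm ho (mem_centralizer_iff_commute.1 h x hx).symm).symm

theorem q7_W1 (F : Fr G) {o : G} (ho : Odd (orderOf o)) (ht : o * F.t = F.t * o) (hz : o * F.z = F.z * o)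
    (hW : o ∈ 𝐍(F.W1)) : o * F.v1 = F.v1 * o ∧ o * F.u1 = F.u1 * o := by
  refine ⟨(F.b2_vc hz (F.nW1 o ht hW).2).elim B2.comm_of_cj fun e => B2.odd_comm ho (B2.comm_of_cj ?_),
    F.fixu ht hW⟩
  rw [q7_sq, e, B2.cj_mul, e, B2.cj_of_comm hz, F.b2_zz]

theorem q7_W (F : Fr G) {o : G} (ho : Odd (orderOf o)) (ht : o * F.t = F.t * o) (hz : o * F.z = F.z * o)
    (hW : o ∈ 𝐍(F.W1)) : o ∈ 𝐂(F.W1) := by
  obtain ⟨a, b⟩ := F.q7_W1 ho ht hz hW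
  refine B2.cent_gen ?_
  rintro x (rfl | rfl | rfl | rfl)
  exacts [ht.symm, hz.symm, a.symm, b.symm]

theorem q7_T (F : Fr G) {o : G} (ho : Odd (orderOf o)) (ht : o * F.t = F.t * o) (hz : o * F.z = F.z * o)
    (hT : o ∈ 𝐍(F.T)) : o ∈ 𝐂(F.T) := by
  refine q7_half ho ?_
  have t2 : o * o * F.t = F.t * (o * o) := (Commute.mul_left ht ht).eq
  have z2 : o * o * F.z = F.z * (o * o) := (Commute.mul_left hz hz).eq
  have n : o * o ∈ 𝐍(F.W1) ∧ o * o ∈ 𝐍(F.W2) := by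
    rcases F.permW hT with k | k
    · exact ⟨mul_mem k.1 k.1, mul_mem k.2 k.2⟩
    · exact ⟨cj_eq_self_iff.1 (by rw [← cj_cj, k.1, k.2]), cj_eq_self_iff.1 (by rw [← cj_cj, k.2, k.1])⟩
  obtain ⟨a, b⟩ := F.q7_W1 (q7_odd2 ho) t2 z2 n.1
  obtain ⟨c, d⟩ := F.sw.q7_W1 (q7_odd2 ho) t2 z2 n.2
  refine B2.cent_gen ?_
  rintro x (rfl | rfl | rfl | rfl | rfl)
  exacts [t2.symm, a.symm, c.symm, b.symm, d.symm]

/-- the case `W1 ≤ Y ≤ T` -/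
theorem q7_big (F : Fr G) {o : G} (ho : Odd (orderOf o)) (ht : o * F.t = F.t * o) (hz : o * F.z = F.z * o)
    {Y : Subgroup G} (hW : F.W1 ≤ Y) (hT : Y ≤ F.T) (hn : o ∈ 𝐍(Y)) : o ∈ 𝐂(Y) := by
  by_cases h : Y ≤ F.W1
  · obtain rfl : Y = F.W1 := le_antisymm h hW
    exact F.q7_W ho ht hz hn
  · obtain ⟨x, hx, xW⟩ := SetLike.not_le_iff_exists.1 h
    obtain ⟨a, rfl⟩ := F.B1T.1 (hT hx)
    have a1 : a.2.2.1 ≠ 0 := fun k => xW (F.B1W1.2 ⟨a, k, rfl⟩)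
    obtain rfl : Y = F.T := le_antisymm hT fun y hy => by
      obtain ⟨b, rfl⟩ := F.B1T.1 hy
      by_cases b1 : b.2.2.1 = 0
      · exact hW (F.B1W1.2 ⟨b, b1, rfl⟩)
      · have := mul_mem hx (hW (F.B1W1.2 ⟨B1.ml (B1.iv a) b, by revert a1 b1; clear hx xW hy; revert a b; decide, rfl⟩))
        rwa [F.B1mul, F.B1inv, mul_inv_cancel_left] at this
    exact F.q7_T ho ht hz hn

/-- the image in `T / ⟨t, z⟩` -/
def q7p (a : B1.V5) : Fin 2 × Fin 2 × Fin 2 := (a.2.1, a.2.2.1, a.2.2.2.2)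

theorem q7_eqns : True := by
  have := @q7p.eq_1
  trivial

theorem q7_N (F : Fr G) {a : B1.V5} : B1.nf F a ∈ closure ({F.t, F.z} : Set G) ↔ q7p a = 0 := by
  refine (F.B1mem (1, 0, 0, 1, 0) rfl ?_ ⟨.inr (subset_closure (by simp)), .inl rfl, .inl rfl,
    subset_closure (by simp), .inl rfl⟩).trans ⟨?_, fun h => ⟨a, by revert a; decide, rfl⟩⟩
  · rintro g (rfl | rfl)
    exacts [⟨_, by decide, F.B1t⟩, ⟨_, by decide, F.B1zz⟩]
  · rintro ⟨b, hb, e⟩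
    obtain ⟨-, h2, h3, -, h5⟩ := F.B1eq e
    exact (by decide : ∀ a b : B1.V5, b.2.1 ≤ 0 → b.2.2.1 ≤ 0 → b.2.2.2.2 ≤ 0 → a.2.1 = b.2.1 →
      a.2.2.1 = b.2.2.1 → a.2.2.2.2 = b.2.2.2.2 → q7p a = 0) a b hb.2.1 hb.2.2.1 hb.2.2.2 h2 h3
        (h5.resolve_right F.hu1)

theorem q7_R (F : Fr G) {a b : B1.V5} :
    (B1.nf F a)⁻¹ * B1.nf F b ∈ closure ({F.t, F.z} : Set G) ↔ q7p a = q7p b := by
  rw [← F.B1inv, ← F.B1mul, F.q7_N]
  revert a b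
  decide

set_option synthInstance.maxSize 2000 in
set_option synthInstance.maxHeartbeats 200000 in
theorem q7_dec : ∀ p q r : Fin 2 × Fin 2 × Fin 2, p ≠ 0 → q ≠ 0 → r ≠ 0 → p ≠ q → q ≠ r → p ≠ r →
    p.2.1 * p.1 = q.2.1 * q.1 → q.2.1 * q.1 = r.2.1 * r.1 →
    (0, 0, 1) ∈ [p, q, r, p + q, p + r, q + r, p + q + r] ∧
      ((1, 0, 0) ∈ [p, q, r, p + q, p + r, q + r, p + q + r] ∨
        (0, 1, 0) ∈ [p, q, r, p + q, p + r, q + r, p + q + r]) := by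
  decide +kernel

/-- the case `⟨t, z⟩ ≤ Y ≤ T` -/
theorem q7_Y0 (F : Fr G) {o : G} (ho : Odd (orderOf o)) (ht : o * F.t = F.t * o) (hz : o * F.z = F.z * o)
    {Y : Subgroup G} (tY : F.t ∈ Y) (zY : F.z ∈ Y) (hT : Y ≤ F.T) (hn : o ∈ 𝐍(Y)) : o ∈ 𝐂(Y) := by
  by_cases w1 : F.W1 ≤ Y
  · exact F.q7_big ho ht hz w1 hT hn
  by_cases w2 : F.W2 ≤ Y
  · exact F.sw.q7_big ho ht hz w2 (F.sw_T ▸ hT) hn
  have NY : closure ({F.t, F.z} : Set G) ≤ Y := (closure_le _).2 (by rintro x (rfl | rfl); exacts [tY, zY])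
  have oC : o ∈ 𝐂(closure ({F.t, F.z} : Set G)) := B2.cent_gen (by
    rintro x (rfl | rfl); exacts [ht.symm, hz.symm])
  have oN : ∀ x, x ∈ closure ({F.t, F.z} : Set G) ↔ o * x * o⁻¹ ∈ closure ({F.t, F.z} : Set G) :=
    mem_normalizer_iff.1 (centralizer_le_normalizer _ oC)
  refine q7_half ho (odd_cent (F.isPT.to_le (NY.trans hT)) (q7_odd2 ho) (mul_mem oC oC) fun x hx => ?_)
  have hx1 := conj_mem_of_mem_normalizer hn hx
  have hx2 := conj_mem_of_mem_normalizer hn hx1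
  rw [q7_sq]
  obtain ⟨a, ea⟩ := F.B1T.1 (hT hx)
  obtain ⟨b, eb⟩ := F.B1T.1 (hT hx1)
  obtain ⟨c, ec⟩ := F.B1T.1 (hT hx2)
  have sq : ∀ {a b : B1.V5}, o * B1.nf F a * o⁻¹ = B1.nf F b → a.2.2.1 * a.2.1 = b.2.2.1 * b.2.1 := by
    intro a b e
    have m : B1.nf F (B1.ml a a) ∈ closure ({F.t, F.z} : Set G) := F.q7_N.2 (by clear e; revert a; decide)
    have k : B1.nf F (B1.ml a a) = B1.nf F (B1.ml b b) := by
      rw [F.B1mul b b, ← e, ← B2.cj_mul, ← F.B1mul,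
        B2.cj_of_comm (mem_centralizer_iff_commute.1 oC _ m).symm]
    have := (F.B1eq k).2.2.2.1
    clear k m e
    revert a b
    decide
  have eab : o * B1.nf F a * o⁻¹ = B1.nf F b := by rw [← ea, eb]
  have ebc : o * B1.nf F b * o⁻¹ = B1.nf F c := by rw [← eb, ec]
  have z1 : q7p a = 0 ↔ q7p b = 0 := by rw [← F.q7_N, ← F.q7_N, oN, eab]
  have z2 : q7p b = 0 ↔ q7p c = 0 := by rw [← F.q7_N, ← F.q7_N, oN, ebc]
  have r : q7p a = q7p b ↔ q7p b = q7p c := by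
    rw [← F.q7_R, ← F.q7_R, oN, B2.cj_mul, ebc,
      show o * (B1.nf F a)⁻¹ * o⁻¹ = (o * B1.nf F a * o⁻¹)⁻¹ by group, eab]
  rw [ec, ea, F.q7_R]
  by_contra ne
  have P : ∀ p ∈ [q7p a, q7p b, q7p c, q7p a + q7p b, q7p a + q7p c, q7p b + q7p c, q7p a + q7p b + q7p c],
      ∀ d, q7p d = p → B1.nf F d ∈ Y := by
    have ha : B1.nf F a ∈ Y := ea ▸ hx
    have hb : B1.nf F b ∈ Y := eb ▸ hx1
    have hc : B1.nf F c ∈ Y := ec ▸ hx2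
    have s : ∀ {a d : B1.V5}, B1.nf F a ∈ Y → q7p d = q7p a → B1.nf F d ∈ Y := fun h e =>
      (mul_mem_cancel_left (inv_mem h)).1 (NY (F.q7_R.2 e.symm))
    have m : ∀ {a b : B1.V5}, B1.nf F a ∈ Y → B1.nf F b ∈ Y → B1.nf F (B1.ml a b) ∈ Y := fun h k =>
      F.B1mul _ _ ▸ mul_mem h k
    intro p hp d e
    simp only [List.mem_cons, List.not_mem_nil, or_false] at hp
    rcases hp with rfl | rfl | rfl | rfl | rfl | rfl | rfl
    exacts [s ha e, s hb e, s hc e, s (m ha hb) e, s (m ha hc) e, s (m hb hc) e, s (m (m ha hb) hc) e]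
  obtain ⟨h1, h2⟩ := q7_dec (q7p a) (q7p b) (q7p c) (fun k => ne (k.trans (z2.1 (z1.1 k)).symm))
    (fun k => ne ((z1.2 k).trans (z2.1 k).symm)) (fun k => ne ((z1.2 (z2.2 k)).trans k.symm))
    (fun k => ne (k.trans (r.1 k))) (fun k => ne ((r.2 k).trans k)) ne (sq eab) (sq ebc)
  have uY : F.u1 ∈ Y := F.B1u1 ▸ P _ h1 _ rfl
  rcases h2 with h2 | h2
  · refine w1 ((closure_le _).2 ?_)
    rintro x (rfl | rfl | rfl | rfl)
    exacts [tY, zY, F.B1v1 ▸ P _ h2 _ rfl, uY]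
  · refine w2 ((closure_le _).2 ?_)
    rintro x (rfl | rfl | rfl | rfl)
    exacts [tY, zY, F.B1v2 ▸ P _ h2 _ rfl, F.u2_eq F.hu1 ▸ mul_mem zY uY]

/-- the case `⟨t, z⟩ ≤ Y ≤ TD` -/
theorem q7_TD (F : Fr G) {o : G} (ho : Odd (orderOf o)) (ht : o * F.t = F.t * o) (hz : o * F.z = F.z * o)
    {Y : Subgroup G} (tY : F.t ∈ Y) (zY : F.z ∈ Y) (hT : Y ≤ F.TD) (hn : o ∈ 𝐍(Y)) : o ∈ 𝐂(Y) := by
  have ht' : o⁻¹ * F.t = F.t * o⁻¹ := (Commute.inv_left ht).eq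
  have k : ∀ x ∈ Y, x ∈ F.T → o * x * o⁻¹ ∈ F.T := fun x hx xT =>
    (F.memTD (hT (conj_mem_of_mem_normalizer hn hx))).resolve_right fun ⟨d, τ, hτ, e⟩ =>
      F.nd d o⁻¹ ht' τ hτ (by rw [← e, show o⁻¹ * (o * x * o⁻¹) * o⁻¹⁻¹ = x by group]; exact xT)
  have n0 : o ∈ 𝐍(Y ⊓ F.T) := mem_normalizer_of_cj_le fun x hx => by
    obtain ⟨y, hy, rfl⟩ := mem_cj'.1 hx
    exact ⟨conj_mem_of_mem_normalizer hn hy.1, k y hy.1 hy.2⟩
  refine odd_cent (F.isPT.to_le inf_le_right) ho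
    (F.q7_Y0 ho ht hz ⟨tY, F.b2_tT⟩ ⟨zY, F.W1T (F.X1W1 F.b2_zX)⟩ inf_le_right n0) fun x hx =>
      mem_inf.2 ⟨mul_mem (inv_mem hx) (conj_mem_of_mem_normalizer hn hx), ?_⟩
  rcases F.memTD (hT hx) with xT | ⟨d, τ, hτ, rfl⟩
  · exact mul_mem (inv_mem xT) (k x hx xT)
  · rcases F.memTD (hT (conj_mem_of_mem_normalizer hn hx)) with xT | ⟨-, σ, hσ, e⟩
    · exact (F.nd d o ht τ hτ xT).elim
    · rw [e, show (F.dl * τ)⁻¹ * (F.dl * σ) = τ⁻¹ * σ by group]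
      exact mul_mem (inv_mem hτ) hσ

theorem q7_adj {s o : G} (ss : s * s = 1) (hs : o * s = s * o) {Y : Subgroup G} (hY : IsPGroup 2 Y)
    (h1 : Y ≤ centralizer {s}) (hn : o ∈ 𝐍(Y)) :
    IsPGroup 2 (Y ⊔ zpowers s : Subgroup G) ∧ o ∈ 𝐍(Y ⊔ zpowers s) := by
  refine ⟨isP_sup hY (.of_sq ss) (centralizer_le_normalizer _ (mem_centralizer_iff_commute.2 fun y hy =>
    mem_centralizer_singleton_iff.1 (h1 hy))), mem_normalizer_of_cj_le ?_⟩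
  rw [Subgroup.map_sup, cj_eq_of_mem_normalizer hn, MonoidHom.map_zpowers]
  refine sup_le_sup_left (zpowers_le.2 ?_) _
  change o * s * o⁻¹ ∈ _
  rw [B2.cj_of_comm hs]
  exact mem_zpowers _

theorem qodd (F : Fr G) {o : G} (ho : Odd (orderOf o)) (ht : o * F.t = F.t * o) (hz : o * F.z = F.z * o) {Y : Subgroup G}
    (hY : IsPGroup 2 Y) (h1 : Y ≤ centralizer {F.t}) (h2 : Y ≤ centralizer {F.z}) (hn : o ∈ 𝐍(Y)) : o ∈ 𝐂(Y) := by
  obtain ⟨p1, n1⟩ := q7_adj F.tt ht hY h1 hn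
  have c1 : Y ⊔ zpowers F.t ≤ centralizer {F.z} :=
    sup_le h2 (zpowers_le.2 (mem_centralizer_singleton_iff.2 F.zt.symm))
  obtain ⟨p2, n2⟩ := q7_adj F.zz hz p1 c1 n1
  have hS : IsSylowIn 2 F.TD (centralizer {F.t} ⊓ centralizer {F.z}) := F.sylTD.mono
    (le_inf F.sylTD.le fun x hx => mem_centralizer_singleton_iff.2 (F.Nz (F.TDN hx))) inf_le_left
  obtain ⟨c, hc, e⟩ := hS.exists_cj_le p2 (le_inf
    (sup_le (sup_le h1 (zpowers_le.2 (mem_centralizer_singleton_iff.2 rfl)))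
      (zpowers_le.2 (mem_centralizer_singleton_iff.2 F.zt)))
    (sup_le c1 (zpowers_le.2 (mem_centralizer_singleton_iff.2 rfl))))
  have ct : c * F.t * c⁻¹ = F.t := B2.cj_of_comm (mem_centralizer_singleton_iff.1 hc.1)
  have cz : c * F.z * c⁻¹ = F.z := B2.cj_of_comm (mem_centralizer_singleton_iff.1 hc.2)
  have a1 := B2.comm_cj c ht
  have a2 := B2.comm_cj c hz
  rw [ct] at a1
  rw [cz] at a2
  have m1 : c * F.t * c⁻¹ ∈ ((Y ⊔ zpowers F.t) ⊔ zpowers F.z) ^ᶜ c :=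
    cj_mem c (mem_sup_left (mem_sup_right (mem_zpowers _)))
  have m2 : c * F.z * c⁻¹ ∈ ((Y ⊔ zpowers F.t) ⊔ zpowers F.z) ^ᶜ c := cj_mem c (mem_sup_right (mem_zpowers _))
  rw [ct] at m1
  rw [cz] at m2
  have k := F.q7_TD (B2.odd_cj ho c) a1 a2 m1 m2 e (B2.norm_cj rfl n2)
  refine mem_centralizer_iff_commute.2 fun x hx => B2.cj_inj' (g := c) ?_
  rw [B2.cj_mul, B2.cj_mul]
  exact mem_centralizer_iff_commute.1 k _ (cj_mem c (mem_sup_left (mem_sup_left hx)))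

end Fr

end H25.A6
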