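import Mathlib
import Cfsg.Agent.Lib.A6S.Q6

/-! The kernel of the action of `qL` on `qE / V1`. -/

set_option autoImplicit false

namespace H25.A6

open Subgroup H69 H36.SW H25.A7

variable {G : Type*} [Group G] [Finite G]

namespace Fr
variable {F : Fr G} {g g' r r' d1 d2 η1 η2 a b : G}

theorem QC.q9_le (h : F.QC g g' r r' d1 d2 η1 η2 a b) : F.qE g r d1 a b ≤ F.qL g r d1 a b :=
  le_inf le_normalizer h.sylE.le

theorem QC.q9_p2 (h : F.QC g g' r r' d1 d2 η1 η2 a b) {p : G} (hp : p ∈ F.qL g r d1 a b) (p2 : P2 p) :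
    p ∈ F.qE g r d1 a b :=
  h.sylE.le_of_le_normalizer' p2.zpowers (zpowers_le.2 hp.2) (zpowers_le.2 hp.1) (mem_zpowers p)

theorem QC.q9_nL (h : F.QC g g' r r' d1 d2 η1 η2 a b) :
    F.qS g r d1 a b ≤ 𝐍(F.qL g r d1 a b) := by
  have := F.En
  exact le_normalizer_inf (le_normalizer_normalizer h.nrm.2.2.2.1)
    (le_normalizer_inf (le_normalizer_centralizer h.nrm.2.2.2.2.1)
      (le_top.trans (normal_iff_top_le_normalizer.1 F.En)))

theorem q9_sup {Q : Subgroup G} {s y : G} (hs : s ∈ 𝐍(Q)) (s2 : s * s = 1) (hy : y ∈ Q ⊔ zpowers s) :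
    y ∈ Q ∨ s * y ∈ Q := by
  obtain ⟨p, hp, _, ⟨i, rfl⟩, rfl⟩ := (mem_sup_of_le_normalizer_left (zpowers_le.2 hs)).1 hy
  have si : s⁻¹ = s := inv_eq_of_mul_eq_one_right s2
  have e2 : s ^ (2 : ℤ) = 1 := by rw [zpow_two, s2]
  rcases Int.even_or_odd' i with ⟨j, rfl | rfl⟩
  · left
    simp only [zpow_mul, e2, one_zpow, mul_one]
    exact hp
  · right
    simp only [zpow_add, zpow_mul, e2, one_zpow, one_mul, zpow_one]
    have := conj_mem_of_mem_normalizer hs hp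
    rwa [si, mul_assoc] at this

theorem QC.dec (h : F.QC g g' r r' d1 d2 η1 η2 a b) {n : G} (hn : n ∈ F.qL g r d1 a b) : ∃ p ∈ F.qE g r d1 a b, ∃ o ∈ F.qL g r d1 a b, Odd (orderOf o) ∧ n = p * o := by
  obtain ⟨m, h1, h2⟩ := B2.split n
  have hp := pow_mem hn m
  exact ⟨n ^ m, h.q9_p2 hp h1, (n ^ m)⁻¹ * n, mul_mem (inv_mem hp) hn, h2, by group⟩

theorem QC.corr (h : F.QC g g' r r' d1 d2 η1 η2 a b) {s n : G} (hs : s ∈ F.qS g r d1 a b) (hs' : s ∉ F.qE g r d1 a b) (s2 : s * s = 1) (hn : n ∈ F.qL g r d1 a b)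
    (e : F.qT g r d1 a b (s * n * s * n⁻¹)) : ∃ k ∈ F.qL g r d1 a b, F.qT g r d1 a b k ∧ s * (k * n * s * (k * n)⁻¹) ∈ F.qE g r d1 a b := by
  have si : s⁻¹ = s := inv_eq_of_mul_eq_one_right s2
  have sN : s ∈ 𝐍(F.qE g r d1 a b) := h.nrm.2.2.2.1 hs
  have ES : F.qE g r d1 a b ≤ F.qS g r d1 a b := fun x hx =>
    h.memS'.2 (Or.inl (h.memP.2 (Or.inl hx)))
  have VE : F.V1 ≤ F.qE g r d1 a b := fun w hw => h.memE'.2 ⟨w, hw, 0, 0, 0, 0, 0, 0, by simp⟩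
  have hm : s * n * s * n⁻¹ ∈ F.qL g r d1 a b := by
    have := conj_mem_of_mem_normalizer (h.q9_nL hs) hn
    rw [si] at this
    exact mul_mem this (inv_mem hn)
  obtain ⟨p, hp, o, ho, oo, em⟩ := h.dec hm
  have oC : o ∈ 𝐂(F.qE g r d1 a b) := by
    refine odd_cent (h.sylE.isP.to_le VE) oo ho.2.1 fun x hx => ?_
    have h1 := e x hx
    rw [em] at h1
    have h2 := (h.comm (inv_mem hx) (inv_mem hp)).1
    have h3 := conj_eq_of_mem_centralizer (inv_mem (h.sylE.le hp).1) h1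
    have h4 : x⁻¹ * (o * x * o⁻¹) =
        x⁻¹ * p⁻¹ * x⁻¹⁻¹ * p⁻¹⁻¹ * (p⁻¹ * (x⁻¹ * (p * o * x * (p * o)⁻¹)) * p⁻¹⁻¹) := by group
    rw [h4, h3]
    exact mul_mem h2 h1
  have hW : IsSylowIn 2 (F.qE g r d1 a b ⊓ 𝐂(F.qE g r d1 a b)) (𝐂(F.qE g r d1 a b) ⊓ F.qL g r d1 a b) :=
    ⟨le_inf inf_le_right (inf_le_left.trans h.q9_le), h.sylE.isP.to_inf_left, fun R h1 h2 h3 =>
      le_antisymm (fun x hx => ⟨h.q9_p2 (h2 hx).2 (P2.of_mem h3 hx), (h2 hx).1⟩) h1⟩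
  obtain ⟨O, hO, -⟩ := exists_odd hW fun w hw c hc => (hc.1 w hw.1).symm
  have QS : F.qE g r d1 a b ⊔ zpowers s ≤ F.qS g r d1 a b := sup_le ES (zpowers_le.2 hs)
  have hQ : IsPGroup 2 (F.qE g r d1 a b ⊔ zpowers s : Subgroup G) := h.isPS.to_le QS
  have hN : F.qS g r d1 a b ≤ 𝐍(O) := fun y hy => mem_normalizer_of_cj_le fun x hx => by
    obtain ⟨x', hx', rfl⟩ := mem_cj'.1 hx
    obtain ⟨h1, h2⟩ := (hO x').1 hx'
    exact (hO _).2 ⟨conj_mem_of_mem_normalizer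
      (le_normalizer_inf (le_normalizer_centralizer h.nrm.2.2.2.1) h.q9_nL hy) h1, B2.odd_cj h2 y⟩
  obtain ⟨k, hk, hkn⟩ := frat_odd hQ (fun x hx => ((hO x).1 hx).2) (QS.trans hN) (g := n) (by
    rw [cj_sup, cj_eq_of_mem_normalizer hn.1, cj_zpowers]
    refine sup_le (le_sup_left.trans le_sup_left) (zpowers_le.2 ?_)
    have h1 : n * s * n⁻¹ = s * p * o := by
      rw [mul_assoc s, ← em, ← mul_assoc, ← mul_assoc, ← mul_assoc, s2, one_mul]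
    rw [h1]
    exact mul_mem (mem_sup_left (mul_mem (mem_sup_right (mem_zpowers s)) (mem_sup_left hp)))
      (mem_sup_right ((hO o).2 ⟨⟨oC, ho⟩, oo⟩)))
  obtain ⟨⟨kC, kL⟩, -⟩ := (hO k).1 hk
  refine ⟨k, kL, fun x hx => ?_, ?_⟩
  · rw [conj_eq_of_mem_centralizer kC hx, inv_mul_cancel]
    exact one_mem _
  · refine (q9_sup sN s2 (conj_mem_of_mem_normalizer hkn (mem_sup_right (mem_zpowers s)))).resolve_left
      fun h1 => hs' ?_
    exact (mem_normalizer_iff.1 (mul_mem kL hn).1 s).2 h1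

end Fr

end H25.A6
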