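import Mathlib
import Cfsg.Agent.Lib.A6S.ZA
import Cfsg.Agent.Lib.A6S.Bas3

/-! Type `ZZ` is impossible. -/

set_option autoImplicit false

namespace H25.A6

open Subgroup H69 H36.SW

variable {G : Type*} [Group G] [Finite G]

namespace Fr
variable {F : Fr G} {u0 g g' r r' d1 d2 η1 η2 : G}

theorem ZZ.ze_cm (h : F.ZZ u0 g g' r r' d1 d2 η1 η2) {x y : G} (hx : x ∈ F.R g r d1)
    (hy : y ∈ F.R g r d1) : x * y = y * x :=
  (mem_centralizer_iff_commute.1 (h.ab hy)) x hx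

theorem ZZ.ze_gR (_ : F.ZZ u0 g g' r r' d1 d2 η1 η2) : g ∈ F.R g r d1 := subset_closure (by simp)
theorem ZZ.ze_dR (_ : F.ZZ u0 g g' r r' d1 d2 η1 η2) : d1 ∈ F.R g r d1 := subset_closure (by simp)
theorem ZZ.ze_rR (_ : F.ZZ u0 g g' r r' d1 d2 η1 η2) : r ∈ F.R g r d1 := subset_closure (by simp)

theorem ZZ.ze_ti (h : F.ZZ u0 g g' r r' d1 d2 η1 η2) {x : G} (hx : x ∈ F.R g r d1) :
    x * F.t = F.t * x⁻¹ := by
  rw [← h.inv hx, ← mul_assoc, ← mul_assoc, F.tt, one_mul]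

theorem ZZ.ze_nX2 (h : F.ZZ u0 g g' r r' d1 d2 η1 η2) {f : G} (hf : f ∈ F.F0) : ¬ F.Om (F.v2 * f) := by
  have hn : ¬ F.Om F.u1 ∧ ¬ F.Om F.u2 := by
    rcases h.cs with c | c
    · exact ⟨c.2.2.2.n1, c.2.2.2.n2⟩
    · exact ⟨c.2.2.2.n1, c.2.2.2.n2⟩
  refine F.sw.nX1 hn.2 hn.1 (Subgroup.mul_mem _ ?_ (F.sw.F0X1 (F.sw_F0 ▸ hf)))
  exact subset_closure (Or.inr (Or.inl rfl))

theorem ZZ.ze_r0 (h : F.ZZ u0 g g' r r' d1 d2 η1 η2) : d2 * (F.t * F.v2) * d2⁻¹ = F.t := by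
  have : d2 * F.t = F.t * d2⁻¹ := by rw [← h.td2, ← mul_assoc, ← mul_assoc, F.tt, one_mul]
  rw [← mul_assoc, this, ← h.d22]; group

theorem ZZ.ze_v1R (h : F.ZZ u0 g g' r r' d1 d2 η1 η2) : F.v1 ∈ F.R g r d1 :=
  h.XR (subset_closure (by simp))

/-- the elements `t v2 m`, `m ∈ ⟨g, u0⟩`, are conjugate to `t v2` under `R1` -/
theorem ZZ.ze_cj (h : F.ZZ u0 g g' r r' d1 d2 η1 η2) {m : G} (hm : m ∈ closure ({g, u0} : Set G)) :
    m ∈ F.R g r d1 ∧ ∃ e ∈ F.R g r d1, e * (F.t * F.v2) * e⁻¹ = F.t * F.v2 * m := by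
  have gv2 : g * F.v2 = F.v2 * g :=
    ((mem_centralizer_iff_commute.1 h.gT) F.v2 (subset_closure (by simp))).symm
  have rv2 : r * F.v2 = F.v2 * r :=
    ((mem_centralizer_iff_commute.1 h.rT) F.v2 (subset_closure (by simp))).symm
  have hinv : ∀ x, (x ∈ F.R g r d1 ∧ ∃ e ∈ F.R g r d1, e * (F.t * F.v2) * e⁻¹ = F.t * F.v2 * x) →
      (x⁻¹ ∈ F.R g r d1 ∧ ∃ e ∈ F.R g r d1, e * (F.t * F.v2) * e⁻¹ = F.t * F.v2 * x⁻¹) := by
    rintro x ⟨hx, e, he, h1⟩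
    refine ⟨inv_mem hx, e⁻¹, inv_mem he, ?_⟩
    have c := h.ze_cm hx he
    have h2 : F.t * F.v2 = e⁻¹ * (F.t * F.v2 * x) * e := by rw [← h1]; group
    calc e⁻¹ * (F.t * F.v2) * e⁻¹⁻¹ = e⁻¹ * (F.t * F.v2) * (e * x) * x⁻¹ := by group
      _ = e⁻¹ * (F.t * F.v2 * x) * e * x⁻¹ := by rw [← c]; group
      _ = _ := by rw [← h2]
  induction hm using closure_induction with
  | mem x hx =>
    simp only [Set.mem_insert_iff, Set.mem_singleton_iff] at hx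
    rcases hx with rfl | rfl
    · have := hinv x⁻¹ ⟨inv_mem h.ze_gR, d1⁻¹, inv_mem h.ze_dR, ?_⟩
      · rwa [inv_inv] at this
      have h1 : d1⁻¹ * F.t = F.t * d1 := by simpa using h.ze_ti (inv_mem h.ze_dR)
      have h2 : x * F.v1 = F.v1 * x := h.ze_cm h.ze_gR h.ze_v1R
      have h3 : F.z * x = x⁻¹ := by
        rw [eq_inv_iff_mul_eq_one, mul_assoc, h.gg, F.zz]
      have h4 : F.z * F.v2 = F.v2 * F.z := F.sw.zv1
      calc d1⁻¹ * (F.t * F.v2) * d1⁻¹⁻¹ = d1⁻¹ * F.t * d1 * (d1⁻¹ * F.v2 * d1) := by group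
        _ = F.t * (d1 * d1) * (F.v2 * (x * F.v1)) := by rw [h1, h.c1]; group
        _ = F.t * (F.v1 * F.v2 * F.v1) * x := by rw [h.d11, h2]; group
        _ = F.t * F.v2 * (F.z * x) := by rw [F.v121, h4]; group
        _ = _ := by rw [h3]
    · have hr : x⁻¹ ∈ F.R g r d1 := by
        rw [← h.rr]; exact inv_mem (mul_mem h.ze_rR h.ze_rR)
      have := hinv x⁻¹ ⟨hr, r, h.ze_rR, ?_⟩
      · rwa [inv_inv] at this
      have h1 := h.ze_ti h.ze_rR
      have h2 : r⁻¹ * F.v2 = F.v2 * r⁻¹ := by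
        rw [inv_mul_eq_iff_eq_mul, ← mul_assoc, rv2, mul_inv_cancel_right]
      calc r * (F.t * F.v2) * r⁻¹ = r * F.t * F.v2 * r⁻¹ := by group
        _ = F.t * (r⁻¹ * F.v2) * r⁻¹ := by rw [h1]; group
        _ = F.t * F.v2 * (r * r)⁻¹ := by rw [h2]; group
        _ = _ := by rw [h.rr]
  | one => exact ⟨one_mem _, 1, one_mem _, by group⟩
  | mul x y _ _ hx hy =>
    obtain ⟨hx, e, he, h1⟩ := hx
    obtain ⟨hy, e', he', h2⟩ := hy
    refine ⟨mul_mem hx hy, e * e', mul_mem he he', ?_⟩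
    have c := h.ze_cm hy (inv_mem he)
    calc e * e' * (F.t * F.v2) * (e * e')⁻¹ = e * (e' * (F.t * F.v2) * e'⁻¹) * e⁻¹ := by group
      _ = e * (F.t * F.v2) * (y * e⁻¹) := by rw [h2]; group
      _ = e * (F.t * F.v2) * e⁻¹ * y := by rw [c]; group
      _ = _ := by rw [h1]; group
  | inv x _ hx => exact hinv x hx

/-- `f` can be adjusted by an element of `R1` to centralise `t v2` -/
theorem ZZ.ze_adj (h : F.ZZ u0 g g' r r' d1 d2 η1 η2)
    (nv : ∀ m ∈ closure ({g, r, F.u1} : Set G), F.Om (F.t * m) → m ∈ closure ({g, u0} : Set G)) {f e : G}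
    (h1 : f ∈ 𝐍((F.R g r d1 ⊔ closure {F.t, F.v2} : Subgroup G))) (h2 : f ∈ 𝐍(F.R g r d1))
    (he : e ∈ F.R g r d1) (h3 : f * F.t * f⁻¹ = F.t * e) :
    ∃ e' ∈ F.R g r d1, e' * (F.t * F.v2) * e'⁻¹ = f * (F.t * F.v2) * f⁻¹ := by
  have tS : F.t ∈ (F.R g r d1 ⊔ closure {F.t, F.v2} : Subgroup G) :=
    mem_sup_right (subset_closure (by simp))
  have vS : F.v2 ∈ (F.R g r d1 ⊔ closure {F.t, F.v2} : Subgroup G) :=
    mem_sup_right (subset_closure (by simp))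
  have o0 : F.Om (F.t * F.v2) := Om.of_cj d2 (by rw [h.ze_r0]; exact F.om_t)
  have o := o0.cj f
  have xx := o.sq.1
  obtain ⟨e1, he1, a, c, hx⟩ := h.memS.1 (conj_mem_of_mem_normalizer h1 (mul_mem tS vS))
  fin_cases a <;> fin_cases c
  · exfalso
    simp only [Fin.zero_eta, Fin.val_zero, pow_zero, one_mul] at hx
    have m := conj_mem_of_mem_normalizer' h2 (hx ▸ he1)
    have := h.indS (a := 1) (b := 1) (by simpa [mul_assoc] using m)
    exact absurd this.1 (by decide)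
  · exfalso
    simp only [Fin.zero_eta, Fin.val_zero, pow_zero, one_mul, Fin.mk_one, Fin.val_one, pow_one] at hx
    rw [hx] at o xx
    have i : F.v2 * e1 * F.v2 = e1⁻¹ := by
      rw [eq_inv_iff_mul_eq_one, ← xx]; group
    rcases (h.cv2 he1).2 i with m | m
    · exact h.ze_nX2 m o
    · refine h.ze_nX2 m (Om.of_cj d1⁻¹ ?_)
      have c := h.ze_cm (h.XR (F.F0X1 m)) h.ze_dR
      have : d1⁻¹ * (F.v2 * ((g * F.v1)⁻¹ * e1)) * d1⁻¹⁻¹ = F.v2 * e1 := by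
        calc _ = d1⁻¹ * F.v2 * ((g * F.v1)⁻¹ * e1 * d1) := by group
          _ = d1⁻¹ * F.v2 * d1 * ((g * F.v1)⁻¹ * e1) := by rw [c]; group
          _ = _ := by rw [h.c1]; group
      rwa [this]
  · exfalso
    simp only [Fin.zero_eta, Fin.val_zero, pow_zero, mul_one, Fin.mk_one, Fin.val_one, pow_one] at hx
    have : f * F.v2 * f⁻¹ = e⁻¹ * e1 := by
      calc _ = (f * F.t * f⁻¹)⁻¹ * (f * (F.t * F.v2) * f⁻¹) := by group
        _ = _ := by rw [h3, hx]; group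
    have m := conj_mem_of_mem_normalizer' h2 (this ▸ mul_mem (inv_mem he) he1)
    have := h.indS (a := 0) (b := 1) (by simpa [mul_assoc] using m)
    exact absurd this.2 (by decide)
  · simp only [Fin.mk_one, Fin.val_one, pow_one] at hx
    rw [hx] at o xx ⊢
    have c : e1 * F.v2 = F.v2 * e1 := by
      have i : F.t * F.v2 * e1 * (F.t * F.v2 * e1) = F.v2 * e1⁻¹ * F.v2 * e1 := by
        calc _ = F.t * F.v2 * (e1 * F.t) * F.v2 * e1 := by group
          _ = F.t * (F.v2 * F.t) * e1⁻¹ * F.v2 * e1 := by rw [h.ze_ti he1]; group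
          _ = _ := by rw [← F.tv2, ← mul_assoc, F.tt, one_mul]
      rw [i] at xx
      have i2 : F.v2⁻¹ = F.v2 := inv_eq_of_mul_eq_one_right F.v22
      calc e1 * F.v2 = e1 * F.v2⁻¹ * (F.v2 * e1⁻¹ * F.v2 * e1) := by rw [xx, i2, mul_one]
        _ = _ := by group
    have mM := (h.cv2 he1).1 c
    have c2 := conj_eq_of_mem_centralizer h.d2M mM
    have o2 : F.Om (F.t * e1) := by
      have := o.cj d2
      have e2 : d2 * (F.t * F.v2 * e1) * d2⁻¹ = d2 * (F.t * F.v2) * d2⁻¹ * (d2 * e1 * d2⁻¹) := by group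
      rwa [e2, h.ze_r0, c2] at this
    exact (h.ze_cj (nv _ mM o2)).2

theorem ZZ.ze_T (h : F.ZZ u0 g g' r r' d1 d2 η1 η2) :
    ((F.R g r d1 ⊔ closure {F.t, F.v2} : Subgroup G) ^ᶜ d2) ⊓ centralizer {F.t} = F.T := by
  have tS : F.t ∈ (F.R g r d1 ⊔ closure {F.t, F.v2} : Subgroup G) :=
    mem_sup_right (subset_closure (by simp))
  have vS : F.v2 ∈ (F.R g r d1 ⊔ closure {F.t, F.v2} : Subgroup G) :=
    mem_sup_right (subset_closure (by simp))
  have uM : F.u1 ∈ closure ({g, r, F.u1} : Set G) := subset_closure (by simp)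
  have Su : (F.R g r d1 ⊔ closure {F.t, F.v2} : Subgroup G) ≤ centralizer {F.u1} :=
    sup_le (fun x hx => mem_centralizer_singleton_iff.2 (h.ze_cm hx (h.MR uM))) ((closure_le _).2 (by
      rintro x (rfl | rfl)
      exacts [mem_centralizer_singleton_iff.2 F.tu1, mem_centralizer_singleton_iff.2 F.u1v2.symm]))
  refine F.sylTu.max _ (le_inf ?_ F.TC) (fun x hx => ⟨hx.2, by
    have := cj_mono d2 Su hx.1
    rwa [cj_centralizer_singleton, conj_eq_of_mem_centralizer h.d2M uM] at this⟩)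
    ((isPGroup_cj h.isP d2).to_le inf_le_left)
  rw [F.T_eq, closure_le]
  intro x hx
  simp only [Set.mem_insert_iff, Set.mem_singleton_iff] at hx
  rw [SetLike.mem_coe, mem_cj]
  rcases hx with rfl | rfl | rfl | rfl
  · have : d2⁻¹ * F.t * d2 = F.t * F.v2 := by
      conv_lhs => rw [← h.ze_r0]
      group
    rw [this]; exact mul_mem tS vS
  · rw [h.c2]
    have : g' ∈ F.R g r d1 := by
      simpa using mul_mem h.ze_gR (h.XR (F.F0X1 h.hg'))
    exact mul_mem (mul_mem (mem_sup_left h.ze_v1R) (mem_sup_left this)) vS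
  · have : d2⁻¹ * F.v2 * d2 = F.v2 := by rw [← h.d22]; group
    rwa [this]
  · have := conj_eq_of_mem_centralizer (inv_mem h.d2M) (a := F.u1) (subset_closure (by simp))
    rw [inv_inv] at this
    rw [this]
    exact mem_sup_left (subset_closure (by simp))

theorem ZZ.ze_ptS (h : F.ZZ u0 g g' r r' d1 d2 η1 η2) {s e : G}
    (hs : s ∈ (F.R g r d1 ⊔ closure {F.t, F.v2} : Subgroup G)) (h3 : s * F.t * s⁻¹ = F.t * e) :
    e * e = 1 := by
  obtain ⟨e1, he1, a, c, rfl⟩ := h.memS.1 hs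
  have c1 : F.t ^ (a : ℕ) * F.v2 ^ (c : ℕ) * F.t = F.t * (F.t ^ (a : ℕ) * F.v2 ^ (c : ℕ)) :=
    (((Commute.refl F.t).pow_left _).mul_left
      ((show Commute F.v2 F.t from F.tv2.symm).pow_left _)).eq
  generalize F.t ^ (a : ℕ) * F.v2 ^ (c : ℕ) = w at h3 c1
  have q := F.sqW1 (F.X1W1 (h.sq (inv_mem he1)).1)
  have : e = w * (e1⁻¹ * e1⁻¹) * w⁻¹ := by
    apply mul_left_cancel (a := F.t)
    rw [← h3]
    calc w * e1 * F.t * (w * e1)⁻¹ = w * (e1 * F.t) * e1⁻¹ * w⁻¹ := by group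
      _ = w * F.t * (e1⁻¹ * e1⁻¹) * w⁻¹ := by rw [h.ze_ti he1]; group
      _ = _ := by rw [c1]; group
  rw [this]
  exact cjsq q w

theorem ZZ.kill (h : F.ZZ u0 g g' r r' d1 d2 η1 η2) (nv : ∀ m ∈ closure ({g, r, F.u1} : Set G), F.Om (F.t * m) → m ∈ closure ({g, u0} : Set G)) {f e : G}
    (h1 : f ∈ 𝐍((F.R g r d1 ⊔ closure {F.t, F.v2} : Subgroup G))) (h2 : f ∈ 𝐍(F.R g r d1))
    (he : e ∈ F.R g r d1) (h3 : f * F.t * f⁻¹ = F.t * e) (h4 : e * e = F.z) :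
    F.dl ≠ 1 ∧ f * F.u1 * f⁻¹ = F.u2 := by
  obtain ⟨e', he', h5⟩ := h.ze_adj nv h1 h2 he h3
  obtain ⟨k, hk⟩ : ∃ k, k = e'⁻¹ * f := ⟨_, rfl⟩
  have k1 : k ∈ 𝐍((F.R g r d1 ⊔ closure {F.t, F.v2} : Subgroup G)) :=
    hk ▸ mul_mem (inv_mem (le_normalizer (mem_sup_left he'))) h1
  have k2 : k ∈ 𝐍(F.R g r d1) := hk ▸ mul_mem (inv_mem (le_normalizer he')) h2
  have k3 : k * F.t * k⁻¹ = F.t * (e' * e * e') := by
    have i : e'⁻¹ * F.t = F.t * e' := by simpa using h.ze_ti (inv_mem he')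
    calc k * F.t * k⁻¹ = e'⁻¹ * (f * F.t * f⁻¹) * e' := by rw [hk]; group
      _ = e'⁻¹ * F.t * e * e' := by rw [h3]; group
      _ = _ := by rw [i]; group
  have hE : e' * e * e' ∈ F.R g r d1 := mul_mem (mul_mem he' he) he'
  have k4 : e' * e * e' * (e' * e * e') = F.z := by
    have c := h.ze_cm he' he
    have q := F.sqW1 (F.X1W1 (h.sq he').1)
    calc e' * e * e' * (e' * e * e') = e' * e * e' * e' * e * e' := by group
      _ = e * e * (e' * e' * (e' * e')) := by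
        have c' : Commute e' e := c
        rw [c, mul_assoc _ e' e, c, ← mul_assoc, mul_assoc _ e' e, c, ← mul_assoc,
          mul_assoc _ e' e, c]
        group
      _ = _ := by rw [q, h4, mul_one]
  generalize e' * e * e' = ε at k3 hE k4
  have k5 : k * (F.t * F.v2) * k⁻¹ = F.t * F.v2 := by
    calc _ = e'⁻¹ * (f * (F.t * F.v2) * f⁻¹) * e' := by rw [hk]; group
      _ = _ := by rw [← h5]; group
  have fin : k * F.u1 * k⁻¹ = F.u2 → f * F.u1 * f⁻¹ = F.u2 := fun a => by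
    have b := B2.cj_of_comm (h.ze_cm he' (h.XR F.u2X1))
    rw [← b, ← a, hk]; group
  clear hk h5 h1 h2 h3 h4 he he'
  have ct : d2 * k * d2⁻¹ * F.t = F.t * (d2 * k * d2⁻¹) := by
    rw [← mul_inv_eq_iff_eq_mul]
    calc d2 * k * d2⁻¹ * F.t * (d2 * k * d2⁻¹)⁻¹
        = d2 * k * d2⁻¹ * (d2 * (F.t * F.v2) * d2⁻¹) * (d2 * k * d2⁻¹)⁻¹ := by rw [h.ze_r0]
      _ = d2 * (k * (F.t * F.v2) * k⁻¹) * d2⁻¹ := by group
      _ = _ := by rw [k5, h.ze_r0]
  have nT : d2 * k * d2⁻¹ ∈ 𝐍(F.T) := by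
    rw [← h.ze_T, ← cj_eq_self_iff, cj_inf, cj_centralizer_singleton, ct, mul_inv_cancel_right]
    congr 1
    rw [cj_eq_self_iff, ← cj_normalizer]
    exact cj_mem d2 k1
  rcases F.swu ct nT with nN | ⟨dd, -, a, -⟩
  swap
  · refine ⟨dd, fin ?_⟩
    have FM : ∀ x ∈ F.F0, d2⁻¹ * x * d2 = x := fun x hx => by
      have := conj_eq_of_mem_centralizer (inv_mem h.d2M) (a := x) (h.memM.2 ⟨x, hx, 0, 0, by simp⟩)
      rwa [inv_inv] at this
    rw [← FM F.u2 (subset_closure (by simp)), ← a]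
    conv_lhs => rw [← FM F.u1 (subset_closure (by simp))]
    group
  exfalso
  have kz : k * F.z * k⁻¹ = F.z := by
    have a1 := F.Nz nT
    have a2 : d2⁻¹ * F.z * d2 = F.z := by
      have := conj_eq_of_mem_centralizer (inv_mem h.d2M) (a := F.z)
        (by rw [← h.gg]; exact mul_mem (subset_closure (by simp)) (subset_closure (by simp)))
      rwa [inv_inv] at this
    calc k * F.z * k⁻¹ = k * (d2⁻¹ * F.z * d2) * k⁻¹ := by rw [a2]
      _ = d2⁻¹ * (d2 * k * d2⁻¹ * F.z) * d2 * k⁻¹ := by group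
      _ = d2⁻¹ * F.z * d2 := by rw [a1]; group
      _ = _ := a2
  have pt : ∀ i : ℕ, ∃ x ∈ F.R g r d1, k ^ i * F.t * (k ^ i)⁻¹ = F.t * x ∧ x * x = F.z ^ i := by
    intro i
    induction i with
    | zero => exact ⟨1, one_mem _, by simp, by simp⟩
    | succ i ih =>
      obtain ⟨x, hx, a1, a2⟩ := ih
      have m := conj_mem_of_mem_normalizer k2 hx
      refine ⟨ε * (k * x * k⁻¹), mul_mem hE m, ?_, ?_⟩
      · calc k ^ (i + 1) * F.t * (k ^ (i + 1))⁻¹ = k * (k ^ i * F.t * (k ^ i)⁻¹) * k⁻¹ := by group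
          _ = k * F.t * k⁻¹ * (k * x * k⁻¹) := by rw [a1]; group
          _ = _ := by rw [k3, mul_assoc]
      · have c := h.ze_cm m hE
        calc ε * (k * x * k⁻¹) * (ε * (k * x * k⁻¹)) = ε * (k * x * k⁻¹ * ε) * (k * x * k⁻¹) := by group
          _ = ε * ε * (k * (x * x) * k⁻¹) := by rw [c]; group
          _ = _ := by rw [k4, a2, ← conj_pow, kz, pow_succ']
  obtain ⟨n, hn, p2⟩ := exists_odd_P2 k
  have mT : d2 * k ^ n * d2⁻¹ ∈ F.T := by
    refine F.p2T ?_ ?_ ?_ (p2.conj d2)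
    · rw [← conj_pow]; exact ((show Commute (d2 * k * d2⁻¹) F.t from ct).pow_left n).eq
    · rw [← conj_pow]; exact Subgroup.pow_mem _ nT n
    · rw [← conj_pow]; exact Subgroup.pow_mem _ nN.2.1 n
  rw [← h.ze_T] at mT
  obtain ⟨x, -, a1, a2⟩ := pt n
  have := h.ze_ptS (cj_mem_iff.1 mT.1) a1
  rw [a2, pow_odd_of_sq F.zz hn] at this
  exact F.z1 this

end Fr

end H25.A6
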